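import Mathlib
import Groth.Prelude.Def_HopfRep
import Groth.Prelude.Def_Hoch

/-!
# helper9: the complete lattice of subcomodules of a comodule over a field

Subcomodules (in the sense of `HopfRep.IsSubcomod`) are closed under arbitrary sums and
intersections, hence form a complete sublattice of the submodule lattice; it is modular and
compactly generated, so the general lattice theory of Mathlib applies.
-/

open TensorProduct

namespace H9Comod

universe u v w

section Tensor

variable {k : Type u} [Field k] {V : Type w} [AddCommGroup V] [Module k V]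

lemma mem_range_rTensor_iff {E : Type*} [AddCommGroup E] [Module k E] {κ : Type*} [DecidableEq κ]
    (𝒞 : Module.Basis κ k E) (W : Submodule k V) (t : V ⊗[k] E) :
    t ∈ LinearMap.range (W.subtype.rTensor E) ↔
      ∀ b, TensorProduct.equivFinsuppOfBasisRight 𝒞 t b ∈ W := by
  constructor
  · rintro ⟨s, rfl⟩ b
    induction s using TensorProduct.induction_on with
    | zero => simp
    | tmul w d =>
      simp only [LinearMap.rTensor_tmul, Submodule.subtype_apply,
        TensorProduct.equivFinsuppOfBasisRight_apply_tmul_apply]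
      exact W.smul_mem _ w.2
    | add x y hx hy =>
      simp only [map_add, Finsupp.add_apply]
      exact W.add_mem hx hy
  · intro h
    have ht : t = (TensorProduct.equivFinsuppOfBasisRight 𝒞).symm
        (TensorProduct.equivFinsuppOfBasisRight 𝒞 t) := by simp
    rw [ht, TensorProduct.equivFinsuppOfBasisRight_symm_apply, Finsupp.sum]
    apply Submodule.sum_mem
    intro b _
    exact ⟨(⟨_, h b⟩ : W) ⊗ₜ 𝒞 b, by simp⟩

lemma mem_range_rTensor_sInf (E : Type*) [AddCommGroup E] [Module k E]
    (S : Set (Submodule k V)) (t : V ⊗[k] E)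
    (h : ∀ K ∈ S, t ∈ LinearMap.range (K.subtype.rTensor E)) :
    t ∈ LinearMap.range ((sInf S).subtype.rTensor E) := by
  classical
  let 𝒞 := Module.Basis.ofVectorSpace k E
  rw [mem_range_rTensor_iff 𝒞]
  intro b
  rw [Submodule.mem_sInf]
  intro K hK
  exact (mem_range_rTensor_iff 𝒞 K t).1 (h K hK) b

lemma range_rTensor_mono (E : Type*) [AddCommGroup E] [Module k E] {W W' : Submodule k V}
    (h : W ≤ W') :
    LinearMap.range (W.subtype.rTensor E) ≤ LinearMap.range (W'.subtype.rTensor E) := by
  rintro _ ⟨s, rfl⟩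
  refine ⟨(Submodule.inclusion h).rTensor E s, ?_⟩
  rw [← LinearMap.comp_apply, ← LinearMap.rTensor_comp]
  rfl

end Tensor

section Lattice

variable {k : Type u} [Field k] {A : Type v} [AddCommGroup A] [Module k A] [Coalgebra k A]
variable {V : Type w} [AddCommGroup V] [Module k V] [HopfRep.Comod k A V]

theorem isSubcomod_sInf (S : Set (Submodule k V))
    (h : ∀ W ∈ S, HopfRep.IsSubcomod (k := k) (A := A) W) :
    HopfRep.IsSubcomod (k := k) (A := A) (sInf S) := by
  intro w hw
  apply mem_range_rTensor_sInf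
  intro K hK
  exact h K hK w (Submodule.mem_sInf.1 hw K hK)

theorem isSubcomod_sSup (S : Set (Submodule k V))
    (h : ∀ W ∈ S, HopfRep.IsSubcomod (k := k) (A := A) W) :
    HopfRep.IsSubcomod (k := k) (A := A) (sSup S) := by
  intro w hw
  rw [sSup_eq_iSup'] at hw
  refine Submodule.iSup_induction (p := fun (K : S) => (K : Submodule k V))
    (motive := fun w => HopfRep.Comod.coact (k := k) (A := A) w ∈
      LinearMap.range ((sSup S).subtype.rTensor A)) hw ?_ ?_ ?_
  · intro K x hx
    exact range_rTensor_mono A (le_sSup K.2) (h K K.2 x hx)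
  · simp
  · intro x y hx hy
    rw [map_add]
    exact Submodule.add_mem _ hx hy

variable (k A V) in
/-- The complete sublattice of subcomodules. -/
def subL : CompleteSublattice (Submodule k V) :=
  CompleteSublattice.mk' {W | HopfRep.IsSubcomod (k := k) (A := A) W}
    (fun s hs => isSubcomod_sSup s (fun _ hW => hs hW))
    (fun s hs => isSubcomod_sInf s (fun _ hW => hs hW))

lemma mem_subL {W : Submodule k V} : W ∈ subL k A V ↔ HopfRep.IsSubcomod (k := k) (A := A) W :=
  Iff.rfl

instance : IsModularLattice (subL k A V) :=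
  ⟨fun {x} y {z} hxz => by
    change ((x : Submodule k V) ⊔ y) ⊓ z ≤ (x : Submodule k V) ⊔ y ⊓ z
    exact sup_inf_le_assoc_of_le (y : Submodule k V) hxz⟩

instance : IsCompactlyGenerated (subL k A V) := ⟨fun W => by
  let gen : V → subL k A V := fun v => sInf {K | v ∈ (K : Submodule k V)}
  have hgen_mem : ∀ v, v ∈ (gen v : Submodule k V) := by
    intro v
    simp only [gen, CompleteSublattice.coe_sInf, Submodule.mem_sInf]
    rintro _ ⟨K, hK, rfl⟩
    exact hK
  have hgen_le : ∀ v (K : subL k A V), v ∈ (K : Submodule k V) → gen v ≤ K :=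
    fun v K h => sInf_le h
  refine ⟨{K | ∃ v ∈ (W : Submodule k V), K = gen v}, ?_, ?_⟩
  · rintro _ ⟨v, hv, rfl⟩
    rw [CompleteLattice.isCompactElement_iff_le_of_directed_sSup_le]
    intro s hne hdir hle
    have hv' : v ∈ ((sSup s : subL k A V) : Submodule k V) := hle (hgen_mem v)
    rw [CompleteSublattice.coe_sSup] at hv'
    have hne' : {(K : Submodule k V) | K ∈ s}.Nonempty := by
      obtain ⟨K, hK⟩ := hne
      exact ⟨K, K, hK, rfl⟩
    have hdir' : DirectedOn (· ≤ ·) {(K : Submodule k V) | K ∈ s} := by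
      rintro _ ⟨K1, hK1, rfl⟩ _ ⟨K2, hK2, rfl⟩
      obtain ⟨K3, hK3, h13, h23⟩ := hdir K1 hK1 K2 hK2
      exact ⟨K3, ⟨K3, hK3, rfl⟩, h13, h23⟩
    obtain ⟨_, ⟨K, hK, rfl⟩, hvK⟩ := (Submodule.mem_sSup_of_directed hne' hdir').1 hv'
    exact ⟨K, hK, hgen_le v K hvK⟩
  · apply le_antisymm
    · apply sSup_le
      rintro _ ⟨v, hv, rfl⟩
      exact hgen_le v W hv
    · intro v hv
      have h1 : gen v ≤ sSup {K | ∃ v ∈ (W : Submodule k V), K = gen v} :=
        le_sSup ⟨v, hv, rfl⟩
      exact h1 (hgen_mem v)⟩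

theorem complementedLattice_iff :
    ComplementedLattice (subL k A V) ↔ HopfRep.IsSemisimpleComod k A V := by
  constructor
  · intro h W hW
    obtain ⟨W', hW'⟩ := h.exists_isCompl ⟨W, hW⟩
    refine ⟨W'.1, W'.2, ?_⟩
    rw [isCompl_iff, disjoint_iff, codisjoint_iff] at hW' ⊢
    exact ⟨congrArg Subtype.val hW'.1, congrArg Subtype.val hW'.2⟩
  · intro h
    constructor
    intro W
    obtain ⟨W', hW', hc⟩ := h W.1 W.2
    refine ⟨⟨W', hW'⟩, ?_⟩
    rw [isCompl_iff, disjoint_iff, codisjoint_iff] at hc ⊢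
    exact ⟨Subtype.ext hc.1, Subtype.ext hc.2⟩

theorem isAtom_iff (W : subL k A V) :
    IsAtom W ↔ ((W : Submodule k V) ≠ ⊥ ∧ ∀ W' : Submodule k V,
      HopfRep.IsSubcomod (k := k) (A := A) W' → W' ≤ (W : Submodule k V) →
        W' = ⊥ ∨ W' = (W : Submodule k V)) := by
  constructor
  · intro h
    refine ⟨fun h0 => h.1 (Subtype.ext h0), fun W' hW' hle => ?_⟩
    rcases eq_or_lt_of_le (show (⟨W', hW'⟩ : subL k A V) ≤ W from hle) with h1 | h1
    · right; exact congrArg Subtype.val h1
    · left; exact congrArg Subtype.val (h.2 _ h1)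
  · rintro ⟨h0, h1⟩
    refine ⟨fun h => h0 (congrArg Subtype.val h), fun W' hlt => ?_⟩
    rcases h1 W'.1 W'.2 hlt.le with h2 | h2
    · exact Subtype.ext h2
    · exact absurd (Subtype.ext h2) hlt.ne

end Lattice

end H9Comod
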