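import Mathlib
import Groth.Prelude.Def_HopfRep
import Groth.Prelude.Def_Hoch
import Groth.Prelude.Def_ComodSub
import Groth.Agent.Lib.helper9.Comod

/-!
# helper9: morphisms of comodules over a field, Schur-type lemmas
-/

open TensorProduct

namespace H9Comod

universe u v w w' w''

section Hom

variable {k : Type u} [Field k] {A : Type v} [AddCommGroup A] [Module k A] [Coalgebra k A]
variable {V : Type w} [AddCommGroup V] [Module k V] [HopfRep.Comod k A V]
variable {W : Type w'} [AddCommGroup W] [Module k W] [HopfRep.Comod k A W]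
variable {U : Type w''} [AddCommGroup U] [Module k U] [HopfRep.Comod k A U]

lemma isComodHom_apply {f : V →ₗ[k] W} (hf : Hoch.IsComodHom A f) (v : V) :
    HopfRep.Comod.coact (k := k) (A := A) (f v) =
      f.rTensor A (HopfRep.Comod.coact (k := k) (A := A) v) :=
  LinearMap.congr_fun hf v

lemma isComodHom_comp {f : V →ₗ[k] W} {g : W →ₗ[k] U} (hf : Hoch.IsComodHom A f)
    (hg : Hoch.IsComodHom A g) : Hoch.IsComodHom A (g ∘ₗ f) := by
  apply LinearMap.ext
  intro v
  simp only [LinearMap.comp_apply]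
  rw [isComodHom_apply hg, isComodHom_apply hf, ← LinearMap.comp_apply, ← LinearMap.rTensor_comp]

lemma isComodHom_zero : Hoch.IsComodHom A (0 : V →ₗ[k] W) := by
  apply LinearMap.ext
  intro v
  simp

lemma equivFinsupp_rTensor {E : Type*} [AddCommGroup E] [Module k E] {κ : Type*} [DecidableEq κ]
    (𝒞 : Module.Basis κ k E) (f : V →ₗ[k] W) (t : V ⊗[k] E) (b : κ) :
    TensorProduct.equivFinsuppOfBasisRight 𝒞 (f.rTensor E t) b =
      f (TensorProduct.equivFinsuppOfBasisRight 𝒞 t b) := by
  induction t using TensorProduct.induction_on with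
  | zero => simp
  | tmul v e => simp
  | add x y hx hy => simp [hx, hy]

theorem isSubcomod_top : HopfRep.IsSubcomod (k := k) (A := A) (⊤ : Submodule k V) :=
  (subL k A V).top_mem

theorem isSubcomod_bot : HopfRep.IsSubcomod (k := k) (A := A) (⊥ : Submodule k V) :=
  (subL k A V).bot_mem

theorem isSubcomod_comap {f : V →ₗ[k] W} (hf : Hoch.IsComodHom A f) {U : Submodule k W}
    (hU : HopfRep.IsSubcomod (k := k) (A := A) U) :
    HopfRep.IsSubcomod (k := k) (A := A) (U.comap f) := by
  classical
  intro v hv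
  let 𝒞 := Module.Basis.ofVectorSpace k A
  rw [mem_range_rTensor_iff 𝒞]
  intro b
  rw [Submodule.mem_comap, ← equivFinsupp_rTensor, ← isComodHom_apply hf]
  exact (mem_range_rTensor_iff 𝒞 U _).1 (hU (f v) hv) b

theorem isSubcomod_map {f : V →ₗ[k] W} (hf : Hoch.IsComodHom A f) {U : Submodule k V}
    (hU : HopfRep.IsSubcomod (k := k) (A := A) U) :
    HopfRep.IsSubcomod (k := k) (A := A) (U.map f) := by
  rintro _ ⟨u, hu, rfl⟩
  rw [isComodHom_apply hf]
  obtain ⟨s, hs⟩ := hU u hu
  rw [← hs, ← LinearMap.comp_apply, ← LinearMap.rTensor_comp]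
  let g : U →ₗ[k] (U.map f) :=
    (f.domRestrict U).codRestrict (U.map f) (fun x => ⟨x, x.2, rfl⟩)
  have : f ∘ₗ U.subtype = (U.map f).subtype ∘ₗ g := by ext x; rfl
  rw [this, LinearMap.rTensor_comp, LinearMap.comp_apply]
  exact ⟨_, rfl⟩

theorem isSubcomod_range {f : V →ₗ[k] W} (hf : Hoch.IsComodHom A f) :
    HopfRep.IsSubcomod (k := k) (A := A) (LinearMap.range f) := by
  rw [← Submodule.map_top]
  exact isSubcomod_map hf isSubcomod_top

theorem isSubcomod_ker {f : V →ₗ[k] W} (hf : Hoch.IsComodHom A f) :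
    HopfRep.IsSubcomod (k := k) (A := A) (LinearMap.ker f) := by
  rw [← Submodule.comap_bot]
  exact isSubcomod_comap hf isSubcomod_bot

theorem injective_of_simple {f : V →ₗ[k] W} (hf : Hoch.IsComodHom A f)
    (hV : HopfRep.IsSimpleComod k A V) (h0 : f ≠ 0) : Function.Injective f := by
  rw [← LinearMap.ker_eq_bot]
  rcases hV.2 _ (isSubcomod_ker hf) with h | h
  · exact h
  · exact absurd (LinearMap.ker_eq_top.1 h) h0

theorem isAtom_range {u : V →ₗ[k] W} (hu : Hoch.IsComodHom A u)
    (hV : HopfRep.IsSimpleComod k A V) (hinj : Function.Injective u) :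
    IsAtom (⟨LinearMap.range u, isSubcomod_range hu⟩ : subL k A W) := by
  rw [isAtom_iff]
  refine ⟨?_, ?_⟩
  · intro h
    change LinearMap.range u = ⊥ at h
    rw [LinearMap.range_eq_bot] at h
    have := hV.1
    obtain ⟨x, y, hxy⟩ := exists_pair_ne V
    apply hxy
    apply hinj
    simp [h]
  · intro W' hW' hle
    change W' ≤ LinearMap.range u at hle
    change W' = ⊥ ∨ W' = LinearMap.range u
    rcases hV.2 _ (isSubcomod_comap hu hW') with h | h
    · left
      rw [← Submodule.map_comap_eq_of_le hle, h, Submodule.map_bot]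
    · right
      rw [← Submodule.map_comap_eq_of_le hle, h, Submodule.map_top]

theorem exists_iso_of_range_eq {f : V →ₗ[k] U} {h : W →ₗ[k] U}
    (hf : Hoch.IsComodHom A f) (hh : Hoch.IsComodHom A h) (finj : Function.Injective f)
    (hinj : Function.Injective h) (hr : LinearMap.range f = LinearMap.range h) :
    ∃ e : V ≃ₗ[k] W, Hoch.IsComodHom A (e : V →ₗ[k] W) ∧ h ∘ₗ (e : V →ₗ[k] W) = f := by
  let e : V ≃ₗ[k] W := (LinearEquiv.ofInjective f finj).trans
    ((LinearEquiv.ofEq _ _ hr).trans (LinearEquiv.ofInjective h hinj).symm)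
  have he : ∀ s, h (e s) = f s := by
    intro s
    simp [e]
  have hcomp : h ∘ₗ (e : V →ₗ[k] W) = f := LinearMap.ext he
  refine ⟨e, ?_, hcomp⟩
  have hflat : Function.Injective (h.rTensor A) :=
    Module.Flat.rTensor_preserves_injective_linearMap h hinj
  apply LinearMap.ext
  intro s
  apply hflat
  simp only [LinearMap.comp_apply]
  rw [← isComodHom_apply hh, ← LinearMap.comp_apply (h.rTensor A), ← LinearMap.rTensor_comp,
    hcomp, LinearEquiv.coe_coe, he, isComodHom_apply hf]

end Hom

section ClaimA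

variable {k : Type u} [Field k] {A : Type v} [AddCommGroup A] [Module k A] [Coalgebra k A]
variable {V : Type w} [AddCommGroup V] [Module k V] [HopfRep.Comod k A V]

/-- If the image of a nonzero map from a simple comodule lies in a sum of images of maps from
simple comodules, then the source is isomorphic to one of them. -/
theorem exists_iso_of_range_le_iSup_range
    {S' : Type w'} [AddCommGroup S'] [Module k S'] [HopfRep.Comod k A S']
    (hS' : HopfRep.IsSimpleComod k A S')
    {u : S' →ₗ[k] V} (hu : Hoch.IsComodHom A u) (hu0 : u ≠ 0)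
    {ι : Type*} (S : ι → Type w'') [∀ i, AddCommGroup (S i)] [∀ i, Module k (S i)]
    [∀ i, HopfRep.Comod k A (S i)]
    (hS : ∀ i, HopfRep.IsSimpleComod k A (S i)) (f : ∀ i, S i →ₗ[k] V)
    (hf : ∀ i, Hoch.IsComodHom A (f i))
    (hle : LinearMap.range u ≤ ⨆ i, LinearMap.range (f i)) :
    ∃ i, ∃ e : S' ≃ₗ[k] S i, Hoch.IsComodHom A (e : S' →ₗ[k] S i) := by
  have uinj := injective_of_simple hu hS' hu0
  let T : subL k A V := ⟨LinearMap.range u, isSubcomod_range hu⟩
  have hT : IsAtom T := isAtom_range hu hS' uinj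
  let R : ι → subL k A V := fun i => ⟨LinearMap.range (f i), isSubcomod_range (hf i)⟩
  let c : subL k A V := ⨆ i, R i
  have hc : (c : Submodule k V) = ⨆ i, LinearMap.range (f i) := by
    simp [c, R]
  have hTc : T ≤ c := by
    change (T : Submodule k V) ≤ c
    rw [hc]; exact hle
  have hR : ∀ i, R i = ⊥ ∨ IsAtom (R i) := by
    intro i
    by_cases h0 : f i = 0
    · left
      apply Subtype.ext
      simp [R, h0]
    · right
      exact isAtom_range (hf i) (hS i) (injective_of_simple (hf i) (hS i) h0)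
  have hatoms : sSup {a | a ≤ c ∧ IsAtom a} = c := by
    apply le_antisymm
    · exact sSup_le (fun a ha => ha.1)
    · apply iSup_le
      intro i
      rcases hR i with h | h
      · rw [h]; exact bot_le
      · exact le_sSup ⟨le_iSup R i, h⟩
  obtain ⟨s, -, hdisj, hsup, -⟩ := exists_sSupIndep_disjoint_sSup_atoms T c hTc hatoms
  set T' : subL k A V := sSup s with hT'
  let cq : HopfRep.Comod k A (V ⧸ (T' : Submodule k V)) :=
    ComodSub.Comod.quot inferInstance (T' : Submodule k V) T'.2
  let q : V →ₗ[k] V ⧸ (T' : Submodule k V) := (T' : Submodule k V).mkQ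
  have hq : Hoch.IsComodHom A q := ComodSub.isComodHom_mkQ _ _ _
  have hTT' : (T : Submodule k V) ⊓ (T' : Submodule k V) = ⊥ := by
    have := disjoint_iff.1 hdisj
    exact congrArg Subtype.val this
  have hsup' : (T : Submodule k V) ⊔ (T' : Submodule k V) = ⨆ i, LinearMap.range (f i) := by
    rw [← hc, ← hsup]; rfl
  have hex : ∃ i, q ∘ₗ f i ≠ 0 := by
    by_contra hcon
    push Not at hcon
    have h1 : ∀ i, LinearMap.range (f i) ≤ (T' : Submodule k V) := by
      rintro i _ ⟨x, rfl⟩
      have := LinearMap.congr_fun (hcon i) x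
      simpa [q] using this
    have h2 : (T : Submodule k V) ≤ T' := le_trans hle (iSup_le h1)
    have h3 : (T : Submodule k V) = ⊥ := by
      rw [← hTT']; exact (inf_eq_left.2 h2).symm
    exact hT.1 (Subtype.ext h3)
  obtain ⟨i, hi⟩ := hex
  have hg : Hoch.IsComodHom A (q ∘ₗ f i) := isComodHom_comp (hf i) hq
  have ginj := injective_of_simple hg (hS i) hi
  have hu' : Hoch.IsComodHom A (q ∘ₗ u) := isComodHom_comp hu hq
  have u'inj : Function.Injective (q ∘ₗ u) := by
    rw [← LinearMap.ker_eq_bot, LinearMap.ker_eq_bot']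
    intro x hx
    have h1 : u x ∈ (T' : Submodule k V) := by simpa [q] using hx
    have h2 : u x ∈ (T : Submodule k V) ⊓ (T' : Submodule k V) := ⟨⟨x, rfl⟩, h1⟩
    rw [hTT'] at h2
    exact uinj (by simpa using h2)
  have hrange_le : LinearMap.range (q ∘ₗ f i) ≤ LinearMap.range (q ∘ₗ u) := by
    rintro _ ⟨x, rfl⟩
    have h1 : f i x ∈ (T : Submodule k V) ⊔ (T' : Submodule k V) := by
      rw [hsup']; exact Submodule.mem_iSup_of_mem i ⟨x, rfl⟩
    obtain ⟨t, ht, t', ht', hsum⟩ := Submodule.mem_sup.1 h1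
    obtain ⟨y, rfl⟩ := ht
    refine ⟨y, ?_⟩
    simp only [LinearMap.comp_apply]
    rw [← hsum, map_add]
    have : q t' = 0 := by simpa [q] using ht'
    rw [this, add_zero]
  have hrange_eq : LinearMap.range (q ∘ₗ u) = LinearMap.range (q ∘ₗ f i) := by
    apply le_antisymm _ hrange_le
    rcases hS'.2 _ (isSubcomod_comap hu' (isSubcomod_range hg)) with h | h
    · exfalso
      apply hi
      have : LinearMap.range (q ∘ₗ f i) = ⊥ := by
        rw [← Submodule.map_comap_eq_of_le hrange_le, h, Submodule.map_bot]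
      exact LinearMap.range_eq_bot.1 this
    · rintro _ ⟨x, rfl⟩
      have : x ∈ Submodule.comap (q ∘ₗ u) (LinearMap.range (q ∘ₗ f i)) := by rw [h]; trivial
      exact this
  obtain ⟨e, he, -⟩ := exists_iso_of_range_eq hu' hg u'inj ginj hrange_eq
  exact ⟨i, e, he⟩

theorem isSubcomod_iSup {ι : Sort*} (W : ι → Submodule k V)
    (h : ∀ i, HopfRep.IsSubcomod (k := k) (A := A) (W i)) :
    HopfRep.IsSubcomod (k := k) (A := A) (⨆ i, W i) := by
  apply isSubcomod_sSup
  rintro _ ⟨i, rfl⟩
  exact h i

theorem isSubcomod_inf {W W' : Submodule k V} (h : HopfRep.IsSubcomod (k := k) (A := A) W)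
    (h' : HopfRep.IsSubcomod (k := k) (A := A) W') :
    HopfRep.IsSubcomod (k := k) (A := A) (W ⊓ W') :=
  (subL k A V).infClosed' h h'

theorem isSubcomod_sup {W W' : Submodule k V} (h : HopfRep.IsSubcomod (k := k) (A := A) W)
    (h' : HopfRep.IsSubcomod (k := k) (A := A) W') :
    HopfRep.IsSubcomod (k := k) (A := A) (W ⊔ W') :=
  (subL k A V).supClosed' h h'

/-- A sum of images of maps from simple comodules is the supremum of the atoms below it. -/
theorem sSup_atoms_le_eq_of_iSup_range
    {ι : Type*} (S : ι → Type w'') [∀ i, AddCommGroup (S i)] [∀ i, Module k (S i)]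
    [∀ i, HopfRep.Comod k A (S i)]
    (hS : ∀ i, HopfRep.IsSimpleComod k A (S i)) (f : ∀ i, S i →ₗ[k] V)
    (hf : ∀ i, Hoch.IsComodHom A (f i)) (c : subL k A V)
    (hc : (c : Submodule k V) = ⨆ i, LinearMap.range (f i)) :
    sSup {a | a ≤ c ∧ IsAtom a} = c := by
  apply le_antisymm
  · exact sSup_le (fun a ha => ha.1)
  · change (c : Submodule k V) ≤ _
    rw [hc]
    apply iSup_le
    intro i
    by_cases h0 : f i = 0
    · simp [h0]
    · have hat : IsAtom (⟨LinearMap.range (f i), isSubcomod_range (hf i)⟩ : subL k A V) :=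
        isAtom_range (hf i) (hS i) (injective_of_simple (hf i) (hS i) h0)
      have hle : (⟨LinearMap.range (f i), isSubcomod_range (hf i)⟩ : subL k A V) ≤ c := by
        change LinearMap.range (f i) ≤ (c : Submodule k V)
        rw [hc]
        exact le_iSup (fun i => LinearMap.range (f i)) i
      have hmem : (⟨LinearMap.range (f i), isSubcomod_range (hf i)⟩ : subL k A V) ∈
          {a : subL k A V | a ≤ c ∧ IsAtom a} := ⟨hle, hat⟩
      exact le_sSup ⟨_, hmem, rfl⟩

end ClaimA

end H9Comod
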