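import Mathlib
import Groth.Prelude.Def_GSzMilK

/-!
# helper9: relations in Milnor K-groups and generation for a discrete valuation field
-/

namespace H9MilK

open MilK

universe u v

section Relations

variable {F : Type u} [Field F]

lemma ofMul_cons {n : ℕ} (c : Fˣ) (rest : Fin n → Fˣ) :
    (fun i => Additive.ofMul ((Fin.cons c rest : Fin (n + 1) → Fˣ) i)) =
      (Fin.cons (Additive.ofMul c) (fun i => Additive.ofMul (rest i)) :
        Fin (n + 1) → Additive Fˣ) := by
  funext i
  refine Fin.cases ?_ (fun j => ?_) i <;> simp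

lemma symbol_cons_eq {n : ℕ} (c : Fˣ) (rest : Fin n → Fˣ) :
    (symbol (Fin.cons c rest : Fin (n + 1) → Fˣ) : K F (n + 1)) =
      mk F (n + 1) (PiTensorProduct.tprod ℤ
        (Fin.cons (Additive.ofMul c) (fun i => Additive.ofMul (rest i)) :
          Fin (n + 1) → Additive Fˣ)) := by
  unfold symbol
  rw [ofMul_cons]

lemma symbol_cons_mul {n : ℕ} (a b : Fˣ) (rest : Fin n → Fˣ) :
    (symbol (Fin.cons (a * b) rest : Fin (n + 1) → Fˣ) : K F (n + 1)) =
      symbol (Fin.cons a rest : Fin (n + 1) → Fˣ) +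
        symbol (Fin.cons b rest : Fin (n + 1) → Fˣ) := by
  rw [symbol_cons_eq, symbol_cons_eq, symbol_cons_eq, ← map_add]
  congr 1
  have : Additive.ofMul (a * b) = Additive.ofMul a + Additive.ofMul b := rfl
  rw [this]
  exact (PiTensorProduct.tprod ℤ (s := fun _ : Fin (n + 1) => Additive Fˣ)).cons_add _ _ _

/-- `a ↦ {a, rest}` as an additive map. -/
noncomputable def consHom {n : ℕ} (rest : Fin n → Fˣ) : Additive Fˣ →+ K F (n + 1) :=
  AddMonoidHom.mk' (fun a => symbol (Fin.cons a.toMul rest : Fin (n + 1) → Fˣ))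
    (fun a b => symbol_cons_mul a.toMul b.toMul rest)

lemma symbol_cons_zpow {n : ℕ} (a : Fˣ) (e : ℤ) (rest : Fin n → Fˣ) :
    (symbol (Fin.cons (a ^ e) rest : Fin (n + 1) → Fˣ) : K F (n + 1)) =
      e • symbol (Fin.cons a rest : Fin (n + 1) → Fˣ) := by
  have := map_zsmul (consHom rest) e (Additive.ofMul a)
  simpa [consHom] using this

lemma symbol_cons_zpow_mul {n : ℕ} (a w : Fˣ) (e : ℤ) (rest : Fin n → Fˣ) :
    (symbol (Fin.cons (a ^ e * w) rest : Fin (n + 1) → Fˣ) : K F (n + 1)) =
      e • symbol (Fin.cons a rest : Fin (n + 1) → Fˣ) +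
        symbol (Fin.cons w rest : Fin (n + 1) → Fˣ) := by
  rw [symbol_cons_mul, symbol_cons_zpow]

lemma update_cons_cons_one {α : Type*} {n : ℕ} (a z x : α) (rest : Fin n → α) :
    Function.update (Fin.cons a (Fin.cons z rest) : Fin (n + 2) → α) 1 x =
      Fin.cons a (Fin.cons x rest) := by
  have h1 : (1 : Fin (n + 2)) = Fin.succ 0 := rfl
  rw [h1, ← Fin.cons_update, Fin.update_cons_zero]

/-- Formal consequences of bi-additivity and the Steinberg relation. -/
lemma steinberg_consequences {G : Type*} [AddCommGroup G] (S : Additive Fˣ → Additive Fˣ → G)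
    (haddL : ∀ a a' b, S (a + a') b = S a b + S a' b)
    (haddR : ∀ a b b', S a (b + b') = S a b + S a b')
    (hst : ∀ x y : Fˣ, (x : F) + (y : F) = 1 → S (Additive.ofMul x) (Additive.ofMul y) = 0) :
    (∀ x : Fˣ, S (Additive.ofMul x) (Additive.ofMul (-x)) = 0) ∧
    (∀ x y : Fˣ, S (Additive.ofMul x) (Additive.ofMul y) +
      S (Additive.ofMul y) (Additive.ofMul x) = 0) ∧
    (∀ x : Fˣ, S (Additive.ofMul x) (Additive.ofMul x) =
      S (Additive.ofMul x) (Additive.ofMul (-1 : Fˣ))) := by
  have hzeroL : ∀ b : Additive Fˣ, S 0 b = 0 := by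
    intro b
    have := haddL 0 0 b
    rw [add_zero] at this
    exact left_eq_add.mp this
  have hzeroR : ∀ a : Additive Fˣ, S a 0 = 0 := by
    intro a
    have := haddR a 0 0
    rw [add_zero] at this
    exact left_eq_add.mp this
  have hnegL : ∀ a b : Additive Fˣ, S (-a) b = - S a b := by
    intro a b
    have := haddL a (-a) b
    rw [add_neg_cancel, hzeroL] at this
    exact eq_neg_of_add_eq_zero_right this.symm
  have hnegR : ∀ a b : Additive Fˣ, S a (-b) = - S a b := by
    intro a b
    have := haddR a b (-b)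
    rw [add_neg_cancel, hzeroR] at this
    exact eq_neg_of_add_eq_zero_right this.symm
  have hneg_self : ∀ x : Fˣ, S (Additive.ofMul x) (Additive.ofMul (-x)) = 0 := by
    intro x
    by_cases hx1 : x = 1
    · subst hx1
      exact hzeroL _
    · have hx1' : (x : F) ≠ 1 := fun h' => hx1 (Units.ext h')
      have h1x : (1 : F) - x ≠ 0 := sub_ne_zero.mpr (Ne.symm hx1')
      have hxinv : (1 : F) - (x : F)⁻¹ ≠ 0 := by
        rw [sub_ne_zero]
        intro h'
        have := congrArg (fun t => t * (x : F)) h'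
        simp at this
        exact absurd this hx1
      set u : Fˣ := Units.mk0 _ h1x with hu
      set w : Fˣ := Units.mk0 _ hxinv with hw
      have e1 : -x = u / w := by
        apply Units.ext
        simp only [Units.val_neg, Units.val_div_eq_div_val, hu, hw, Units.val_mk0]
        have hxne : (x : F) ≠ 0 := x.ne_zero
        field_simp
        ring
      have e2 : Additive.ofMul (-x) = Additive.ofMul u - Additive.ofMul w := by
        rw [e1]; rfl
      rw [e2, sub_eq_add_neg, haddR, hnegR]
      have s1 : S (Additive.ofMul x) (Additive.ofMul u) = 0 := by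
        apply hst
        simp [hu]
      have s2 : S (Additive.ofMul x⁻¹) (Additive.ofMul w) = 0 := by
        apply hst
        simp [hw]
      have s3 : S (Additive.ofMul x) (Additive.ofMul w) = 0 := by
        have : Additive.ofMul x⁻¹ = - Additive.ofMul x := rfl
        rw [this, hnegL] at s2
        exact neg_eq_zero.mp s2
      rw [s1, s3]; simp
  have hanti : ∀ x y : Fˣ, S (Additive.ofMul x) (Additive.ofMul y) +
      S (Additive.ofMul y) (Additive.ofMul x) = 0 := by
    intro x y
    have h1 := hneg_self (x * y)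
    have e : Additive.ofMul (-(x * y)) = Additive.ofMul (-x) + Additive.ofMul y := by
      have : -(x * y) = (-x) * y := by rw [neg_mul]
      rw [this]; rfl
    have e' : Additive.ofMul (-(x * y)) = Additive.ofMul x + Additive.ofMul (-y) := by
      have : -(x * y) = x * (-y) := by rw [mul_neg]
      rw [this]; rfl
    have e0 : Additive.ofMul (x * y) = Additive.ofMul x + Additive.ofMul y := rfl
    have t1 : S (Additive.ofMul x) (Additive.ofMul (-(x * y))) =
        S (Additive.ofMul x) (Additive.ofMul (-x)) + S (Additive.ofMul x) (Additive.ofMul y) := by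
      rw [e, haddR]
    have t2 : S (Additive.ofMul y) (Additive.ofMul (-(x * y))) =
        S (Additive.ofMul y) (Additive.ofMul x) + S (Additive.ofMul y) (Additive.ofMul (-y)) := by
      rw [e', haddR]
    rw [e0, haddL, t1, t2, hneg_self x, hneg_self y, zero_add, add_zero] at h1
    exact h1
  refine ⟨hneg_self, hanti, ?_⟩
  intro x
  have hss := hneg_self x
  have em : Additive.ofMul (-x) = Additive.ofMul (-1 : Fˣ) + Additive.ofMul x := by
    have : -x = (-1) * x := by rw [neg_one_mul]
    rw [this]; rfl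
  rw [em, haddR] at hss
  have h2 : S (Additive.ofMul x) (Additive.ofMul (-1 : Fˣ)) +
      S (Additive.ofMul x) (Additive.ofMul (-1 : Fˣ)) = 0 := by
    rw [← haddR]
    have : Additive.ofMul (-1 : Fˣ) + Additive.ofMul (-1 : Fˣ) = 0 := by
      show Additive.ofMul ((-1 : Fˣ) * (-1)) = 0
      simp
    rw [this, hzeroR]
  have h3 : S (Additive.ofMul x) (Additive.ofMul x) =
      - S (Additive.ofMul x) (Additive.ofMul (-1 : Fˣ)) := by
    rw [add_comm] at hss
    exact eq_neg_of_add_eq_zero_left hss
  rw [h3]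
  exact (eq_neg_of_add_eq_zero_left h2).symm

/-- The pairing in the first two slots with a fixed tail. -/
noncomputable def pair {n : ℕ} (rest : Fin n → Fˣ) (a b : Additive Fˣ) : K F (n + 2) :=
  mk F (n + 2) (PiTensorProduct.tprod ℤ
    (Fin.cons a (Fin.cons b (fun i => Additive.ofMul (rest i))) : Fin (n + 2) → Additive Fˣ))

lemma symbol_cons_cons_eq {n : ℕ} (x y : Fˣ) (rest : Fin n → Fˣ) :
    (symbol (Fin.cons x (Fin.cons y rest) : Fin (n + 2) → Fˣ) : K F (n + 2)) =
      pair rest (Additive.ofMul x) (Additive.ofMul y) := by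
  unfold pair
  rw [symbol_cons_eq]
  congr 3

lemma pair_addL {n : ℕ} (rest : Fin n → Fˣ) (a a' b : Additive Fˣ) :
    pair rest (a + a') b = pair rest a b + pair rest a' b := by
  unfold pair
  rw [← map_add]
  congr 1
  exact (PiTensorProduct.tprod ℤ (s := fun _ : Fin (n + 2) => Additive Fˣ)).cons_add _ _ _

lemma pair_addR {n : ℕ} (rest : Fin n → Fˣ) (a b b' : Additive Fˣ) :
    pair rest a (b + b') = pair rest a b + pair rest a b' := by
  unfold pair
  rw [← map_add]
  congr 1
  have := (PiTensorProduct.tprod ℤ (s := fun _ : Fin (n + 2) => Additive Fˣ)).map_update_add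
    (Fin.cons a (Fin.cons b (fun i => Additive.ofMul (rest i))) : Fin (n + 2) → Additive Fˣ) 1 b b'
  rw [update_cons_cons_one, update_cons_cons_one, update_cons_cons_one] at this
  exact this

lemma pair_steinberg {n : ℕ} (rest : Fin n → Fˣ) (x y : Fˣ) (h : (x : F) + (y : F) = 1) :
    pair rest (Additive.ofMul x) (Additive.ofMul y) = 0 := by
  rw [← symbol_cons_cons_eq]
  apply symbol_eq_zero_of_isSteinberg
  refine ⟨0, 1, by simp, ?_⟩
  have h1 : (1 : Fin (n + 2)) = Fin.succ 0 := rfl
  rw [h1]
  simpa using h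

lemma symbol_cons_cons_swap {n : ℕ} (x y : Fˣ) (rest : Fin n → Fˣ) :
    (symbol (Fin.cons x (Fin.cons y rest) : Fin (n + 2) → Fˣ) : K F (n + 2)) =
      - symbol (Fin.cons y (Fin.cons x rest) : Fin (n + 2) → Fˣ) := by
  rw [symbol_cons_cons_eq, symbol_cons_cons_eq]
  have := (steinberg_consequences (pair rest) (pair_addL rest) (pair_addR rest)
    (pair_steinberg rest)).2.1 x y
  exact eq_neg_of_add_eq_zero_left this

lemma symbol_cons_cons_self {n : ℕ} (x : Fˣ) (rest : Fin n → Fˣ) :
    (symbol (Fin.cons x (Fin.cons x rest) : Fin (n + 2) → Fˣ) : K F (n + 2)) =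
      symbol (Fin.cons x (Fin.cons (-1 : Fˣ) rest) : Fin (n + 2) → Fˣ) := by
  rw [symbol_cons_cons_eq, symbol_cons_cons_eq]
  exact (steinberg_consequences (pair rest) (pair_addL rest) (pair_addR rest)
    (pair_steinberg rest)).2.2 x

/-- Left multiplication by `{a}` as a map `K F n → K F (n + 1)`. -/
noncomputable def lmul (a : Fˣ) (n : ℕ) : K F n →+ K F (n + 1) :=
  (cast F (Nat.add_comm 1 n)).toAddMonoidHom.comp (mul F 1 n (symbol ![a]))

lemma lmul_symbol (a : Fˣ) {n : ℕ} (y : Fin n → Fˣ) :
    lmul a n (symbol y) = symbol (Fin.cons a y : Fin (n + 1) → Fˣ) := by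
  simp only [lmul, AddMonoidHom.coe_comp, Function.comp_apply, AddEquiv.coe_toAddMonoidHom,
    mul_symbol_symbol, cast_symbol]
  congr 1
  rw [Fin.append_left_eq_cons]
  funext i
  simp

/-- Symbols generate. -/
lemma induction_symbol {n : ℕ} {p : K F n → Prop} (x : K F n)
    (hs : ∀ y : Fin n → Fˣ, p (symbol y)) (h0 : p 0) (hadd : ∀ a b, p a → p b → p (a + b))
    (hneg : ∀ a, p a → p (-a)) : p x := by
  obtain ⟨t, rfl⟩ := mk_surjective F n x
  induction t using PiTensorProduct.induction_on with
  | smul_tprod r f =>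
    rw [map_zsmul, mk_tprod]
    induction r using Int.induction_on with
    | zero => simpa using h0
    | succ i ih => rw [add_smul, one_smul]; exact hadd _ _ ih (hs _)
    | pred i ih => rw [sub_smul, one_smul, sub_eq_add_neg]; exact hadd _ _ ih (hneg _ (hs _))
  | add x y hx hy => rw [map_add]; exact hadd _ _ hx hy

end Relations

section DVR

variable (A : Type u) [CommRing A] [IsDomain A] [IsDiscreteValuationRing A]
variable (L : Type v) [Field L] [Algebra A L] [IsFractionRing A L]

/-- Every unit of the fraction field is a power of the uniformizer times a unit of the ring. -/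
lemma exists_zpow_mul (ϖ : A) (hϖ : Irreducible ϖ) (a : Lˣ) :
    ∃ (e : ℤ) (w : Aˣ), a = unitFrac A L ϖ hϖ.ne_zero ^ e * unitToFrac A L w := by
  obtain ⟨x, y, hy, hxy⟩ := IsFractionRing.div_surjective (A := A) (a : L)
  have hy0 : y ≠ 0 := nonZeroDivisors.ne_zero hy
  have hx0 : x ≠ 0 := by
    rintro rfl
    simp at hxy
    exact a.ne_zero hxy.symm
  obtain ⟨m, u, hu⟩ := IsDiscreteValuationRing.eq_unit_mul_pow_irreducible hx0 hϖ
  obtain ⟨k, v, hv⟩ := IsDiscreteValuationRing.eq_unit_mul_pow_irreducible hy0 hϖ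
  refine ⟨(m : ℤ) - k, u * v⁻¹, ?_⟩
  apply Units.ext
  have hϖL : algebraMap A L ϖ ≠ 0 :=
    mt (IsFractionRing.to_map_eq_zero_iff (K := L)).mp hϖ.ne_zero
  have hvL : algebraMap A L (v : A) ≠ 0 :=
    mt (IsFractionRing.to_map_eq_zero_iff (K := L)).mp v.ne_zero
  have hvinv : algebraMap A L ((v⁻¹ : Aˣ) : A) = (algebraMap A L (v : A))⁻¹ := by
    apply eq_inv_of_mul_eq_one_left
    rw [← map_mul]
    simp
  rw [← hxy, hu, hv]
  simp only [Units.val_mul, Units.val_zpow_eq_zpow_val, coe_unitFrac, unitToFrac, Units.coe_map,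
    MonoidHom.coe_coe, map_mul, map_pow, hvinv]
  rw [zpow_sub₀ hϖL, zpow_natCast, zpow_natCast]
  field_simp

/-- The generating symbols: `{ϖ, u₁, …, uₙ}` and `{v₀, …, vₙ}`. -/
def gen (n : ℕ) : Set (K L (n + 1)) :=
  {s | (∃ (ϖ : A) (hϖ : Irreducible ϖ) (u : Fin n → Aˣ),
      s = symbol (Fin.cons (unitFrac A L ϖ hϖ.ne_zero) fun i => unitToFrac A L (u i))) ∨
    (∃ v : Fin (n + 1) → Aˣ, s = symbol fun i => unitToFrac A L (v i))}

omit [IsDomain A] [IsDiscreteValuationRing A] [IsFractionRing A L] in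
lemma unit_cons (w : Aˣ) {n : ℕ} (v : Fin n → Aˣ) :
    (Fin.cons (unitToFrac A L w) (fun i => unitToFrac A L (v i)) : Fin (n + 1) → Lˣ) =
      fun i => unitToFrac A L ((Fin.cons w v : Fin (n + 1) → Aˣ) i) := by
  funext i
  refine Fin.cases ?_ (fun j => ?_) i <;> simp

theorem symbol_mem_closure_gen (n : ℕ) (x : Fin (n + 1) → Lˣ) :
    symbol x ∈ AddSubgroup.closure (gen A L n) := by
  induction n with
  | zero =>
    obtain ⟨ϖ, hϖ⟩ := IsDiscreteValuationRing.exists_irreducible A
    obtain ⟨e, w, hew⟩ := exists_zpow_mul A L ϖ hϖ (x 0)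
    have hx : x = Fin.cons (x 0) (fun i : Fin 0 => unitToFrac A L (Fin.elim0 i : Aˣ)) := by
      funext i
      refine Fin.cases rfl (fun j => j.elim0) i
    rw [hx, hew, symbol_cons_zpow_mul]
    apply AddSubgroup.add_mem
    · apply AddSubgroup.zsmul_mem
      apply AddSubgroup.subset_closure
      exact Or.inl ⟨ϖ, hϖ, fun i => Fin.elim0 i, rfl⟩
    · apply AddSubgroup.subset_closure
      refine Or.inr ⟨Fin.cons w (fun i => Fin.elim0 i), ?_⟩
      rw [unit_cons]
  | succ n ih =>
    have hx : symbol x = lmul (x 0) (n + 1) (symbol (Fin.tail x)) := by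
      rw [lmul_symbol, Fin.cons_self_tail]
    rw [hx]
    have hle : AddSubgroup.closure (gen A L n) ≤
        (AddSubgroup.closure (gen A L (n + 1))).comap (lmul (x 0) (n + 1)) := by
      rw [AddSubgroup.closure_le]
      rintro g (⟨ϖ, hϖ, u, rfl⟩ | ⟨v, rfl⟩)
      · rw [SetLike.mem_coe, AddSubgroup.mem_comap]
        rw [lmul_symbol]
        obtain ⟨e, w, hew⟩ := exists_zpow_mul A L ϖ hϖ (x 0)
        rw [hew, symbol_cons_zpow_mul, symbol_cons_cons_self, symbol_cons_cons_swap
          (unitToFrac A L w)]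
        apply AddSubgroup.add_mem
        · apply AddSubgroup.zsmul_mem
          apply AddSubgroup.subset_closure
          refine Or.inl ⟨ϖ, hϖ, Fin.cons (-1) u, ?_⟩
          rw [← unit_cons]
          have : unitToFrac A L (-1) = -1 := by
            apply Units.ext
            simp [unitToFrac]
          rw [this]
        · apply AddSubgroup.neg_mem
          apply AddSubgroup.subset_closure
          refine Or.inl ⟨ϖ, hϖ, Fin.cons w u, ?_⟩
          rw [← unit_cons]
      · rw [SetLike.mem_coe, AddSubgroup.mem_comap]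
        rw [lmul_symbol]
        obtain ⟨ϖ, hϖ⟩ := IsDiscreteValuationRing.exists_irreducible A
        obtain ⟨e, w, hew⟩ := exists_zpow_mul A L ϖ hϖ (x 0)
        rw [hew, symbol_cons_zpow_mul]
        apply AddSubgroup.add_mem
        · apply AddSubgroup.zsmul_mem
          apply AddSubgroup.subset_closure
          exact Or.inl ⟨ϖ, hϖ, v, rfl⟩
        · apply AddSubgroup.subset_closure
          refine Or.inr ⟨Fin.cons w v, ?_⟩
          rw [unit_cons]
    exact hle (ih (Fin.tail x))

theorem closure_gen_eq_top (n : ℕ) : AddSubgroup.closure (gen A L n) = ⊤ := by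
  rw [eq_top_iff]
  intro x _
  exact induction_symbol x (symbol_mem_closure_gen A L n) (zero_mem _)
    (fun a b => add_mem) (fun a => neg_mem)

theorem hom_ext_gen {M : Type*} [AddCommGroup M] {n : ℕ} (f g : K L (n + 1) →+ M)
    (h : ∀ s ∈ gen A L n, f s = g s) : f = g := by
  have hle : AddSubgroup.closure (gen A L n) ≤ f.eqLocus g := (AddSubgroup.closure_le _).2 h
  rw [closure_gen_eq_top] at hle
  exact AddMonoidHom.ext fun x => hle (AddSubgroup.mem_top x)

theorem tame_units {n : ℕ} (d : K L (n + 1) →+ K (IsLocalRing.ResidueField A) n)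
    (hd : IsTameSymbol A L n d) (v : Fin (n + 1) → Aˣ) :
    d (symbol (fun i => unitToFrac A L (v i))) = 0 := by
  obtain ⟨ϖ, hϖ⟩ := IsDiscreteValuationRing.exists_irreducible A
  have hϖ' : Irreducible (ϖ * (v 0 : A)) :=
    (associated_mul_unit_right ϖ _ (v 0).isUnit).irreducible hϖ
  have h1 := hd ϖ hϖ (fun i => v i.succ)
  have h2 := hd (ϖ * (v 0 : A)) hϖ' (fun i => v i.succ)
  have e1 : unitFrac A L (ϖ * (v 0 : A)) hϖ'.ne_zero =
      unitFrac A L ϖ hϖ.ne_zero * unitToFrac A L (v 0) := by
    apply Units.ext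
    simp [unitToFrac, map_mul]
  rw [e1, symbol_cons_mul, map_add, h1] at h2
  have e2 : (fun i => unitToFrac A L (v i)) =
      (Fin.cons (unitToFrac A L (v 0)) (fun i => unitToFrac A L (v i.succ)) :
        Fin (n + 1) → Lˣ) := by
    funext i
    refine Fin.cases ?_ (fun j => ?_) i <;> simp
  rw [e2]
  exact left_eq_add.mp h2.symm

end DVR

end H9MilK
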