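import Mathlib

/-!
# helper9: coordinate functionals `P ⊗[K] M → M` with respect to a `K`-basis of `P` (K a field)
-/

open scoped TensorProduct

namespace H9BC

universe u u' x y

variable {K : Type u} [Field K] {P : Type u'} [AddCommGroup P] [Module K P]

/-- the `β`-coordinate functional `P ⊗[K] M → M` -/
noncomputable def cf (M : Type x) [AddCommGroup M] [Module K M] (β : Module.Basis.ofVectorSpaceIndex K P) :
    P ⊗[K] M →ₗ[K] M :=
  (TensorProduct.lid K M).toLinearMap ∘ₗ LinearMap.rTensor M ((Module.Basis.ofVectorSpace K P).coord β)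

theorem cf_tmul (M : Type x) [AddCommGroup M] [Module K M] (β : Module.Basis.ofVectorSpaceIndex K P)
    (p : P) (m : M) : cf M β (p ⊗ₜ[K] m) = (Module.Basis.ofVectorSpace K P).repr p β • m := by
  simp [cf]

theorem cf_map {M : Type x} [AddCommGroup M] [Module K M] {M' : Type y} [AddCommGroup M']
    [Module K M'] (g : M →ₗ[K] M') (β : Module.Basis.ofVectorSpaceIndex K P) (z : P ⊗[K] M) :
    cf M' β (g.lTensor P z) = g (cf M β z) := by
  induction z using TensorProduct.induction_on with
  | zero => simp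
  | tmul p m => rw [LinearMap.lTensor_tmul, cf_tmul, cf_tmul, map_smul]
  | add a b ha hb => rw [map_add, map_add, ha, hb, map_add, map_add]

theorem cf_eq (M : Type x) [AddCommGroup M] [Module K M] [DecidableEq (Module.Basis.ofVectorSpaceIndex K P)]
    (z : P ⊗[K] M) (β : Module.Basis.ofVectorSpaceIndex K P) :
    TensorProduct.equivFinsuppOfBasisLeft (Module.Basis.ofVectorSpace K P) z β = cf M β z :=
  TensorProduct.equivFinsuppOfBasisLeft_apply _ z β

theorem cf_fin (M : Type x) [AddCommGroup M] [Module K M] (z : P ⊗[K] M) :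
    ∃ T : Finset (Module.Basis.ofVectorSpaceIndex K P), ∀ β, β ∉ T → cf M β z = 0 := by
  classical
  refine ⟨(TensorProduct.equivFinsuppOfBasisLeft (Module.Basis.ofVectorSpace K P) z).support, fun β hβ => ?_⟩
  rw [← cf_eq]
  exact Finsupp.notMem_support_iff.mp hβ

theorem cf_sum (M : Type x) [AddCommGroup M] [Module K M] (z : P ⊗[K] M)
    (T : Finset (Module.Basis.ofVectorSpaceIndex K P)) (hT : ∀ β, β ∉ T → cf M β z = 0) :
    z = ∑ β ∈ T, (Module.Basis.ofVectorSpace K P) β ⊗ₜ[K] cf M β z := by
  classical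
  have h1 : z = (TensorProduct.equivFinsuppOfBasisLeft (Module.Basis.ofVectorSpace K P)).symm
      (TensorProduct.equivFinsuppOfBasisLeft (Module.Basis.ofVectorSpace K P) z) :=
    (LinearEquiv.symm_apply_apply _ z).symm
  rw [TensorProduct.equivFinsuppOfBasisLeft_symm_apply, Finsupp.sum] at h1
  simp only [cf_eq] at h1
  refine h1.trans ?_
  refine Finset.sum_subset ?_ ?_
  · intro β hβ
    by_contra hn
    rw [Finsupp.mem_support_iff, cf_eq] at hβ
    exact hβ (hT β hn)
  · intro β _ hβ
    rw [Finsupp.notMem_support_iff, cf_eq] at hβ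
    rw [hβ, TensorProduct.tmul_zero]

theorem eq_zero_of_cf (M : Type x) [AddCommGroup M] [Module K M] (z : P ⊗[K] M)
    (h : ∀ β, cf M β z = 0) : z = 0 := by
  have := cf_sum M z ∅ (fun β _ => h β)
  simpa using this

/-- `m ↦ p ⊗ m` is injective for `p ≠ 0` -/
theorem tmul_injective (M : Type x) [AddCommGroup M] [Module K M] (p : P) (hp : p ≠ 0) (m : M)
    (h : p ⊗ₜ[K] m = 0) : m = 0 := by
  have h1 : (Module.Basis.ofVectorSpace K P).repr p ≠ 0 := by
    intro h0
    exact hp ((Module.Basis.ofVectorSpace K P).repr.map_eq_zero_iff.mp h0)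
  obtain ⟨β, hβ⟩ := Finsupp.ne_iff.mp h1
  have h2 := cf_tmul M β p m
  rw [h, map_zero] at h2
  rcases smul_eq_zero.mp h2.symm with h3 | h3
  · exact absurd h3 (by simpa using hβ)
  · exact h3

end H9BC
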