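import Mathlib

/-!
# helper9: adjoints of polynomials in an isometry of a bilinear form
-/

namespace H9Adj

open Polynomial

theorem aeval_reflect_mul_pow' {k A : Type*} [CommRing k] [Ring A] [Algebra k A] (x y : A)
    (hxy : x * y = 1) (hyx : y * x = 1) (N : ℕ) (f : Polynomial k) (hf : f.natDegree ≤ N) :
    Polynomial.aeval y (Polynomial.reflect N f) * x ^ N = Polynomial.aeval x f := by
  have hc : Commute y x := by
    show y * x = x * y
    rw [hyx, hxy]
  refine Polynomial.induction_with_natDegree_le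
    (fun f => Polynomial.aeval y (Polynomial.reflect N f) * x ^ N = Polynomial.aeval x f) N ?_ ?_ ?_ f hf
  · simp
  · intro n r _ hnN
    show Polynomial.aeval y (Polynomial.reflect N (Polynomial.C r * Polynomial.X ^ n)) * x ^ N
      = Polynomial.aeval x (Polynomial.C r * Polynomial.X ^ n)
    rw [Polynomial.reflect_C_mul_X_pow, Polynomial.revAt_le hnN, map_mul, map_mul, Polynomial.aeval_C,
      Polynomial.aeval_X_pow, Polynomial.aeval_X_pow]
    have hN : x ^ N = x ^ (N - n) * x ^ n := by rw [← pow_add, Nat.sub_add_cancel hnN]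
    have h1 : y ^ (N - n) * x ^ N = x ^ n := by
      rw [hN, ← mul_assoc, ← hc.mul_pow, hyx, one_pow, one_mul]
    rw [mul_assoc, h1, Polynomial.aeval_C]
  · intro f g _ _ hf hg
    show Polynomial.aeval y (Polynomial.reflect N (f + g)) * x ^ N = Polynomial.aeval x (f + g)
    rw [Polynomial.reflect_add, map_add, add_mul, hf, hg, map_add]

variable {k : Type*} [Field k] {V : Type*} [AddCommGroup V] [Module k V]

theorem T_mul_Ti (M : V ≃ₗ[k] V) : (M : V →ₗ[k] V) * (M.symm : V →ₗ[k] V) = 1 := by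
  refine LinearMap.ext (fun v => ?_)
  simp

theorem Ti_mul_T (M : V ≃ₗ[k] V) : (M.symm : V →ₗ[k] V) * (M : V →ₗ[k] V) = 1 := by
  refine LinearMap.ext (fun v => ?_)
  simp

theorem commute_T_Ti (M : V ≃ₗ[k] V) : Commute (M : V →ₗ[k] V) (M.symm : V →ₗ[k] V) := by
  show (M : V →ₗ[k] V) * (M.symm : V →ₗ[k] V) = (M.symm : V →ₗ[k] V) * (M : V →ₗ[k] V)
  rw [T_mul_Ti, Ti_mul_T]

theorem commute_aeval_Ti (M : V ≃ₗ[k] V) (p : k[X]) :
    Commute (Polynomial.aeval (M : V →ₗ[k] V) p) (M.symm : V →ₗ[k] V) := by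
  rw [Polynomial.aeval_eq_sum_range]
  exact Commute.sum_left _ _ _ (fun i _ => (((commute_T_Ti M).pow_left i).smul_left _))

theorem aeval_Ti_eq (M : V ≃ₗ[k] V) (Q : k[X]) :
    Polynomial.aeval (M.symm : V →ₗ[k] V) Q
      = Polynomial.aeval (M : V →ₗ[k] V) Q.reverse * (M.symm : V →ₗ[k] V) ^ Q.natDegree :=
  (aeval_reflect_mul_pow' (M.symm : V →ₗ[k] V) (M : V →ₗ[k] V) (Ti_mul_T M) (T_mul_Ti M)
    Q.natDegree Q le_rfl).symm

section iso

variable (B : LinearMap.BilinForm k V) (M : V ≃ₗ[k] V) (hM : ∀ x y : V, B (M x) (M y) = B x y)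

include hM

theorem adj_T (v w : V) : B ((M : V →ₗ[k] V) v) w = B v ((M.symm : V →ₗ[k] V) w) := by
  have h0 := hM v (M.symm w)
  rw [LinearEquiv.apply_symm_apply] at h0
  exact h0

theorem adj_T_pow (n : ℕ) : ∀ v w : V,
    B (((M : V →ₗ[k] V) ^ n) v) w = B v (((M.symm : V →ₗ[k] V) ^ n) w) := by
  induction n with
  | zero => intro v w; simp
  | succ n ih =>
    intro v w
    rw [pow_succ, Module.End.mul_apply, ih, adj_T B M hM, pow_succ', Module.End.mul_apply]

theorem adj_aeval (p : k[X]) : ∀ v w : V,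
    B (Polynomial.aeval (M : V →ₗ[k] V) p v) w = B v (Polynomial.aeval (M.symm : V →ₗ[k] V) p w) := by
  induction p using Polynomial.induction_on' with
  | add p q hp hq =>
    intro v w
    simp only [map_add, LinearMap.add_apply, hp, hq]
  | monomial n c =>
    intro v w
    rw [Polynomial.aeval_monomial, Polynomial.aeval_monomial, Module.End.mul_apply,
      Module.End.mul_apply, Module.algebraMap_end_apply, Module.algebraMap_end_apply,
      map_smul, LinearMap.smul_apply, map_smul, adj_T_pow B M hM]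

theorem adj_aeval_pow (p : k[X]) (n : ℕ) : ∀ v w : V,
    B ((Polynomial.aeval (M : V →ₗ[k] V) p ^ n) v) w
      = B v ((Polynomial.aeval (M.symm : V →ₗ[k] V) p ^ n) w) := by
  induction n with
  | zero => intro v w; simp
  | succ n ih =>
    intro v w
    rw [pow_succ, Module.End.mul_apply, ih, adj_aeval B M hM, pow_succ', Module.End.mul_apply]

/-- for `Q` associated to its reverse, `ker (Q(M)^n)` is left-orthogonal to `range (Q(M)^n)` -/
theorem coreA (Q : k[X]) (hQ : Associated Q Q.reverse) (n : ℕ) (x : V)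
    (hx : (Polynomial.aeval (M : V →ₗ[k] V) Q ^ n) x = 0) (z' : V) :
    B x ((Polynomial.aeval (M : V →ₗ[k] V) Q ^ n) z') = 0 := by
  obtain ⟨u, hu⟩ := hQ
  obtain ⟨T, hT⟩ : ∃ T : Module.End k V, T = (M : V →ₗ[k] V) := ⟨_, rfl⟩
  obtain ⟨Ti, hTi⟩ : ∃ Ti : Module.End k V, Ti = (M.symm : V →ₗ[k] V) := ⟨_, rfl⟩
  obtain ⟨N, hN⟩ : ∃ N, N = Q.natDegree := ⟨_, rfl⟩
  have hTiT : Ti * T = 1 := by rw [hT, hTi]; exact Ti_mul_T M
  obtain ⟨S, hS⟩ : ∃ S : Module.End k V, S = Polynomial.aeval T Q := ⟨_, rfl⟩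
  obtain ⟨U, hU⟩ : ∃ U : Module.End k V, U = Polynomial.aeval T (u : k[X]) := ⟨_, rfl⟩
  obtain ⟨U', hU'⟩ : ∃ U' : Module.End k V, U' = Polynomial.aeval T ((u⁻¹ : k[X]ˣ) : k[X]) := ⟨_, rfl⟩
  have hUU' : U * U' = 1 := by
    rw [hU, hU', ← map_mul, Units.mul_inv, map_one]
  have hQTi : Polynomial.aeval Ti Q = S * (U * Ti ^ N) := by
    rw [hTi, aeval_Ti_eq M Q, ← hu, map_mul, ← hT, ← hS, ← hU, ← hTi, ← hN, mul_assoc]
  have hTiNTN : Ti ^ N * T ^ N = 1 := by
    have hc : Commute Ti T := by rw [hT, hTi]; exact (commute_T_Ti M).symm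
    rw [← hc.mul_pow, hTiT, one_pow]
  have hDD' : (U * Ti ^ N) * (T ^ N * U') = 1 := by
    rw [mul_assoc, ← mul_assoc (Ti ^ N), hTiNTN, one_mul, hUU']
  have hDD'pow : ∀ m : ℕ, (U * Ti ^ N) ^ m * (T ^ N * U') ^ m = 1 := by
    intro m
    induction m with
    | zero => simp
    | succ m ih =>
      rw [pow_succ, pow_succ', mul_assoc, ← mul_assoc (U * Ti ^ N), hDD', one_mul, ih]
  have hcSD : Commute S (U * Ti ^ N) := by
    refine Commute.mul_right ?_ ?_
    · rw [hS, hU]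
      exact (Commute.all Q (u : k[X])).map (Polynomial.aeval T)
    · rw [hS, hT, hTi]
      exact (commute_aeval_Ti M Q).pow_right N
  have hpow : Polynomial.aeval Ti Q ^ n = S ^ n * (U * Ti ^ N) ^ n := by
    rw [hQTi, hcSD.mul_pow]
  have h2 : (Polynomial.aeval Ti Q ^ n) (((T ^ N * U') ^ n) z') = (S ^ n) z' := by
    rw [hpow, Module.End.mul_apply, ← Module.End.mul_apply ((U * Ti ^ N) ^ n), hDD'pow,
      Module.End.one_apply]
  rw [← hT, ← hS, ← h2, hTi, ← adj_aeval_pow B M hM, hx, map_zero, LinearMap.zero_apply]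

end iso

end H9Adj
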