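import Mathlib

/-! Helper lemmas (helper9): autocorrelation of the centred sawtooth on `ZMod N`. -/

namespace H9Circ

theorem sum_quad (n : ℕ) (a b : ℝ) :
    ∑ s ∈ Finset.range n, (((s : ℝ) + a) * ((s : ℝ) + b)) =
      (n : ℝ) * ((n : ℝ) - 1) * (2 * (n : ℝ) - 1) / 6 + (a + b) * ((n : ℝ) * ((n : ℝ) - 1) / 2)
        + a * b * (n : ℝ) := by
  induction n with
  | zero => simp
  | succ n ih =>
    rw [Finset.sum_range_succ, ih]
    push_cast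
    ring

theorem autocorr (D E : ℕ) (hE : 0 < E) :
    ∑ s ∈ Finset.range (D + E),
      ((((s + D) % (D + E) : ℕ) : ℝ) - (((D + E : ℕ) : ℝ) - 1) / 2) *
        ((s : ℝ) - (((D + E : ℕ) : ℝ) - 1) / 2) =
    ((D + E : ℕ) : ℝ) * (((D : ℝ) * ((D : ℝ) - ((D + E : ℕ) : ℝ))) / 2
      + (((D + E : ℕ) : ℝ) ^ 2 - 1) / 12) := by
  have hsplit := Finset.sum_range_add_sum_Ico (fun s : ℕ =>
      ((((s + D) % (D + E) : ℕ) : ℝ) - (((D + E : ℕ) : ℝ) - 1) / 2) *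
        ((s : ℝ) - (((D + E : ℕ) : ℝ) - 1) / 2)) (show E ≤ D + E by omega)
  rw [← hsplit]
  have h1 : ∑ s ∈ Finset.range E,
      ((((s + D) % (D + E) : ℕ) : ℝ) - (((D + E : ℕ) : ℝ) - 1) / 2) *
        ((s : ℝ) - (((D + E : ℕ) : ℝ) - 1) / 2) =
      ∑ s ∈ Finset.range E, (((s : ℝ) + ((D : ℝ) - (((D + E : ℕ) : ℝ) - 1) / 2)) *
        ((s : ℝ) + (- ((((D + E : ℕ) : ℝ) - 1) / 2)))) := by
    apply Finset.sum_congr rfl
    intro s hs
    have hs' : s < E := Finset.mem_range.mp hs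
    rw [Nat.mod_eq_of_lt (by omega)]
    push_cast
    ring
  have h2 : ∑ s ∈ Finset.Ico E (D + E),
      ((((s + D) % (D + E) : ℕ) : ℝ) - (((D + E : ℕ) : ℝ) - 1) / 2) *
        ((s : ℝ) - (((D + E : ℕ) : ℝ) - 1) / 2) =
      ∑ i ∈ Finset.range D, (((i : ℝ) + (- ((((D + E : ℕ) : ℝ) - 1) / 2))) *
        ((i : ℝ) + ((E : ℝ) - (((D + E : ℕ) : ℝ) - 1) / 2))) := by
    rw [Finset.sum_Ico_eq_sum_range]
    rw [show D + E - E = D by omega]
    apply Finset.sum_congr rfl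
    intro i hi
    have hi' : i < D := Finset.mem_range.mp hi
    have : (E + i + D) % (D + E) = i := by
      rw [show E + i + D = i + (D + E) by ring, Nat.add_mod_right, Nat.mod_eq_of_lt (by omega)]
    rw [this]
    push_cast
    ring
  rw [h1, h2, sum_quad, sum_quad]
  push_cast
  ring

/-- autocorrelation of the centred sawtooth on `ZMod (n+1)` -/
theorem autocorr_zmod (n : ℕ) (d : ZMod (n + 1)) :
    ∑ s : ZMod (n + 1),
      ((((s + d).val : ℝ)) - (((n + 1 : ℕ) : ℝ) - 1) / 2) *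
        ((((s).val : ℝ)) - (((n + 1 : ℕ) : ℝ) - 1) / 2) =
    ((n + 1 : ℕ) : ℝ) * ((((d.val : ℝ)) * ((d.val : ℝ) - ((n + 1 : ℕ) : ℝ))) / 2
      + (((n + 1 : ℕ) : ℝ) ^ 2 - 1) / 12) := by
  have hDlt : d.val < n + 1 := ZMod.val_lt d
  have hfin : ∑ s : ZMod (n + 1),
      ((((s + d).val : ℝ)) - (((n + 1 : ℕ) : ℝ) - 1) / 2) *
        ((((s).val : ℝ)) - (((n + 1 : ℕ) : ℝ) - 1) / 2) =
      ∑ s ∈ Finset.range (n + 1),
        (((((s + d.val) % (n + 1) : ℕ) : ℝ)) - (((n + 1 : ℕ) : ℝ) - 1) / 2) *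
        (((((s : ℕ) : ℝ)) - (((n + 1 : ℕ) : ℝ) - 1) / 2)) := by
    rw [← Fin.sum_univ_eq_sum_range (fun s : ℕ =>
        (((((s + d.val) % (n + 1) : ℕ) : ℝ)) - (((n + 1 : ℕ) : ℝ) - 1) / 2) *
        (((((s : ℕ) : ℝ)) - (((n + 1 : ℕ) : ℝ) - 1) / 2))) (n + 1)]
    apply Finset.sum_congr rfl
    intro s _
    rw [ZMod.val_add]
    rfl
  rw [hfin]
  obtain ⟨E, hE⟩ : ∃ E, n + 1 = d.val + E := ⟨n + 1 - d.val, by omega⟩
  have hEpos : 0 < E := by omega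
  have hac := autocorr d.val E hEpos
  rw [← hE] at hac
  exact hac

end H9Circ
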