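import Mathlib

/-!
# helper9: endomorphisms of a flat deformation of a module with only scalar endomorphisms
-/

open Pointwise

namespace H9Def

universe u v w w' x

section flat

variable {R : Type u} [CommRing R] [IsLocalRing R] {F : Type w} [AddCommGroup F] [Module R F]
  [Module.Flat R F]

/-- if `t ∉ I'` and `t • g ∈ I' F` then `g ∈ m F` (equational criterion of flatness) -/
theorem U1 (I' : Ideal R) (t : R) (ht : t ∉ I') (g : F)
    (hg : t • g ∈ I' • (⊤ : Submodule R F)) :
    g ∈ IsLocalRing.maximalIdeal R • (⊤ : Submodule R F) := by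
  classical
  have hspan : (⊤ : Submodule R F) = Submodule.span R (Set.range (id : F → F)) := by
    rw [Set.range_id, Submodule.span_univ]
  rw [hspan, Submodule.mem_ideal_smul_span_iff_exists_sum] at hg
  obtain ⟨a, ha, hsum⟩ := hg
  -- the relation t g - Σ a_l l = 0
  obtain ⟨f, hf⟩ : ∃ f : Option ↥a.support → R, f = fun o => Option.elim o t (fun l => - a l.1) :=
    ⟨_, rfl⟩
  obtain ⟨xx, hxx⟩ : ∃ xx : Option ↥a.support → F, xx = fun o => Option.elim o g (fun l => l.1) :=
    ⟨_, rfl⟩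
  have hrel : ∑ o, f o • xx o = 0 := by
    rw [Fintype.sum_option, hf, hxx]
    simp only [Option.elim_none, Option.elim_some]
    rw [← hsum, Finsupp.sum, ← Finset.sum_coe_sort a.support]
    simp only [id, neg_smul, Finset.sum_neg_distrib]
    exact add_neg_cancel _
  obtain ⟨κ, A, y, hxy, hfA⟩ := Module.Flat.isTrivialRelation_of_sum_smul_eq_zero hrel
  have hAm : ∀ j, A none j ∈ IsLocalRing.maximalIdeal R := by
    intro j
    by_contra hnot
    have hunit : IsUnit (A none j) := by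
      by_contra h
      exact hnot ((IsLocalRing.mem_maximalIdeal _).mpr h)
    have h1 := hfA j
    rw [Fintype.sum_option, hf] at h1
    simp only [Option.elim_none, Option.elim_some] at h1
    have h2 : t * A none j ∈ I' := by
      have h3 : t * A none j = ∑ l : ↥a.support, a l.1 * A (some l) j := by
        have h4 : ∑ l : ↥a.support, -a l.1 * A (some l) j =
            - ∑ l : ↥a.support, a l.1 * A (some l) j := by
          rw [← Finset.sum_neg_distrib]
          exact Finset.sum_congr rfl fun l _ => neg_mul _ _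
        rw [h4] at h1
        linear_combination h1
      rw [h3]
      exact Ideal.sum_mem _ fun l _ => Ideal.mul_mem_right _ _ (ha _)
    obtain ⟨u, hu⟩ := hunit
    have h5 : t = t * A none j * (u⁻¹ : Rˣ) := by
      rw [← hu, mul_assoc, Units.mul_inv, mul_one]
    exact ht (by rw [h5]; exact Ideal.mul_mem_right _ _ h2)
  have hg' := hxy none
  rw [hxx] at hg'
  simp only [Option.elim_none] at hg'
  rw [hg']
  exact Submodule.sum_mem _ fun j _ => Submodule.smul_mem_smul (hAm j) Submodule.mem_top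

end flat

section structure_

variable {R : Type u} [CommRing R] [IsLocalRing R] [IsNoetherianRing R]

/-- below a nonzero ideal there is a maximal proper subideal, of colength one -/
theorem exists_sub (I : Ideal R) (hI : I ≠ ⊥) :
    ∃ (I' : Ideal R) (t : R), I' < I ∧ t ∈ I ∧ t ∉ I' ∧ I = I' ⊔ Ideal.span {t} ∧
      ∀ μ ∈ IsLocalRing.maximalIdeal R, μ * t ∈ I' := by
  obtain ⟨I', hI'lt, hmax⟩ := WellFounded.has_min
    (wellFounded_gt : WellFounded ((· > ·) : Ideal R → Ideal R → Prop))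
    {J : Ideal R | J < I} ⟨⊥, bot_lt_iff_ne_bot.mpr hI⟩
  have hI'lt' : I' < I := hI'lt
  obtain ⟨t, htI, htI'⟩ := SetLike.exists_of_lt hI'lt'
  have hkey : ∀ s : R, s ∈ I → s ∉ I' → I = I' ⊔ Ideal.span {s} := by
    intro s hsI hsI'
    have hle : I' ⊔ Ideal.span {s} ≤ I :=
      sup_le hI'lt'.le ((Ideal.span_singleton_le_iff_mem I).mpr hsI)
    rcases lt_or_eq_of_le hle with hlt | heq
    · exfalso
      apply hmax _ hlt
      show I' < I' ⊔ Ideal.span {s}
      refine lt_of_le_of_ne le_sup_left ?_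
      intro h
      apply hsI'
      rw [h]
      exact Ideal.mem_sup_right (Ideal.mem_span_singleton_self s)
    · exact heq.symm
  refine ⟨I', t, hI'lt', htI, htI', hkey t htI htI', ?_⟩
  intro μ hμ
  by_contra hnot
  have h1 := hkey (μ * t) (Ideal.mul_mem_left _ _ htI) hnot
  have h2 : t ∈ I' ⊔ Ideal.span {μ * t} := by rw [← h1]; exact htI
  obtain ⟨y, hy, z, hz, hyz⟩ := Submodule.mem_sup.mp h2
  obtain ⟨ρ, rfl⟩ := Ideal.mem_span_singleton'.mp hz
  have h3 : (1 - ρ * μ) * t = y := by linear_combination (-1 : R) * hyz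
  have hunit : IsUnit (1 - ρ * μ) :=
    IsLocalRing.isUnit_one_sub_self_of_mem_nonunits _
      ((IsLocalRing.mem_maximalIdeal _).mp (Ideal.mul_mem_left _ _ hμ))
  obtain ⟨u, hu⟩ := hunit
  apply htI'
  have h4 : t = (u⁻¹ : Rˣ) * y := by
    rw [← h3, ← hu, ← mul_assoc, Units.inv_mul, one_mul]
  rw [h4]
  exact Ideal.mul_mem_left _ _ hy

end structure_

section main

variable {K : Type u} [Field K] {R : Type v} [CommRing R] [Algebra K R] [IsLocalRing R]
  [IsArtinianRing R] (res : R →ₐ[K] K)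
  (hres : ∀ a : R, a ∈ IsLocalRing.maximalIdeal R ↔ res a = 0)
  {D : Type w} [Ring D]
  {E : Type w'} [AddCommGroup E] [Module K E] [Module D E] [Nontrivial E]
  (hE : ∀ ψ : E →ₗ[D] E, ∃ c : K, ∀ y : E, ψ y = c • y)
  {F : Type x} [AddCommGroup F] [Module K F] [Module R F] [Module D F]
  [IsScalarTower K R F] [SMulCommClass R D F] [Module.Flat R F]
  (θ : F →ₗ[D] E) (hθ : ∀ (r : R) (x : F), θ (r • x) = res r • θ x)
  (hsurj : Function.Surjective θ)
  (hker : ∀ x : F, θ x = 0 ↔ x ∈ IsLocalRing.maximalIdeal R • (⊤ : Submodule R F))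

include hres hE hθ hsurj hker in
theorem step (φ : F →ₗ[R] F) (hφ : ∀ (d : D) (x : F), φ (d • x) = d • φ x)
    (I : Ideal R) (hI : I ≠ ⊥) (r : R)
    (hr : ∀ x, φ x - r • x ∈ I • (⊤ : Submodule R F)) :
    ∃ I' : Ideal R, I' < I ∧ ∃ r' : R, ∀ x, φ x - r' • x ∈ I' • (⊤ : Submodule R F) := by
  haveI : SMulCommClass D R F := SMulCommClass.symm _ _ _
  obtain ⟨I', t, hlt, htI, htI', hsup, hmt⟩ := exists_sub I hI
  refine ⟨I', hlt, ?_⟩
  -- ψ = φ - r
  obtain ⟨ψ, hψdef⟩ : ∃ ψ : F → F, ψ = fun x => φ x - r • x := ⟨_, rfl⟩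
  have hψ : ∀ x, ψ x = φ x - r • x := fun x => by rw [hψdef]
  have hψadd : ∀ x y, ψ (x + y) = ψ x + ψ y := by
    intro x y; rw [hψ, hψ, hψ, map_add, smul_add]; abel
  have hψsub : ∀ x y, ψ (x - y) = ψ x - ψ y := by
    intro x y; rw [hψ, hψ, hψ, map_sub, smul_sub]; abel
  have hψsmul : ∀ (a : R) x, ψ (a • x) = a • ψ x := by
    intro a x; rw [hψ, hψ, map_smul, smul_sub, smul_comm r a x]
  have hψD : ∀ (d : D) x, ψ (d • x) = d • ψ x := by
    intro d x; rw [hψ, hψ, hφ, smul_sub, smul_comm r d x]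
  -- decomposition
  have hdec : ∀ x, ∃ y ∈ I' • (⊤ : Submodule R F), ∃ g : F, ψ x = y + t • g := by
    intro x
    have h1 := hr x
    rw [← hψ, hsup, Submodule.sup_smul, Submodule.ideal_span_singleton_smul] at h1
    obtain ⟨y, hy, z, hz, hyz⟩ := Submodule.mem_sup.mp h1
    obtain ⟨g, _, hg⟩ := (Submodule.mem_smul_pointwise_iff_exists _ _ _).mp hz
    exact ⟨y, hy, g, by rw [hg, hyz]⟩
  -- D preserves I' F
  have hDI' : ∀ (d : D) (y : F), y ∈ I' • (⊤ : Submodule R F) → d • y ∈ I' • (⊤ : Submodule R F) := by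
    intro d y hy
    refine Submodule.smul_induction_on (p := fun y => d • y ∈ I' • (⊤ : Submodule R F)) hy
      (fun a ha n _ => ?_) (fun y z hy hz => ?_)
    · show d • a • n ∈ _
      rw [smul_comm d a n]
      exact Submodule.smul_mem_smul ha Submodule.mem_top
    · show d • (y + z) ∈ _
      rw [smul_add]
      exact Submodule.add_mem _ hy hz
  -- t m F ⊆ I' F
  have htm : ∀ z : F, z ∈ IsLocalRing.maximalIdeal R • (⊤ : Submodule R F) →
      t • z ∈ I' • (⊤ : Submodule R F) := by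
    intro z hz
    refine Submodule.smul_induction_on (p := fun z => t • z ∈ I' • (⊤ : Submodule R F)) hz
      (fun μ hμ n _ => ?_) (fun y z hy hz => ?_)
    · show t • μ • n ∈ _
      rw [smul_smul, mul_comm]
      exact Submodule.smul_mem_smul (hmt μ hμ) Submodule.mem_top
    · show t • (y + z) ∈ _
      rw [smul_add]
      exact Submodule.add_mem _ hy hz
  -- ψ (m F) ⊆ I' F
  have hψm : ∀ z : F, z ∈ IsLocalRing.maximalIdeal R • (⊤ : Submodule R F) →
      ψ z ∈ I' • (⊤ : Submodule R F) := by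
    intro z hz
    refine Submodule.smul_induction_on (p := fun z => ψ z ∈ I' • (⊤ : Submodule R F)) hz
      (fun μ hμ n _ => ?_) (fun y z hy hz => ?_)
    · show ψ (μ • n) ∈ _
      obtain ⟨y, hy, g, hyg⟩ := hdec n
      rw [hψsmul, hyg, smul_add, smul_smul]
      exact Submodule.add_mem _ (Submodule.smul_mem _ _ hy)
        (Submodule.smul_mem_smul (hmt μ hμ) Submodule.mem_top)
    · show ψ (y + z) ∈ _
      rw [hψadd]
      exact Submodule.add_mem _ hy hz
  -- the map T
  choose yy hyy gg hgg using hdec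
  obtain ⟨T, hTdef⟩ : ∃ T : E → E, T = fun e => θ (gg (Function.surjInv hsurj e)) := ⟨_, rfl⟩
  have hC : ∀ (x : F) (y : F) (g : F), y ∈ I' • (⊤ : Submodule R F) → ψ x = y + t • g →
      θ g = T (θ x) := by
    intro x y g hy hxy
    rw [hTdef]
    obtain ⟨f, hfdef⟩ : ∃ f : F, f = Function.surjInv hsurj (θ x) := ⟨_, rfl⟩
    have hf : θ f = θ x := by rw [hfdef]; exact Function.surjInv_eq hsurj (θ x)
    show θ g = θ (gg (Function.surjInv hsurj (θ x)))
    rw [← hfdef]
    have h1 : x - f ∈ IsLocalRing.maximalIdeal R • (⊤ : Submodule R F) := by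
      rw [← hker, map_sub, hf, sub_self]
    have h2 := hψm _ h1
    rw [hψsub, hxy, hgg f] at h2
    have h3 : t • (g - gg f) ∈ I' • (⊤ : Submodule R F) := by
      have h4 : t • (g - gg f) = (y + t • g - (yy f + t • gg f)) - (y - yy f) := by
        rw [smul_sub]; abel
      rw [h4]
      exact Submodule.sub_mem _ h2 (Submodule.sub_mem _ hy (hyy f))
    have h5 := U1 I' t htI' _ h3
    rw [← hker, map_sub, sub_eq_zero] at h5
    exact h5
  have hTadd : ∀ e1 e2, T (e1 + e2) = T e1 + T e2 := by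
    intro e1 e2
    obtain ⟨f1, rfl⟩ := hsurj e1
    obtain ⟨f2, rfl⟩ := hsurj e2
    rw [← hC f1 _ _ (hyy f1) (hgg f1), ← hC f2 _ _ (hyy f2) (hgg f2), ← map_add, ← map_add]
    refine (hC (f1 + f2) (yy f1 + yy f2) _ (Submodule.add_mem _ (hyy f1) (hyy f2)) ?_).symm
    rw [hψadd, hgg f1, hgg f2, smul_add]; abel
  have hTsmul : ∀ (d : D) e, T (d • e) = d • T e := by
    intro d e
    obtain ⟨f, rfl⟩ := hsurj e
    rw [← hC f _ _ (hyy f) (hgg f), ← map_smul, ← map_smul]
    refine (hC (d • f) (d • yy f) _ (hDI' d _ (hyy f)) ?_).symm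
    rw [hψD, hgg f, smul_add, smul_comm d t]
  obtain ⟨c, hc⟩ := hE
    { toFun := T
      map_add' := hTadd
      map_smul' := fun d e => hTsmul d e }
  have hc' : ∀ e, T e = c • e := hc
  refine ⟨r + algebraMap K R c * t, ?_⟩
  intro x
  have hθc : θ ((algebraMap K R c) • x) = c • θ x := by
    rw [hθ, AlgHom.commutes]; rfl
  have h1 : φ x - (r + algebraMap K R c * t) • x = yy x + t • (gg x - (algebraMap K R c) • x) := by
    have h2 := hgg x
    rw [hψ] at h2
    rw [add_smul, smul_sub, ← sub_sub, h2, mul_comm, mul_smul]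
    abel
  rw [h1]
  refine Submodule.add_mem _ (hyy x) (htm _ ?_)
  rw [← hker, map_sub, hθc, hC x _ _ (hyy x) (hgg x), hc', sub_self]

include hres hE hθ hsurj hker in
theorem exists_smul (φ : F →ₗ[R] F) (hφ : ∀ (d : D) (x : F), φ (d • x) = d • φ x) :
    ∃ r : R, ∀ x : F, φ x = r • x := by
  obtain ⟨I₀, hI₀, hmin⟩ := WellFounded.has_min
    (wellFounded_lt : WellFounded ((· < ·) : Ideal R → Ideal R → Prop))
    {I : Ideal R | ∃ r : R, ∀ x, φ x - r • x ∈ I • (⊤ : Submodule R F)}
    ⟨⊤, 0, fun x => by rw [Submodule.top_smul]; exact Submodule.mem_top⟩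
  by_cases hbot : I₀ = ⊥
  · obtain ⟨r, hr⟩ := hI₀
    refine ⟨r, fun x => ?_⟩
    have h := hr x
    rw [hbot, Submodule.bot_smul, Submodule.mem_bot, sub_eq_zero] at h
    exact h
  · exfalso
    obtain ⟨r, hr⟩ := hI₀
    obtain ⟨I', hlt, hP⟩ := step res hres hE θ hθ hsurj hker φ hφ I₀ hbot r hr
    exact hmin I' hP hlt

include hsurj hker in
theorem faithful (s : R) (hs : ∀ x : F, s • x = 0) : s = 0 := by
  by_contra hne
  obtain ⟨Ann, hAnn⟩ : ∃ Ann : Ideal R, ∀ a, a ∈ Ann ↔ ∀ x : F, a • x = 0 :=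
    ⟨(Module.annihilator R F), fun a => Module.mem_annihilator⟩
  have hAnnbot : Ann ≠ ⊥ := by
    intro h
    have : s ∈ Ann := (hAnn s).mpr hs
    rw [h, Ideal.mem_bot] at this
    exact hne this
  obtain ⟨I', t, hlt, htI, htI', -, -⟩ := exists_sub Ann hAnnbot
  have hall : ∀ g : F, g ∈ IsLocalRing.maximalIdeal R • (⊤ : Submodule R F) := by
    intro g
    apply U1 I' t htI' g
    rw [(hAnn t).mp htI g]
    exact Submodule.zero_mem _
  obtain ⟨e, he⟩ := exists_ne (0 : E)
  obtain ⟨f, rfl⟩ := hsurj e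
  exact he ((hker f).mpr (hall f))

include hres hE hθ hsurj hker in
theorem existsUnique_smul (φ : F →ₗ[R] F) (hφ : ∀ (d : D) (x : F), φ (d • x) = d • φ x) :
    ∃! r : R, ∀ x : F, φ x = r • x := by
  obtain ⟨r, hr⟩ := exists_smul res hres hE θ hθ hsurj hker φ hφ
  refine ⟨r, hr, fun r' hr' => ?_⟩
  have h : r' - r = 0 := by
    apply faithful θ hsurj hker
    intro x
    rw [sub_smul, ← hr, ← hr', sub_self]
  exact sub_eq_zero.mp h

end main

end H9Def
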