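import Mathlib

/-!
Helper lemmas on flatness (helper9): products of flat modules are flat, and the kernel of a
surjection of flat modules is flat.
-/

namespace H9Flat

open TensorProduct

theorem flat_prod (R : Type*) (M N : Type*) [CommRing R] [AddCommGroup M] [AddCommGroup N]
    [Module R M] [Module R N] [Module.Flat R M] [Module.Flat R N] : Module.Flat R (M × N) := by
  rw [Module.Flat.iff_rTensor_preserves_injective_linearMap]
  intro X Y _ _ _ _ i hi
  have hcomm : (TensorProduct.prodRight R R Y M N).toLinearMap ∘ₗ i.rTensor (M × N) =
      (LinearMap.prodMap (i.rTensor M) (i.rTensor N)) ∘ₗ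
        (TensorProduct.prodRight R R X M N).toLinearMap := by
    apply TensorProduct.ext'
    intro x mn
    simp
  have hinj : Function.Injective ((LinearMap.prodMap (i.rTensor M) (i.rTensor N)) ∘ₗ
        (TensorProduct.prodRight R R X M N).toLinearMap) := by
    rw [LinearMap.coe_comp]
    refine Function.Injective.comp ?_ (TensorProduct.prodRight R R X M N).injective
    rw [LinearMap.coe_prodMap]
    exact Function.Injective.prodMap
      (Module.Flat.rTensor_preserves_injective_linearMap i hi)
      (Module.Flat.rTensor_preserves_injective_linearMap i hi)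
  rw [← hcomm, LinearMap.coe_comp] at hinj
  exact Function.Injective.of_comp hinj

/-- If `0 → M → N → P → 0` is exact with `N` and `P` flat then `M` is flat. -/
theorem flat_of_exact {R : Type*} {M N P : Type*} [CommRing R] [AddCommGroup M] [AddCommGroup N]
    [AddCommGroup P] [Module R M] [Module R N] [Module R P]
    (g : M →ₗ[R] N) (f : N →ₗ[R] P) (hg : Function.Injective g) (hf : Function.Surjective f)
    (H : Function.Exact g f) [Module.Flat R N] [Module.Flat R P] : Module.Flat R M := by
  rw [Module.Flat.iff_rTensor_preserves_injective_linearMap]
  intro X Y _ _ _ _ i hi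
  have hcomm : (g.lTensor Y) ∘ₗ (i.rTensor M) = (i.rTensor N) ∘ₗ (g.lTensor X) := by
    apply TensorProduct.ext'
    intro x m
    simp
  have hinj : Function.Injective ((i.rTensor N) ∘ₗ (g.lTensor X)) := by
    rw [LinearMap.coe_comp]
    exact (Module.Flat.rTensor_preserves_injective_linearMap i hi).comp
      (LinearMap.lTensor_injective_of_exact_of_flat f hf g hg H X)
  rw [← hcomm, LinearMap.coe_comp] at hinj
  exact Function.Injective.of_comp hinj

end H9Flat
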