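import Mathlib
import Groth.Prelude.Def_EtMil
import Groth.Agent.Lib.helper9.FlatExact

/-! Helper lemmas (helper9): the exact sequence `0 → B' → B × A' → A → 0` of a fibre square. -/

universe u
open TensorProduct

/-- the map `B' → B × A'` as an `R`-linear map -/
noncomputable def h9FibG (R B' B A' : Type*) [CommRing R] [CommRing B'] [CommRing B] [CommRing A']
    [Algebra B' B] [Algebra B' A'] [Algebra R B'] [Algebra R B] [Algebra R A']
    [IsScalarTower R B' B] [IsScalarTower R B' A'] : B' →ₗ[R] (B × A') :=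
  LinearMap.prod (IsScalarTower.toAlgHom R B' B).toLinearMap (IsScalarTower.toAlgHom R B' A').toLinearMap

/-- the difference map `B × A' → A` as an `R`-linear map -/
noncomputable def h9FibF (R B A' A : Type*) [CommRing R] [CommRing B] [CommRing A'] [CommRing A]
    [Algebra B A] [Algebra A' A] [Algebra R B] [Algebra R A'] [Algebra R A]
    [IsScalarTower R B A] [IsScalarTower R A' A] : (B × A') →ₗ[R] A :=
  LinearMap.coprod (IsScalarTower.toAlgHom R B A).toLinearMap (- (IsScalarTower.toAlgHom R A' A).toLinearMap)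

theorem h9Fib_props (R B' B A' A : Type u) [CommRing R] [CommRing B'] [CommRing B] [CommRing A'] [CommRing A]
    [Algebra B' B] [Algebra B' A'] [Algebra B A] [Algebra A' A] [Algebra B' A]
    [IsScalarTower B' B A] [IsScalarTower B' A' A]
    [Algebra R B'] [Algebra R B] [Algebra R A'] [Algebra R A]
    [IsScalarTower R B' B] [IsScalarTower R B' A'] [IsScalarTower R B' A] [IsScalarTower R B A] [IsScalarTower R A' A]
    (hsq : EtMil.IsFibreSquare B' B A' A) :
    Function.Injective (h9FibG R B' B A') ∧ Function.Surjective (h9FibF R B A' A) ∧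
      Function.Exact (h9FibG R B' B A') (h9FibF R B A' A) := by
  obtain ⟨hsurj, hfib⟩ := hsq
  have hGapp : ∀ b', h9FibG R B' B A' b' = (algebraMap B' B b', algebraMap B' A' b') := fun _ => rfl
  have hFapp : ∀ p : B × A', h9FibF R B A' A p = algebraMap B A p.1 - algebraMap A' A p.2 := by
    intro p
    simp [h9FibF, sub_eq_add_neg]
  have hcomm : ∀ b' : B', algebraMap B A (algebraMap B' B b') = algebraMap A' A (algebraMap B' A' b') := by
    intro b'
    rw [← IsScalarTower.algebraMap_apply B' B A, ← IsScalarTower.algebraMap_apply B' A' A]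
  refine ⟨?_, ?_, ?_⟩
  · intro x y hxy
    rw [hGapp, hGapp] at hxy
    have h1 : algebraMap B' B x = algebraMap B' B y := congrArg Prod.fst hxy
    have h2 : algebraMap B' A' x = algebraMap B' A' y := congrArg Prod.snd hxy
    obtain ⟨z, _, hz⟩ := hfib (algebraMap B' B y) (algebraMap B' A' y) (hcomm y)
    rw [hz x ⟨h1, h2⟩, hz y ⟨rfl, rfl⟩]
  · intro a
    obtain ⟨a', ha'⟩ := hsurj a
    refine ⟨(0, -a'), ?_⟩
    rw [hFapp]
    simp [ha']
  · intro p
    rw [hFapp]
    constructor
    · intro h
      obtain ⟨z, ⟨hz1, hz2⟩, _⟩ := hfib p.1 p.2 (sub_eq_zero.mp h)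
      exact ⟨z, by rw [hGapp, hz1, hz2]⟩
    · rintro ⟨z, rfl⟩
      rw [hGapp]
      exact sub_eq_zero.mpr (hcomm z)
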