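import Mathlib
import Groth.Prelude.Def_W4c6eohyperellchar2Gc

/-! helper9: computations in the explicit module `GcMod c k` with its operators `F`, `V`. -/

set_option autoImplicit false
set_option linter.unusedSectionVars false

namespace H9Gc
open W4c6eohyperellchar2

universe u
variable (c : ℕ) (k : Type u) [Field k] [CharP k 2] [PerfectRing k 2]

theorem coefX_X (n m : ℕ) :
    coefX (X c k n) m = if (1 ≤ m ∧ m ≤ c ∧ m = n) then 1 else 0 := by
  unfold coefX
  by_cases h : 1 ≤ m ∧ m ≤ c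
  · rw [dif_pos h]
    show (if (m - 1 + 1 = n) then (1:k) else 0) = _
    have h1 : m - 1 + 1 = m := by omega
    rw [h1]
    by_cases h2 : m = n
    · rw [if_pos h2, if_pos ⟨h.1, h.2, h2⟩]
    · rw [if_neg h2, if_neg (fun h3 => h2 h3.2.2)]
  · rw [dif_neg h, if_neg (fun h3 => h ⟨h3.1, h3.2.1⟩)]

theorem coefY_Y (n m : ℕ) :
    coefY (Y c k n) m = if (1 ≤ m ∧ m ≤ c ∧ m = n) then 1 else 0 := by
  unfold coefY
  by_cases h : 1 ≤ m ∧ m ≤ c
  · rw [dif_pos h]
    show (if (m - 1 + 1 = n) then (1:k) else 0) = _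
    have h1 : m - 1 + 1 = m := by omega
    rw [h1]
    by_cases h2 : m = n
    · rw [if_pos h2, if_pos ⟨h.1, h.2, h2⟩]
    · rw [if_neg h2, if_neg (fun h3 => h2 h3.2.2)]
  · rw [dif_neg h, if_neg (fun h3 => h ⟨h3.1, h3.2.1⟩)]

theorem coefX_Y (n m : ℕ) : coefX (Y c k n) m = 0 := by
  unfold coefX
  split_ifs <;> rfl

theorem coefY_X (n m : ℕ) : coefY (X c k n) m = 0 := by
  unfold coefY
  split_ifs <;> rfl

theorem F_X_even (n : ℕ) (h : 2 * n ≤ c) : F c k (X c k (2 * n)) = X c k n := by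
  unfold F
  refine Prod.ext ?_ ?_
  · funext i
    have hi := i.isLt
    show coefX (X c k (2 * n)) (2 * (i.val + 1)) ^ 2 = if i.val + 1 = n then (1:k) else 0
    rw [coefX_X]
    split_ifs <;> first | (exfalso; omega) | simp
  · funext i
    have hi := i.isLt
    show coefX (X c k (2 * n)) (2 * (c - (i.val + 1)) + 1) ^ 2 = 0
    rw [coefX_X]
    split_ifs <;> first | (exfalso; omega) | simp

theorem F_X_odd (m : ℕ) (h : 2 * m + 1 ≤ c) : F c k (X c k (2 * m + 1)) = Y c k (c - m) := by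
  unfold F
  refine Prod.ext ?_ ?_
  · funext i
    have hi := i.isLt
    show coefX (X c k (2 * m + 1)) (2 * (i.val + 1)) ^ 2 = 0
    rw [coefX_X]
    split_ifs <;> first | (exfalso; omega) | simp
  · funext i
    have hi := i.isLt
    show coefX (X c k (2 * m + 1)) (2 * (c - (i.val + 1)) + 1) ^ 2
      = if i.val + 1 = c - m then (1:k) else 0
    rw [coefX_X]
    split_ifs <;> first | (exfalso; omega) | simp

theorem V_X (n : ℕ) (h1 : 1 ≤ n) (h : n ≤ c) :
    V c k (X c k n) = Y c k (2 * c - 2 * n + 1) := by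
  unfold V
  refine Prod.ext rfl ?_
  funext i
  have hi := i.isLt
  show (if (i.val + 1) % 2 = 0 then (frobeniusEquiv k 2).symm (coefY (X c k n) ((i.val + 1) / 2))
    else (frobeniusEquiv k 2).symm (coefX (X c k n) ((2 * c - i.val) / 2)))
      = if i.val + 1 = 2 * c - 2 * n + 1 then (1:k) else 0
  rw [coefY_X, coefX_X, map_zero]
  split_ifs <;> first | (exfalso; omega) | simp

theorem V_Y (n : ℕ) : V c k (Y c k n) = Y c k (2 * n) := by
  unfold V
  refine Prod.ext rfl ?_
  funext i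
  have hi := i.isLt
  show (if (i.val + 1) % 2 = 0 then (frobeniusEquiv k 2).symm (coefY (Y c k n) ((i.val + 1) / 2))
    else (frobeniusEquiv k 2).symm (coefX (Y c k n) ((2 * c - i.val) / 2)))
      = if i.val + 1 = 2 * n then (1:k) else 0
  rw [coefY_Y, coefX_Y, map_zero]
  split_ifs <;> first | (exfalso; omega) | simp

theorem F_iter_X (e l : ℕ) (h : 2 ^ e * l ≤ c) :
    (F c k)^[e] (X c k (2 ^ e * l)) = X c k l := by
  induction e with
  | zero => simp
  | succ e ih =>
    rw [Function.iterate_succ_apply]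
    have h2 : 2 ^ (e + 1) * l = 2 * (2 ^ e * l) := by ring
    rw [h2, F_X_even c k _ (by rw [← h2]; exact h)]
    exact ih (by rw [h2] at h; omega)

theorem V_iter_Y (n m : ℕ) : (V c k)^[n] (Y c k m) = Y c k (2 ^ n * m) := by
  induction n generalizing m with
  | zero => simp
  | succ n ih =>
    rw [Function.iterate_succ_apply, V_Y, ih]
    congr 1
    ring

theorem add_self_eq_zero' (v : GcMod c k) : v + v = 0 := by
  refine Prod.ext ?_ ?_ <;> funext i <;> exact CharTwo.add_self_eq_zero _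

theorem main41 (j e l : ℕ) (hj : j = 2 ^ e * l) (hl : Odd l) (hjc : j ≤ c) (hcj : c < 2 * j)
    (j' n : ℕ) (hj'c : j' ≤ c) (hcj' : c < 2 * j')
    (hn : 2 ^ n * (2 * c - 2 * j' + 1) = c - (l - 1) / 2) :
    (F c k)^[e + 1] (X c k j) + (V c k)^[n + 1] (X c k j') = 0 := by
  obtain ⟨m, rfl⟩ := hl
  have hle : 2 * m + 1 ≤ c := by
    have : 2 * m + 1 ≤ 2 ^ e * (2 * m + 1) := Nat.le_mul_of_pos_left _ (by positivity)
    omega
  have hm : (2 * m + 1 - 1) / 2 = m := by omega
  rw [hm] at hn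
  rw [Function.iterate_succ_apply', hj, F_iter_X c k e (2*m+1) (by rw [← hj]; exact hjc),
    F_X_odd c k m hle, Function.iterate_succ_apply, V_X c k j' (by omega) hj'c, V_iter_Y, hn]
  exact add_self_eq_zero' c k _

theorem X_mem (N : Submodule k (GcMod c k)) (hF : ∀ v ∈ N, F c k v ∈ N)
    (hX : ∀ j : ℕ, c < 2 * j → j ≤ c → X c k j ∈ N) :
    ∀ d j : ℕ, c - j = d → 1 ≤ j → j ≤ c → X c k j ∈ N := by
  intro d
  induction d using Nat.strong_induction_on with
  | _ d ih =>
    intro j hd h1 hjc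
    by_cases h2 : c < 2 * j
    · exact hX j h2 hjc
    · have := ih (c - 2 * j) (by omega) (2 * j) rfl (by omega) (by omega)
      have h3 := hF _ this
      rwa [F_X_even c k j (by omega)] at h3

theorem Y_mem (N : Submodule k (GcMod c k)) (hV : ∀ v ∈ N, V c k v ∈ N)
    (hX : ∀ j : ℕ, 1 ≤ j → j ≤ c → X c k j ∈ N) :
    ∀ m : ℕ, 1 ≤ m → m ≤ c → Y c k m ∈ N := by
  intro m
  induction m using Nat.strong_induction_on with
  | _ m ih =>
    intro h1 hmc
    rcases Nat.even_or_odd' m with ⟨t, ht | ht⟩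
    · have := hV _ (ih t (by omega) (by omega) (by omega))
      rwa [V_Y, ← ht] at this
    · have := hV _ (hX (c - t) (by omega) (by omega))
      rw [V_X c k (c - t) (by omega) (by omega)] at this
      have h2 : 2 * c - 2 * (c - t) + 1 = m := by omega
      rwa [h2] at this

theorem decomp (v : GcMod c k) :
    v = ∑ i : Fin c, (v.1 i • X c k (i.val + 1) + v.2 i • Y c k (i.val + 1)) := by
  refine Prod.ext ?_ ?_
  · funext t
    rw [Prod.fst_sum, Finset.sum_apply]
    simp [X, Y, Fin.val_inj]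
  · funext t
    rw [Prod.snd_sum, Finset.sum_apply]
    simp [X, Y, Fin.val_inj]

theorem main42 (N : Submodule k (GcMod c k))
    (hF : ∀ v ∈ N, F c k v ∈ N) (hV : ∀ v ∈ N, V c k v ∈ N)
    (hX : ∀ j : ℕ, c < 2 * j → j ≤ c → X c k j ∈ N) : N = ⊤ := by
  have hXall : ∀ j : ℕ, 1 ≤ j → j ≤ c → X c k j ∈ N :=
    fun j h1 hj => X_mem c k N hF hX (c - j) j rfl h1 hj
  have hYall := Y_mem c k N hV hXall
  rw [eq_top_iff]
  intro v _
  rw [decomp c k v]
  refine Submodule.sum_mem _ (fun i _ => ?_)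
  have hi := i.isLt
  exact Submodule.add_mem _ (Submodule.smul_mem _ _ (hXall _ (by omega) (by omega)))
    (Submodule.smul_mem _ _ (hYall _ (by omega) (by omega)))

/-- the projection onto the coordinates `X_j`, `c < 2j ≤ 2c`. -/
noncomputable def proj : GcMod c k →ₗ[k] ({j : ℕ // c < 2 * j ∧ j ≤ c} → k) :=
  LinearMap.pi (fun j => (LinearMap.proj (⟨j.1 - 1, by have := j.2; omega⟩ : Fin c)) ∘ₗ
    LinearMap.fst k (Fin c → k) (Fin c → k))

theorem proj_apply (v : GcMod c k) (j : {j : ℕ // c < 2 * j ∧ j ≤ c}) :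
    proj c k v j = v.1 ⟨j.1 - 1, by have := j.2; omega⟩ := rfl

theorem proj_F (v : GcMod c k) : proj c k (F c k v) = 0 := by
  funext j
  have hj := j.2
  rw [proj_apply]
  show coefX v (2 * (j.1 - 1 + 1)) ^ 2 = 0
  unfold coefX
  rw [dif_neg (by omega), zero_pow two_ne_zero]

theorem proj_V (v : GcMod c k) : proj c k (V c k v) = 0 := by
  funext j
  rw [proj_apply]
  rfl

theorem proj_X (j : {j : ℕ // c < 2 * j ∧ j ≤ c}) : proj c k (X c k j.1) = Pi.single j 1 := by
  funext j'
  have hj := j.2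
  have hj' := j'.2
  rw [proj_apply]
  show (if (j'.1 - 1 + 1 = j.1) then (1:k) else 0) = _
  by_cases h : j' = j
  · subst h
    rw [if_pos (by omega), Pi.single_eq_same]
  · rw [Pi.single_eq_of_ne h, if_neg]
    intro h2
    apply h
    apply Subtype.ext
    omega

theorem main43 :
    LinearIndependent k (fun j : {j : ℕ // c < 2 * j ∧ j ≤ c} =>
        Submodule.mkQ (Submodule.span k (Set.range (F c k) ∪ Set.range (V c k))) (X c k j.1)) ∧
      Submodule.span k (Set.range (fun j : {j : ℕ // c < 2 * j ∧ j ≤ c} =>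
        Submodule.mkQ (Submodule.span k (Set.range (F c k) ∪ Set.range (V c k))) (X c k j.1)))
        = ⊤ := by
  classical
  obtain ⟨S, hS⟩ : ∃ S : Submodule k (GcMod c k),
      S = Submodule.span k (Set.range (F c k) ∪ Set.range (V c k)) := ⟨_, rfl⟩
  rw [← hS]
  have hSF : ∀ v, F c k v ∈ S := fun v => by
    rw [hS]; exact Submodule.subset_span (Or.inl ⟨v, rfl⟩)
  have hSV : ∀ v, V c k v ∈ S := fun v => by
    rw [hS]; exact Submodule.subset_span (Or.inr ⟨v, rfl⟩)
  constructor
  · have hker : S ≤ LinearMap.ker (proj c k) := by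
      rw [hS, Submodule.span_le]
      rintro w (⟨v, rfl⟩ | ⟨v, rfl⟩)
      · exact proj_F c k v
      · exact proj_V c k v
    apply LinearIndependent.of_comp (S.liftQ (proj c k) hker)
    have : (S.liftQ (proj c k) hker) ∘ (fun j : {j : ℕ // c < 2 * j ∧ j ≤ c} => S.mkQ (X c k j.1))
        = fun j => Pi.single j (1:k) := by
      funext j
      show S.liftQ (proj c k) hker (S.mkQ (X c k j.1)) = _
      rw [Submodule.mkQ_apply, Submodule.liftQ_apply, proj_X]
    rw [this]
    exact Pi.linearIndependent_single_one _ k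
  · obtain ⟨T, hT⟩ : ∃ T : Submodule k (GcMod c k ⧸ S), T = Submodule.span k (Set.range
        (fun j : {j : ℕ // c < 2 * j ∧ j ≤ c} => S.mkQ (X c k j.1))) := ⟨_, rfl⟩
    rw [← hT]
    have hN : Submodule.comap S.mkQ T = ⊤ := by
      apply main42 c k
      · intro v _
        rw [Submodule.mem_comap, Submodule.mkQ_apply, (Submodule.Quotient.mk_eq_zero S).mpr (hSF v)]
        exact T.zero_mem
      · intro v _
        rw [Submodule.mem_comap, Submodule.mkQ_apply, (Submodule.Quotient.mk_eq_zero S).mpr (hSV v)]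
        exact T.zero_mem
      · intro j h1 h2
        rw [Submodule.mem_comap, hT]
        exact Submodule.subset_span ⟨⟨j, h1, h2⟩, rfl⟩
    rw [eq_top_iff]
    intro q _
    obtain ⟨v, rfl⟩ := S.mkQ_surjective q
    have : v ∈ Submodule.comap S.mkQ T := by rw [hN]; trivial
    exact this

end H9Gc
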