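import Mathlib
import Groth.Prelude.Def_W4c5stacksedinertiaGpd

set_option autoImplicit false
set_option linter.unusedSectionVars false
set_option linter.unusedVariables false
set_option linter.style.haveILetI false

/-! Helper library (helper9): the inertia operators on the space of finite groups
(S18021–S18025). -/

namespace H9In

open W4c5stacksedinertia

universe u v

noncomputable def ofIso (G : Type u) [Group G] [Finite G] : (FinGrp.of G).carrier ≃* G where
  toEquiv := (Nat.equivFinOfCardPos (α := G) Nat.card_pos.ne').symm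
  map_mul' x y :=
    ((Nat.equivFinOfCardPos (α := G) Nat.card_pos.ne').symm).apply_symm_apply _

theorem of_eq_of_iso {G : Type u} {H : Type v} [Group G] [Finite G] [Group H] [Finite H]
    (e : G ≃* H) : Idx.of G = Idx.of H :=
  Quotient.sound ⟨(ofIso G).trans (e.trans (ofIso H).symm)⟩

theorem of_rep (i : Idx) : Idx.of i.rep = i := by
  have h1 : Idx.of i.rep = Quotient.mk FinGrp.setoid (Quotient.out (s := FinGrp.setoid) i) :=
    Quotient.sound ⟨ofIso _⟩
  rw [h1, Quotient.out_eq]

theorem exists_repIso (G : Type u) [Group G] [Finite G] : Nonempty ((Idx.of G).rep ≃* G) := by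
  obtain ⟨e⟩ : Nonempty ((Quotient.out (s := FinGrp.setoid) (Idx.of G)).carrier
      ≃* (FinGrp.of G).carrier) :=
    Quotient.mk_out (s := FinGrp.setoid) (FinGrp.of G)
  exact ⟨e.trans (ofIso G)⟩

theorem card_center_congr {A : Type u} {B : Type v} [Group A] [Group B] (e : A ≃* B) :
    Nat.card (Subgroup.center A) = Nat.card (Subgroup.center B) := by
  apply Nat.card_congr
  refine Equiv.subtypeEquiv e.toEquiv (fun a => ?_)
  simp only [Subgroup.mem_center_iff]
  constructor
  · intro h g
    obtain ⟨g', rfl⟩ := e.surjective g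
    show e g' * e a = e a * e g'
    rw [← map_mul, ← map_mul, h g']
  · intro h g
    apply e.injective
    rw [map_mul, map_mul]
    exact h (e g)

theorem card_of (G : Type u) [Group G] [Finite G] : (Idx.of G).card = Nat.card G := by
  obtain ⟨e⟩ := exists_repIso G
  exact Nat.card_congr e.toEquiv

theorem centerCard_of (G : Type u) [Group G] [Finite G] :
    (Idx.of G).centerCard = Nat.card (Subgroup.center G) := by
  obtain ⟨e⟩ := exists_repIso G
  exact card_center_congr e

theorem cl_rep (i : Idx) : cl i.rep = Finsupp.single i 1 := by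
  rw [cl, of_rep]

theorem cl_congr {G : Type u} {H : Type v} [Group G] [Finite G] [Group H] [Finite H]
    (e : G ≃* H) : cl G = cl H := by
  rw [cl, cl, of_eq_of_iso e]

theorem cl_mem_Kge (G : Type u) [Group G] [Finite G] (m : ℕ)
    (h : m ≤ Nat.card (Subgroup.center G)) : cl G ∈ Kge m := by
  rw [cl, Kge]
  apply Finsupp.single_mem_supported
  show m ≤ (Idx.of G).centerCard
  rw [centerCard_of]
  exact h

theorem cl_mem_Kle (G : Type u) [Group G] [Finite G] (m : ℕ)
    (h : Nat.card G ≤ m) : cl G ∈ Kle m := by
  rw [cl, Kle]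
  apply Finsupp.single_mem_supported
  show (Idx.of G).card ≤ m
  rw [card_of]
  exact h

instance instFiniteCommTuple (G : Type u) [Group G] [Finite G] (r : ℕ) :
    Finite (CommTuple G r) := by
  unfold CommTuple; infer_instance

instance instFiniteOrbit (G : Type u) [Group G] [Finite G] (r : ℕ) :
    Finite (CommTuple.Orbit G r) := by
  unfold CommTuple.Orbit; infer_instance

section F1

variable (r : ℕ) (G : Type u) [Group G] [Finite G]

/-- An orbit is central if (the entries of) its chosen representative are central. -/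
def Cen (O : CommTuple.Orbit G r) : Prop :=
  ∀ i, (Quotient.out (s := CommTuple.setoid G r) O).1 i ∈ Subgroup.center G

theorem out_mk_of_central (s : CommTuple G r) (hs : ∀ i, s.1 i ∈ Subgroup.center G) :
    (Quotient.out (s := CommTuple.setoid G r) (Quotient.mk (CommTuple.setoid G r) s)).1 = s.1 := by
  obtain ⟨g, hg⟩ : ∃ g : G, ∀ i, g * (Quotient.out (s := CommTuple.setoid G r)
      (Quotient.mk (CommTuple.setoid G r) s)).1 i * g⁻¹ = s.1 i :=
    Quotient.mk_out (s := CommTuple.setoid G r) s
  funext i
  have h1 : (Quotient.out (s := CommTuple.setoid G r)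
      (Quotient.mk (CommTuple.setoid G r) s)).1 i = g⁻¹ * s.1 i * g := by
    rw [← hg i]; group
  have h2 : g⁻¹ * s.1 i = s.1 i * g⁻¹ := Subgroup.mem_center_iff.mp (hs i) g⁻¹
  rw [h1, h2, inv_mul_cancel_right]

theorem central_term (O : CommTuple.Orbit G r) (hO : Cen r G O) :
    cl (Subgroup.centralizer (Set.range (Quotient.out (s := CommTuple.setoid G r) O).1)) = cl G := by
  have h : Subgroup.centralizer (Set.range (Quotient.out (s := CommTuple.setoid G r) O).1) = ⊤ := by
    rw [Subgroup.centralizer_eq_top_iff_subset]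
    rintro x ⟨i, rfl⟩
    exact hO i
  exact cl_congr ((MulEquiv.subgroupCongr h).trans Subgroup.topEquiv)

theorem noncentral_term (O : CommTuple.Orbit G r) (hO : ¬ Cen r G O) :
    cl (Subgroup.centralizer (Set.range (Quotient.out (s := CommTuple.setoid G r) O).1))
      ∈ Kge (Nat.card (Subgroup.center G) + 1) := by
  classical
  obtain ⟨s, hs⟩ : ∃ s : CommTuple G r, s = Quotient.out (s := CommTuple.setoid G r) O := ⟨_, rfl⟩
  rw [← hs]
  have hO' : ¬ ∀ i, s.1 i ∈ Subgroup.center G := by rw [hs]; exact hO
  push Not at hO'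
  obtain ⟨j, hj⟩ := hO'
  apply cl_mem_Kge
  obtain ⟨H, hH⟩ : ∃ H : Subgroup G, H = Subgroup.centralizer (Set.range s.1) := ⟨_, rfl⟩
  rw [← hH]
  have hsH : ∀ i, s.1 i ∈ H := by
    intro i
    rw [hH, Subgroup.mem_centralizer_iff]
    rintro y ⟨i', rfl⟩
    exact s.2.2 i' i
  have hcH : ∀ (i : Fin r) (h : H), (h : G) * s.1 i = s.1 i * (h : G) := by
    intro i h
    have h1 : (h : G) ∈ Subgroup.centralizer (Set.range s.1) := by
      rw [← hH]; exact h.2
    rw [Subgroup.mem_centralizer_iff] at h1
    exact (h1 (s.1 i) ⟨i, rfl⟩).symm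
  have hZH : ∀ x : G, x ∈ Subgroup.center G → x ∈ H := by
    intro x hx
    rw [hH]
    exact Subgroup.center_le_centralizer _ hx
  -- the injection Z(G) → Z(H)
  let ψ : Subgroup.center G → Subgroup.center H := fun x =>
    ⟨⟨x.1, hZH x.1 x.2⟩, by
      rw [Subgroup.mem_center_iff]
      intro h
      apply Subtype.ext
      show (h : G) * x.1 = x.1 * (h : G)
      exact Subgroup.mem_center_iff.mp x.2 h⟩
  have hψ : Function.Injective ψ := by
    intro x y hxy
    apply Subtype.ext
    exact congrArg (fun t : Subgroup.center H => ((t : H) : G)) hxy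
  let c : Subgroup.center H := ⟨⟨s.1 j, hsH j⟩, by
    rw [Subgroup.mem_center_iff]
    intro h
    apply Subtype.ext
    show (h : G) * s.1 j = s.1 j * (h : G)
    exact hcH j h⟩
  have hc : c ∉ Set.range ψ := by
    rintro ⟨x, hx⟩
    apply hj
    have h1 : (x : G) = s.1 j := congrArg (fun t : Subgroup.center H => ((t : H) : G)) hx
    rw [← h1]
    exact x.2
  haveI := Fintype.ofFinite (Subgroup.center G)
  haveI := Fintype.ofFinite (Subgroup.center H)
  have h3 := Fintype.card_lt_of_injective_of_notMem ψ hψ hc
  rw [Nat.card_eq_fintype_card, Nat.card_eq_fintype_card]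
  omega

theorem card_central [Fintype (CommTuple.Orbit G r)] [DecidablePred (Cen r G)] :
    (Finset.univ.filter (Cen r G)).card = (Nat.card (Subgroup.center G)).descFactorial r := by
  classical
  haveI := Fintype.ofFinite (Subgroup.center G)
  rw [← Fintype.card_subtype]
  -- the bijection
  let mkT : (Fin r ↪ Subgroup.center G) → CommTuple G r := fun f =>
    ⟨fun i => ((f i : Subgroup.center G) : G),
      Subtype.val_injective.comp f.injective,
      fun i j => Subgroup.mem_center_iff.mp (f j).2 (f i)⟩
  have hmkT : ∀ f i, (mkT f).1 i ∈ Subgroup.center G := fun f i => (f i).2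
  let Φ : (Fin r ↪ Subgroup.center G) → {O : CommTuple.Orbit G r // Cen r G O} := fun f =>
    ⟨Quotient.mk (CommTuple.setoid G r) (mkT f), by
      intro i
      rw [out_mk_of_central r G (mkT f) (hmkT f)]
      exact hmkT f i⟩
  have hΦinj : Function.Injective Φ := by
    intro f f' hff
    have h1 : (Quotient.mk (CommTuple.setoid G r) (mkT f) : CommTuple.Orbit G r)
        = Quotient.mk (CommTuple.setoid G r) (mkT f') := congrArg Subtype.val hff
    have h2 := out_mk_of_central r G (mkT f) (hmkT f)
    have h3 := out_mk_of_central r G (mkT f') (hmkT f')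
    rw [h1, h3] at h2
    ext i
    exact (congrFun h2 i).symm
  have hΦsurj : Function.Surjective Φ := by
    rintro ⟨O, hO⟩
    refine ⟨⟨fun i => ⟨(Quotient.out (s := CommTuple.setoid G r) O).1 i, hO i⟩, ?_⟩, ?_⟩
    · intro i i' hii
      exact (Quotient.out (s := CommTuple.setoid G r) O).2.1 (congrArg Subtype.val hii)
    · apply Subtype.ext
      show Quotient.mk (CommTuple.setoid G r) _ = O
      have h1 : ∀ t : CommTuple G r, t = Quotient.out (s := CommTuple.setoid G r) O →
          Quotient.mk (CommTuple.setoid G r) t = O := by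
        intro t ht
        rw [ht, Quotient.out_eq]
      apply h1
      apply Subtype.ext
      rfl
  rw [← Fintype.card_congr (Equiv.ofBijective Φ ⟨hΦinj, hΦsurj⟩), Fintype.card_embedding_eq,
    Fintype.card_fin, Nat.card_eq_fintype_card]

theorem inertiaROf_sub_mem :
    inertiaROf r G - (((Nat.card (Subgroup.center G)).descFactorial r : ℕ) : ℚ) • cl G
      ∈ Kge (Nat.card (Subgroup.center G) + 1) := by
  classical
  haveI := Fintype.ofFinite (CommTuple.Orbit G r)
  unfold inertiaROf
  rw [finsum_eq_sum_of_fintype, ← Finset.sum_filter_add_sum_filter_not Finset.univ (Cen r G)]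
  have h1 : ∑ O ∈ Finset.univ.filter (Cen r G),
      cl (Subgroup.centralizer (Set.range (Quotient.out (s := CommTuple.setoid G r) O).1))
      = (((Nat.card (Subgroup.center G)).descFactorial r : ℕ) : ℚ) • cl G := by
    rw [Finset.sum_congr rfl (fun O hO => central_term r G O (Finset.mem_filter.mp hO).2),
      Finset.sum_const, card_central, Nat.cast_smul_eq_nsmul]
  rw [h1, add_sub_cancel_left]
  apply Submodule.sum_mem
  intro O hO
  exact noncentral_term r G O (Finset.mem_filter.mp hO).2

end F1

theorem main22 (r k : ℕ) (v : K) (hv : v ∈ Kge k) :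
    inertiaR r v - ((Nat.factorial r * Nat.choose k r : ℕ) : ℚ) • v ∈ Kge (k + 1) := by
  obtain ⟨T, hT⟩ : ∃ T : K →ₗ[ℚ] K,
      T = inertiaR r - ((Nat.factorial r * Nat.choose k r : ℕ) : ℚ) • LinearMap.id := ⟨_, rfl⟩
  have hTv : inertiaR r v - ((Nat.factorial r * Nat.choose k r : ℕ) : ℚ) • v = T v := by
    rw [hT, LinearMap.sub_apply, LinearMap.smul_apply, LinearMap.id_apply]
  rw [hTv]
  have hle : Kge k ≤ (Kge (k + 1)).comap T := by
    rw [Kge, Finsupp.supported_eq_span_single, Submodule.span_le]
    rintro _ ⟨i, hi, rfl⟩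
    rw [SetLike.mem_coe, Submodule.mem_comap]
    have hi' : k ≤ Nat.card (Subgroup.center i.rep) := hi
    have h1 : T (Finsupp.single i 1) = inertiaROf r i.rep
        - ((Nat.factorial r * Nat.choose k r : ℕ) : ℚ) • cl i.rep := by
      rw [hT, LinearMap.sub_apply, LinearMap.smul_apply, LinearMap.id_apply, inertiaR,
        Finsupp.linearCombination_single, one_smul, cl_rep]
    rw [h1]
    have h2 := inertiaROf_sub_mem r i.rep
    rcases Nat.eq_or_lt_of_le hi' with h3 | h3
    · rw [← h3, Nat.descFactorial_eq_factorial_mul_choose] at h2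
      exact h2
    · have h4 : Kge (Nat.card (Subgroup.center i.rep) + 1) ≤ Kge (k + 1) := by
        rw [Kge, Kge]
        apply Finsupp.supported_mono
        intro j hj
        have hj' : Nat.card (Subgroup.center i.rep) + 1 ≤ j.centerCard := hj
        show k + 1 ≤ j.centerCard
        omega
      have h5 : cl i.rep ∈ Kge (k + 1) := cl_mem_Kge i.rep (k + 1) h3
      have h6 : inertiaROf r i.rep - ((Nat.factorial r * Nat.choose k r : ℕ) : ℚ) • cl i.rep
          = (inertiaROf r i.rep
              - (((Nat.card (Subgroup.center i.rep)).descFactorial r : ℕ) : ℚ) • cl i.rep)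
            + ((((Nat.card (Subgroup.center i.rep)).descFactorial r : ℕ) : ℚ)
              - ((Nat.factorial r * Nat.choose k r : ℕ) : ℚ)) • cl i.rep := by
        rw [sub_smul]; abel
      rw [h6]
      exact Submodule.add_mem _ (h4 h2) (Submodule.smul_mem _ _ h5)
  exact hle hv

end H9In
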