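import Mathlib
import Groth.Prelude.Def_W4c5stacksedinertiaGpd
import Groth.Agent.Lib.helper9.InertiaLib

set_option autoImplicit false
set_option linter.unusedSectionVars false
set_option linter.unusedVariables false
set_option linter.style.haveILetI false

/-! Helper library (helper9): diagonalizability of the inertia operator (S18021). -/

namespace H9In

open W4c5stacksedinertia Polynomial

universe u v

theorem inertiaROf_mem_Kle (r : ℕ) (G : Type u) [Group G] [Finite G] :
    inertiaROf r G ∈ Kle (Nat.card G) := by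
  classical
  haveI := Fintype.ofFinite (CommTuple.Orbit G r)
  unfold inertiaROf
  rw [finsum_eq_sum_of_fintype]
  apply Submodule.sum_mem
  intro O _
  exact cl_mem_Kle _ _ (Subgroup.card_le_card_group _)

theorem Kle_mono {m n : ℕ} (h : m ≤ n) : Kle m ≤ Kle n := by
  rw [Kle, Kle]
  apply Finsupp.supported_mono
  intro j hj
  exact le_trans hj h

theorem Kge_anti {m n : ℕ} (h : m ≤ n) : Kge n ≤ Kge m := by
  rw [Kge, Kge]
  apply Finsupp.supported_mono
  intro j hj
  exact le_trans h hj

theorem inertiaR_mem_Kle (r n : ℕ) (v : K) (hv : v ∈ Kle n) : inertiaR r v ∈ Kle n := by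
  have hle : Kle n ≤ (Kle n).comap (inertiaR r) := by
    have h0 : Kle n = Submodule.span ℚ ((fun i => Finsupp.single i (1 : ℚ)) '' {i : Idx | i.card ≤ n}) := by
      rw [Kle, Finsupp.supported_eq_span_single]
    rw [h0, Submodule.span_le]
    rintro _ ⟨i, hi, rfl⟩
    rw [SetLike.mem_coe, Submodule.mem_comap, inertiaR, Finsupp.linearCombination_single, one_smul,
      ← h0]
    have hi' : Nat.card i.rep ≤ n := hi
    exact Kle_mono hi' (inertiaROf_mem_Kle r i.rep)
  exact hle hv

theorem mem_Kge_one (v : K) : v ∈ Kge 1 := by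
  rw [Kge]
  have h : {j : Idx | 1 ≤ j.centerCard} = Set.univ := by
    ext j
    simp only [Set.mem_setOf_eq, Set.mem_univ, iff_true]
    show 0 < Nat.card (Subgroup.center j.rep)
    exact Nat.card_pos
  rw [h, Finsupp.supported_univ]
  exact Submodule.mem_top

theorem Kge_inf_Kle (n : ℕ) : Kge (n + 1) ⊓ Kle n = ⊥ := by
  rw [Kge, Kle, ← Finsupp.supported_inter]
  have h : {j : Idx | n + 1 ≤ j.centerCard} ∩ {i : Idx | i.card ≤ n} = ∅ := by
    ext j
    simp only [Set.mem_inter_iff, Set.mem_setOf_eq, Set.mem_empty_iff_false, iff_false, not_and]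
    intro h1 h2
    have h3 : j.centerCard ≤ j.card := Subgroup.card_le_card_group _
    omega
  rw [h, Finsupp.supported_empty]

theorem exists_mem_Kle (v : K) : ∃ n, v ∈ Kle n := by
  refine ⟨v.support.sup Idx.card, ?_⟩
  rw [Kle, Finsupp.mem_supported]
  intro j hj
  exact Finset.le_sup (f := Idx.card) (Finset.mem_coe.mp hj)

noncomputable def P (m : ℕ) : ℚ[X] := ∏ k ∈ Finset.range m, (X - C ((k + 1 : ℕ) : ℚ))

theorem P_zero : P 0 = 1 := by
  rw [P, Finset.range_zero, Finset.prod_empty]

theorem P_succ (m : ℕ) : P (m + 1) = (X - C ((m + 1 : ℕ) : ℚ)) * P m := by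
  rw [P, Finset.prod_range_succ, mul_comm]
  rfl

theorem aeval_linear (a : ℚ) (v : K) : aeval inertia (X - C a) v = inertia v - a • v := by
  rw [map_sub, aeval_X, aeval_C, LinearMap.sub_apply, Module.algebraMap_end_apply]

theorem aeval_P_mem (n m : ℕ) (v : K) (hv : v ∈ Kle n) :
    aeval inertia (P m) v ∈ Kge (m + 1) ⊓ Kle n := by
  induction m with
  | zero =>
    rw [P_zero, map_one, Module.End.one_apply]
    exact ⟨mem_Kge_one _, hv⟩
  | succ m ih =>
    rw [P_succ, map_mul, Module.End.mul_apply, aeval_linear]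
    obtain ⟨h1, h2⟩ := ih
    constructor
    · have h3 := main22 1 (m + 1) _ h1
      rw [Nat.factorial_one, Nat.choose_one_right, one_mul] at h3
      exact h3
    · exact Submodule.sub_mem _ (inertiaR_mem_Kle 1 n _ h2) (Submodule.smul_mem _ _ h2)

theorem ker_aeval_P_le (m : ℕ) :
    LinearMap.ker (aeval inertia (P m)) ≤ ⨆ k : ℕ, Module.End.eigenspace inertia (k : ℚ) := by
  induction m with
  | zero =>
    intro v hv
    rw [P_zero, map_one, LinearMap.mem_ker, Module.End.one_apply] at hv
    rw [hv]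
    exact Submodule.zero_mem _
  | succ m ih =>
    have hcop : IsCoprime (X - C ((m + 1 : ℕ) : ℚ)) (P m) := by
      rw [P]
      apply IsCoprime.prod_right
      intro k hk
      apply Polynomial.isCoprime_X_sub_C_of_isUnit_sub
      apply Ne.isUnit
      have hkm : k < m := Finset.mem_range.mp hk
      intro h
      have h' : ((m + 1 : ℕ) : ℚ) = ((k + 1 : ℕ) : ℚ) := sub_eq_zero.mp h
      have h'' := Nat.cast_injective h'
      omega
    rw [P_succ, ← Polynomial.sup_ker_aeval_eq_ker_aeval_mul_of_coprime inertia hcop]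
    apply sup_le
    · intro v hv
      rw [LinearMap.mem_ker, aeval_linear, sub_eq_zero] at hv
      exact le_iSup (fun k : ℕ => Module.End.eigenspace inertia (k : ℚ)) (m + 1)
        (Module.End.mem_eigenspace_iff.mpr hv)
    · exact ih

theorem aeval_P_eq_zero (n : ℕ) (v : K) (hv : v ∈ Kle n) : aeval inertia (P n) v = 0 := by
  have h := aeval_P_mem n n v hv
  rw [Kge_inf_Kle, Submodule.mem_bot] at h
  exact h

theorem iSup_eigenspace_eq_top :
    (⨆ n : ℕ, Module.End.eigenspace inertia (n : ℚ)) = ⊤ := by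
  rw [eq_top_iff]
  intro v _
  obtain ⟨n, hn⟩ := exists_mem_Kle v
  apply ker_aeval_P_le n
  rw [LinearMap.mem_ker]
  exact aeval_P_eq_zero n v hn

theorem inertia_single_of_abelian (i : Idx) (hi : i.centerCard = i.card) :
    inertia (Finsupp.single i 1) = (i.card : ℚ) • Finsupp.single i 1 := by
  have h0 : inertia (Finsupp.single i 1) = inertiaROf 1 i.rep := by
    show inertiaR 1 (Finsupp.single i 1) = _
    rw [inertiaR, Finsupp.linearCombination_single, one_smul]
  have h1 := inertiaROf_sub_mem 1 i.rep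
  have hz : Nat.card (Subgroup.center i.rep) = Nat.card i.rep := hi
  rw [hz, Nat.descFactorial_one] at h1
  have h2 : inertiaROf 1 i.rep - ((Nat.card i.rep : ℕ) : ℚ) • cl i.rep ∈ Kle (Nat.card i.rep) :=
    Submodule.sub_mem _ (inertiaROf_mem_Kle 1 i.rep)
      (Submodule.smul_mem _ _ (cl_mem_Kle i.rep _ (le_refl _)))
  have h3 : inertiaROf 1 i.rep - ((Nat.card i.rep : ℕ) : ℚ) • cl i.rep
      ∈ Kge (Nat.card i.rep + 1) ⊓ Kle (Nat.card i.rep) := ⟨h1, h2⟩
  rw [Kge_inf_Kle, Submodule.mem_bot, sub_eq_zero, cl_rep] at h3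
  rw [h0, h3]
  rfl

theorem main21 :
    (⨆ n : ℕ, Module.End.eigenspace inertia (n : ℚ)) = ⊤ ∧
    ∀ μ : ℚ, Module.End.HasEigenvalue inertia μ ↔ ∃ n : ℕ, 0 < n ∧ μ = (n : ℚ) := by
  refine ⟨iSup_eigenspace_eq_top, ?_⟩
  intro μ
  constructor
  · intro hμ
    obtain ⟨v, hv⟩ := hμ.exists_hasEigenvector
    obtain ⟨n, hn⟩ := exists_mem_Kle v
    have h1 := aeval_P_eq_zero n v hn
    rw [Module.End.aeval_apply_of_hasEigenvector hv] at h1
    have h2 : (P n).eval μ = 0 := by
      rcases smul_eq_zero.mp h1 with h | h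
      · exact h
      · exact absurd h hv.2
    rw [P, Polynomial.eval_prod, Finset.prod_eq_zero_iff] at h2
    obtain ⟨k, _, hk⟩ := h2
    rw [eval_sub, eval_X, eval_C, sub_eq_zero] at hk
    exact ⟨k + 1, Nat.succ_pos k, hk⟩
  · rintro ⟨n, hn, rfl⟩
    haveI : NeZero n := ⟨hn.ne'⟩
    obtain ⟨i, hi⟩ : ∃ i : Idx, i = Idx.of (Multiplicative (ZMod n)) := ⟨_, rfl⟩
    have hcard : i.card = n := by
      rw [hi, card_of, Nat.card_congr (Multiplicative.toAdd (α := ZMod n)), Nat.card_zmod]
    have hcen : i.centerCard = i.card := by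
      rw [hi, centerCard_of, card_of, Subgroup.center_eq_top, Subgroup.card_top]
    have h1 := inertia_single_of_abelian i hcen
    rw [hcard] at h1
    apply Module.End.hasEigenvalue_of_hasEigenvector (x := Finsupp.single i (1 : ℚ))
    rw [Module.End.hasEigenvector_iff]
    refine ⟨Module.End.mem_eigenspace_iff.mpr h1, ?_⟩
    rw [Ne, Finsupp.single_eq_zero]
    exact one_ne_zero

end H9In
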