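import Mathlib
import Groth.Prelude.Def_W4c5stacksedinertiaGpd
import Groth.Agent.Lib.helper9.InertiaLib2

set_option autoImplicit false
set_option linter.unusedSectionVars false
set_option linter.unusedVariables false
set_option linter.style.haveILetI false

/-! Helper library (helper9): commutation of the inertia operators and the simultaneous
eigenspace decomposition (S18023–S18025). -/

namespace H9In

open W4c5stacksedinertia Polynomial

universe u v

theorem cl_card_eq_of_hom {G : Type u} {H : Type v} [Group G] [Finite G] [Group H] [Finite H]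
    (f : G →* H) (hf : Function.Injective f) (A : Subgroup G) (B : Subgroup H)
    (h1 : ∀ x ∈ A, f x ∈ B) (h2 : ∀ y ∈ B, ∃ x ∈ A, f x = y) :
    cl A = cl B ∧ Nat.card A = Nat.card B := by
  obtain ⟨φ, hφ⟩ : ∃ φ : A →* B, ∀ x : A, ((φ x : B) : H) = f x.1 :=
    ⟨(f.comp A.subtype).codRestrict B (fun x => h1 x.1 x.2), fun x => rfl⟩
  have hbij : Function.Bijective φ := by
    constructor
    · intro x y hxy
      apply Subtype.ext
      apply hf
      rw [← hφ x, ← hφ y, hxy]
    · intro y
      obtain ⟨x, hx, hxy⟩ := h2 y.1 y.2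
      refine ⟨⟨x, hx⟩, Subtype.ext ?_⟩
      rw [hφ]
      exact hxy
  exact ⟨cl_congr (MulEquiv.ofBijective φ hbij), Nat.card_congr (Equiv.ofBijective φ hbij)⟩

theorem cent_conj {G : Type u} [Group G] [Finite G] {ι : Type*} (s t : ι → G) (g : G)
    (h : ∀ i, g * s i * g⁻¹ = t i) :
    cl (Subgroup.centralizer (Set.range s)) = cl (Subgroup.centralizer (Set.range t)) ∧
    Nat.card (Subgroup.centralizer (Set.range s)) =
      Nat.card (Subgroup.centralizer (Set.range t)) := by
  have hmaps : ∀ x ∈ Subgroup.centralizer (Set.range s),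
      (MulAut.conj g).toMonoidHom x ∈ Subgroup.centralizer (Set.range t) := by
    intro x hx
    rw [Subgroup.mem_centralizer_iff] at hx ⊢
    rintro _ ⟨i, rfl⟩
    show t i * (g * x * g⁻¹) = g * x * g⁻¹ * t i
    rw [← h i]
    have hx' := hx (s i) ⟨i, rfl⟩
    calc g * s i * g⁻¹ * (g * x * g⁻¹) = g * (s i * x) * g⁻¹ := by group
      _ = g * (x * s i) * g⁻¹ := by rw [hx']
      _ = g * x * g⁻¹ * (g * s i * g⁻¹) := by group
  have hsurj : ∀ y ∈ Subgroup.centralizer (Set.range t),
      ∃ x ∈ Subgroup.centralizer (Set.range s), (MulAut.conj g).toMonoidHom x = y := by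
    intro y hy
    rw [Subgroup.mem_centralizer_iff] at hy
    refine ⟨g⁻¹ * y * g, ?_, ?_⟩
    · rw [Subgroup.mem_centralizer_iff]
      rintro _ ⟨i, rfl⟩
      have hy' := hy (t i) ⟨i, rfl⟩
      rw [← h i] at hy'
      calc s i * (g⁻¹ * y * g) = g⁻¹ * (g * s i * g⁻¹ * y) * g := by group
        _ = g⁻¹ * (y * (g * s i * g⁻¹)) * g := by rw [hy']
        _ = g⁻¹ * y * g * s i := by group
    · show g * (g⁻¹ * y * g) * g⁻¹ = y
      group
  exact cl_card_eq_of_hom (MulAut.conj g).toMonoidHom (MulAut.conj g).injective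
    (Subgroup.centralizer (Set.range s)) (Subgroup.centralizer (Set.range t)) hmaps hsurj

/-- The weighted class of a subgroup. -/
noncomputable def wcl (G : Type u) [Group G] [Finite G] (H : Subgroup G) : K :=
  ((Nat.card H : ℚ) / (Nat.card G : ℚ)) • cl H

/-- Conjugation of a commuting tuple. -/
def conjT {G : Type u} [Group G] {r : ℕ} (g : G) (s : CommTuple G r) : CommTuple G r :=
  ⟨fun i => g * s.1 i * g⁻¹, by
    intro i j hij
    apply s.2.1
    have h1 : g * s.1 i * g⁻¹ = g * s.1 j * g⁻¹ := hij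
    exact mul_left_cancel (mul_right_cancel h1), by
    intro i j
    have h' : s.1 i * s.1 j = s.1 j * s.1 i := s.2.2 i j
    show g * s.1 i * g⁻¹ * (g * s.1 j * g⁻¹) = g * s.1 j * g⁻¹ * (g * s.1 i * g⁻¹)
    calc g * s.1 i * g⁻¹ * (g * s.1 j * g⁻¹) = g * (s.1 i * s.1 j) * g⁻¹ := by group
      _ = g * (s.1 j * s.1 i) * g⁻¹ := by rw [h']
      _ = g * s.1 j * g⁻¹ * (g * s.1 i * g⁻¹) := by group⟩

/-- The conjugation action on commuting tuples. -/
def conjAct (G : Type u) [Group G] (r : ℕ) : MulAction G (CommTuple G r) where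
  smul := conjT
  one_smul s := by
    apply Subtype.ext
    funext i
    show 1 * s.1 i * 1⁻¹ = s.1 i
    rw [one_mul, inv_one, mul_one]
  mul_smul g h s := by
    apply Subtype.ext
    funext i
    show g * h * s.1 i * (g * h)⁻¹ = g * (h * s.1 i * h⁻¹) * g⁻¹
    group

theorem card_fiber_mul (r : ℕ) (G : Type u) [Group G] [Finite G] (O : CommTuple.Orbit G r)
    (T : Finset (CommTuple G r))
    (hT : ∀ s, s ∈ T ↔ (Quotient.mk (CommTuple.setoid G r) s : CommTuple.Orbit G r) = O) :
    T.card * Nat.card (Subgroup.centralizer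
      (Set.range (Quotient.out (s := CommTuple.setoid G r) O).1)) = Nat.card G := by
  classical
  letI : MulAction G (CommTuple G r) := conjAct G r
  obtain ⟨s₀, hs₀⟩ : ∃ s₀ : CommTuple G r, s₀ = Quotient.out (s := CommTuple.setoid G r) O :=
    ⟨_, rfl⟩
  rw [← hs₀]
  have hO : (Quotient.mk (CommTuple.setoid G r) s₀ : CommTuple.Orbit G r) = O := by
    rw [hs₀]; exact Quotient.out_eq O
  have hsmul : ∀ (g : G) (s : CommTuple G r) (i : Fin r), (g • s).1 i = g * s.1 i * g⁻¹ :=
    fun g s i => rfl
  have hstab : MulAction.stabilizer G s₀ = Subgroup.centralizer (Set.range s₀.1) := by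
    ext g
    rw [MulAction.mem_stabilizer_iff, Subgroup.mem_centralizer_iff]
    constructor
    · intro h y hy
      obtain ⟨i, rfl⟩ := hy
      have h1 : g * s₀.1 i * g⁻¹ = s₀.1 i := congrFun (congrArg Subtype.val h) i
      calc s₀.1 i * g = g * s₀.1 i * g⁻¹ * g := by rw [h1]
        _ = g * s₀.1 i := by group
    · intro h
      apply Subtype.ext
      funext i
      rw [hsmul, ← h (s₀.1 i) ⟨i, rfl⟩, mul_inv_cancel_right]
  have horb : ∀ s : CommTuple G r, s ∈ MulAction.orbit G s₀ ↔ s ∈ T := by
    intro s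
    rw [MulAction.mem_orbit_iff, hT, ← hO]
    constructor
    · rintro ⟨g, rfl⟩
      apply Quotient.sound
      show ∃ g' : G, ∀ i, g' * (g • s₀).1 i * g'⁻¹ = s₀.1 i
      refine ⟨g⁻¹, fun i => ?_⟩
      rw [hsmul]
      group
    · intro h
      obtain ⟨g, hg⟩ : ∃ g : G, ∀ i, g * s.1 i * g⁻¹ = s₀.1 i := Quotient.exact h
      refine ⟨g⁻¹, ?_⟩
      apply Subtype.ext
      funext i
      rw [hsmul, ← hg i]
      group
  have hset : MulAction.orbit G s₀ = (↑T : Set (CommTuple G r)) := by
    ext s
    rw [horb s]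
    exact Finset.mem_coe.symm
  have h1 := Subgroup.card_mul_index (MulAction.stabilizer G s₀)
  rw [MulAction.index_stabilizer, hset, Set.ncard_coe_finset, hstab] at h1
  rw [mul_comm]
  exact h1

theorem fiber_sum (r : ℕ) (G : Type u) [Group G] [Finite G] (O : CommTuple.Orbit G r)
    (T : Finset (CommTuple G r))
    (hT : ∀ s, s ∈ T ↔ (Quotient.mk (CommTuple.setoid G r) s : CommTuple.Orbit G r) = O) :
    ∑ s ∈ T, wcl G (Subgroup.centralizer (Set.range s.1)) =
      cl (Subgroup.centralizer (Set.range (Quotient.out (s := CommTuple.setoid G r) O).1)) := by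
  have h1 : ∀ s ∈ T, wcl G (Subgroup.centralizer (Set.range s.1)) =
      wcl G (Subgroup.centralizer
        (Set.range (Quotient.out (s := CommTuple.setoid G r) O).1)) := by
    intro s hs
    have hs' := (hT s).mp hs
    have h2 : (Quotient.mk (CommTuple.setoid G r) s : CommTuple.Orbit G r) =
        Quotient.mk (CommTuple.setoid G r) (Quotient.out (s := CommTuple.setoid G r) O) := by
      rw [hs']; exact (Quotient.out_eq O).symm
    obtain ⟨g, hg⟩ : ∃ g : G, ∀ i, g * s.1 i * g⁻¹ =
        (Quotient.out (s := CommTuple.setoid G r) O).1 i := Quotient.exact h2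
    obtain ⟨e1, e2⟩ := cent_conj s.1 (Quotient.out (s := CommTuple.setoid G r) O).1 g hg
    rw [wcl, wcl, e1, e2]
  rw [Finset.sum_congr rfl h1, Finset.sum_const, wcl, ← Nat.cast_smul_eq_nsmul ℚ, smul_smul]
  have h2 := card_fiber_mul r G O T hT
  have hG0 : (Nat.card G : ℚ) ≠ 0 := by exact_mod_cast (Nat.card_pos (α := G)).ne'
  have h2' : (T.card : ℚ) * (Nat.card (Subgroup.centralizer
      (Set.range (Quotient.out (s := CommTuple.setoid G r) O).1)) : ℚ) = (Nat.card G : ℚ) := by
    exact_mod_cast h2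
  rw [← mul_div_assoc, h2', div_self hG0, one_smul]

theorem avg (r : ℕ) (G : Type u) [Group G] [Finite G] [Fintype (CommTuple G r)] :
    inertiaROf r G = ∑ s : CommTuple G r, wcl G (Subgroup.centralizer (Set.range s.1)) := by
  classical
  haveI := Fintype.ofFinite (CommTuple.Orbit G r)
  unfold inertiaROf
  rw [finsum_eq_sum_of_fintype,
    ← Finset.sum_fiberwise Finset.univ
      (fun s : CommTuple G r => (Quotient.mk (CommTuple.setoid G r) s : CommTuple.Orbit G r))
      (fun s => wcl G (Subgroup.centralizer (Set.range s.1)))]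
  refine Finset.sum_congr ?_ ?_
  · ext x
    exact ⟨fun _ => @Finset.mem_univ _ (_) x, fun _ => @Finset.mem_univ _ (_) x⟩
  intro O _
  exact (fiber_sum r G O _ (fun s => by simp)).symm

theorem inertiaROf_congr (r : ℕ) {G : Type u} {H : Type v} [Group G] [Finite G] [Group H]
    [Finite H] (e : G ≃* H) : inertiaROf r G = inertiaROf r H := by
  classical
  haveI := Fintype.ofFinite (CommTuple G r)
  haveI := Fintype.ofFinite (CommTuple H r)
  rw [avg r G, avg r H]
  obtain ⟨φ, hφ⟩ : ∃ φ : CommTuple G r → CommTuple H r, ∀ s i, (φ s).1 i = e (s.1 i) :=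
    ⟨fun s => ⟨fun i => e (s.1 i), fun i j hij => s.2.1 (e.injective hij), fun i j => by
      show e (s.1 i) * e (s.1 j) = e (s.1 j) * e (s.1 i)
      rw [← map_mul, ← map_mul, (s.2.2 i j).eq]⟩, fun s i => rfl⟩
  have hbij : Function.Bijective φ := by
    constructor
    · intro s s' h
      apply Subtype.ext
      funext i
      apply e.injective
      rw [← hφ s i, ← hφ s' i, h]
    · intro t
      refine ⟨⟨fun i => e.symm (t.1 i), fun i j hij => t.2.1 (e.symm.injective hij),
        fun i j => ?_⟩, ?_⟩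
      · show e.symm (t.1 i) * e.symm (t.1 j) = e.symm (t.1 j) * e.symm (t.1 i)
        rw [← map_mul, ← map_mul, (t.2.2 i j).eq]
      · apply Subtype.ext
        funext i
        rw [hφ]
        exact e.apply_symm_apply _
  apply Fintype.sum_bijective φ hbij
  intro s
  show wcl G (Subgroup.centralizer (Set.range s.1)) =
    wcl H (Subgroup.centralizer (Set.range (φ s).1))
  have hmaps : ∀ x ∈ Subgroup.centralizer (Set.range s.1),
      e.toMonoidHom x ∈ Subgroup.centralizer (Set.range (φ s).1) := by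
    intro x hx
    rw [Subgroup.mem_centralizer_iff] at hx ⊢
    rintro _ ⟨i, rfl⟩
    rw [hφ]
    show e (s.1 i) * e x = e x * e (s.1 i)
    rw [← map_mul, ← map_mul, hx (s.1 i) ⟨i, rfl⟩]
  have hsurj : ∀ y ∈ Subgroup.centralizer (Set.range (φ s).1),
      ∃ x ∈ Subgroup.centralizer (Set.range s.1), e.toMonoidHom x = y := by
    intro y hy
    rw [Subgroup.mem_centralizer_iff] at hy
    refine ⟨e.symm y, ?_, e.apply_symm_apply y⟩
    rw [Subgroup.mem_centralizer_iff]
    rintro _ ⟨i, rfl⟩
    apply e.injective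
    rw [map_mul, map_mul, e.apply_symm_apply, ← hφ s i]
    exact hy ((φ s).1 i) ⟨i, rfl⟩
  obtain ⟨e1, e2⟩ := cl_card_eq_of_hom e.toMonoidHom e.injective
    (Subgroup.centralizer (Set.range s.1)) (Subgroup.centralizer (Set.range (φ s).1)) hmaps hsurj
  rw [wcl, wcl, e1, e2, Nat.card_congr e.toEquiv]

theorem inertiaR_cl (r : ℕ) (H : Type u) [Group H] [Finite H] :
    inertiaR r (cl H) = inertiaROf r H := by
  obtain ⟨e⟩ := exists_repIso H
  rw [cl, inertiaR, Finsupp.linearCombination_single, one_smul]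
  exact inertiaROf_congr r e

/-- A commuting tuple of a subgroup, seen in the ambient group. -/
def liftT {G : Type u} [Group G] {b : ℕ} (H : Subgroup G) (t : CommTuple H b) : CommTuple G b :=
  ⟨fun j => ((t.1 j : H) : G), fun i j hij => t.2.1 (Subtype.ext hij), fun i j => by
    have h : t.1 i * t.1 j = t.1 j * t.1 i := t.2.2 i j
    exact congrArg Subtype.val h⟩

/-- `x` if `p` holds, `0` otherwise. -/
noncomputable def gd (p : Prop) (x : K) : K := by
  classical
  exact if p then x else 0

theorem gd_pos {p : Prop} (h : p) (x : K) : gd p x = x := by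
  unfold gd
  exact if_pos h

theorem gd_neg {p : Prop} (h : ¬ p) (x : K) : gd p x = 0 := by
  unfold gd
  exact if_neg h

theorem gd_congr {p q : Prop} (h : p ↔ q) (x : K) : gd p x = gd q x := by
  rw [propext h]

theorem sum_lift (b : ℕ) (G : Type u) [Group G] (H : Subgroup G) [Fintype (CommTuple G b)]
    [Fintype (CommTuple H b)] (Φ : CommTuple G b → K) :
    ∑ t' : CommTuple H b, Φ (liftT H t') =
      ∑ t : CommTuple G b, gd (∀ j, t.1 j ∈ H) (Φ t) := by
  apply Finset.sum_of_injOn (liftT H)
  · intro t1 _ t2 _ h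
    apply Subtype.ext
    funext j
    apply Subtype.ext
    exact congrFun (congrArg Subtype.val h) j
  · intro t _
    exact Finset.mem_coe.mpr (Finset.mem_univ _)
  · intro t _ ht
    show gd (∀ j, t.1 j ∈ H) (Φ t) = 0
    apply gd_neg
    intro hall
    apply ht
    refine ⟨⟨fun j => ⟨t.1 j, hall j⟩, ?_, ?_⟩, Finset.mem_coe.mpr (Finset.mem_univ _), ?_⟩
    · intro i j hij
      exact t.2.1 (congrArg Subtype.val hij)
    · intro i j
      show (⟨t.1 i, hall i⟩ : H) * ⟨t.1 j, hall j⟩ = ⟨t.1 j, hall j⟩ * ⟨t.1 i, hall i⟩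
      apply Subtype.ext
      exact t.2.2 i j
    · apply Subtype.ext
      rfl
  · intro t' _
    show Φ (liftT H t') = gd (∀ j, (liftT H t').1 j ∈ H) (Φ (liftT H t'))
    rw [gd_pos]
    intro j
    exact (t'.1 j).2

theorem term_formula (b : ℕ) (G : Type u) [Group G] [Finite G] [Fintype (CommTuple G b)]
    {ι : Type*} (σ : ι → G) (H : Subgroup G) (hH : H = Subgroup.centralizer (Set.range σ)) :
    ((Nat.card H : ℚ) / (Nat.card G : ℚ)) • inertiaROf b H =
      ∑ t : CommTuple G b, gd (∀ i j, Commute (σ i) (t.1 j))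
        (wcl G (Subgroup.centralizer (Set.range σ ∪ Set.range t.1))) := by
  classical
  haveI : Fintype (CommTuple H b) := Fintype.ofFinite _
  have hmem : ∀ x : G, x ∈ H ↔ ∀ i, σ i * x = x * σ i := by
    intro x
    rw [hH, Subgroup.mem_centralizer_iff]
    constructor
    · intro h i
      exact h (σ i) ⟨i, rfl⟩
    · rintro h _ ⟨i, rfl⟩
      exact h i
  have key : ∀ t' : CommTuple H b,
      ((Nat.card H : ℚ) / (Nat.card G : ℚ)) • wcl H (Subgroup.centralizer (Set.range t'.1)) =
        wcl G (Subgroup.centralizer (Set.range σ ∪ Set.range (liftT H t').1)) := by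
    intro t'
    have hmaps : ∀ x ∈ Subgroup.centralizer (Set.range t'.1),
        H.subtype x ∈ Subgroup.centralizer (Set.range σ ∪ Set.range (liftT H t').1) := by
      intro x hx
      rw [Subgroup.mem_centralizer_iff]
      rintro y (⟨i, rfl⟩ | ⟨j, rfl⟩)
      · exact (hmem x.1).mp x.2 i
      · have h3 : t'.1 j * x = x * t'.1 j :=
          Subgroup.mem_centralizer_iff.mp hx (t'.1 j) ⟨j, rfl⟩
        exact congrArg Subtype.val h3
    have hsurj : ∀ y ∈ Subgroup.centralizer (Set.range σ ∪ Set.range (liftT H t').1),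
        ∃ x ∈ Subgroup.centralizer (Set.range t'.1), H.subtype x = y := by
      intro y hy
      rw [Subgroup.mem_centralizer_iff] at hy
      have hyH : y ∈ H := (hmem y).mpr (fun i => hy _ (Or.inl ⟨i, rfl⟩))
      refine ⟨⟨y, hyH⟩, ?_, rfl⟩
      rw [Subgroup.mem_centralizer_iff]
      rintro z ⟨j, rfl⟩
      apply Subtype.ext
      have h4 := hy ((t'.1 j : H) : G) (Or.inr ⟨j, rfl⟩)
      exact h4
    obtain ⟨e1, e2⟩ := cl_card_eq_of_hom H.subtype (Subgroup.subtype_injective H)
      (Subgroup.centralizer (Set.range t'.1))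
      (Subgroup.centralizer (Set.range σ ∪ Set.range (liftT H t').1)) hmaps hsurj
    have hH0 : (Nat.card H : ℚ) ≠ 0 := by exact_mod_cast (Nat.card_pos (α := H)).ne'
    rw [wcl, wcl, e1, e2, smul_smul]
    congr 1
    rw [div_mul_div_comm, mul_comm (Nat.card H : ℚ), mul_div_mul_right _ _ hH0]
  have hl := sum_lift b G H (fun t => wcl G (Subgroup.centralizer (Set.range σ ∪ Set.range t.1)))
  beta_reduce at hl
  rw [avg b H, Finset.smul_sum, Finset.sum_congr rfl (fun t' _ => key t'), hl]
  apply Finset.sum_congr rfl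
  intro t _
  apply gd_congr
  constructor
  · intro h i j
    exact (hmem (t.1 j)).mp (h j) i
  · intro h j
    exact (hmem (t.1 j)).mpr (fun i => h i j)

theorem comp_formula (a b : ℕ) (G : Type u) [Group G] [Finite G] [Fintype (CommTuple G a)]
    [Fintype (CommTuple G b)] :
    inertiaR b (inertiaROf a G) = ∑ s : CommTuple G a, ∑ t : CommTuple G b,
      gd (∀ i j, Commute (s.1 i) (t.1 j))
        (wcl G (Subgroup.centralizer (Set.range s.1 ∪ Set.range t.1))) := by
  rw [avg a G, map_sum]
  apply Finset.sum_congr rfl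
  intro s _
  rw [wcl, map_smul, inertiaR_cl]
  exact term_formula b G s.1 _ rfl

theorem inertiaR_comm (a b : ℕ) (v : K) :
    inertiaR a (inertiaR b v) = inertiaR b (inertiaR a v) := by
  classical
  have h : (inertiaR a).comp (inertiaR b) = (inertiaR b).comp (inertiaR a) := by
    apply Finsupp.lhom_ext
    intro i c
    have hsingle : Finsupp.single i c = c • cl i.rep := by
      rw [cl_rep, Finsupp.smul_single, smul_eq_mul, mul_one]
    rw [LinearMap.comp_apply, LinearMap.comp_apply, hsingle, map_smul, map_smul, map_smul,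
      map_smul, inertiaR_cl, inertiaR_cl]
    congr 1
    haveI := Fintype.ofFinite (CommTuple i.rep a)
    haveI := Fintype.ofFinite (CommTuple i.rep b)
    rw [comp_formula b a i.rep, comp_formula a b i.rep, Finset.sum_comm]
    apply Finset.sum_congr rfl
    intro x _
    apply Finset.sum_congr rfl
    intro y _
    rw [Set.union_comm (Set.range y.1) (Set.range x.1)]
    exact gd_congr ⟨fun h i j => (h j i).symm, fun h i j => (h j i).symm⟩ _
  exact LinearMap.congr_fun h v

end H9In
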