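import Mathlib
import Groth.Prelude.Def_W4c5stacksedinertiaGpd
import Groth.Agent.Lib.helper9.InertiaLib3

set_option autoImplicit false
set_option linter.unusedSectionVars false
set_option linter.unusedVariables false
set_option linter.style.haveILetI false

/-! Helper library (helper9): simultaneous eigenspaces of the inertia operators
(S18023–S18025). -/

namespace H9In

open W4c5stacksedinertia Polynomial

theorem step_Kge (k m : ℕ) (hmk : m ≠ k) (v : K)
    (hv : v ∈ Module.End.eigenspace inertia (k : ℚ)) (hm : v ∈ Kge m) : v ∈ Kge (m + 1) := by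
  have hI : inertiaR 1 v = (k : ℚ) • v := Module.End.mem_eigenspace_iff.mp hv
  have h1 := main22 1 m v hm
  rw [Nat.factorial_one, Nat.choose_one_right, one_mul, hI, ← sub_smul] at h1
  have hne : ((k : ℚ) - (m : ℚ)) ≠ 0 := by
    rw [sub_ne_zero]
    exact_mod_cast hmk.symm
  have h2 := Submodule.smul_mem (Kge (m + 1)) ((k : ℚ) - (m : ℚ))⁻¹ h1
  rwa [smul_smul, inv_mul_cancel₀ hne, one_smul] at h2

theorem eig_le_Kge (k : ℕ) (v : K) (hv : v ∈ Module.End.eigenspace inertia (k : ℚ)) :
    v ∈ Kge k := by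
  have h : ∀ m, m ≤ k → v ∈ Kge m := by
    intro m
    induction m with
    | zero =>
      intro _
      exact Kge_anti (Nat.zero_le 1) (mem_Kge_one v)
    | succ m ih =>
      intro hm
      exact step_Kge k m (by omega) v hv (ih (by omega))
  exact h k le_rfl

theorem eig_inf_Kge (k : ℕ) (v : K) (hv : v ∈ Module.End.eigenspace inertia (k : ℚ))
    (hv2 : v ∈ Kge (k + 1)) : v = 0 := by
  have h : ∀ d, v ∈ Kge (k + 1 + d) := by
    intro d
    induction d with
    | zero => exact hv2
    | succ d ih => exact step_Kge k (k + 1 + d) (by omega) v hv ih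
  obtain ⟨n, hn⟩ := exists_mem_Kle v
  have h1 : v ∈ Kge (n + 1) ⊓ Kle n :=
    ⟨Kge_anti (by omega : n + 1 ≤ k + 1 + n) (h n), hn⟩
  rwa [Kge_inf_Kle, Submodule.mem_bot] at h1

theorem main23 (k r : ℕ) :
    Module.End.eigenspace inertia (k : ℚ) ≤
      Module.End.eigenspace (inertiaR r) ((Nat.factorial r * Nat.choose k r : ℕ) : ℚ) := by
  intro v hv
  rw [Module.End.mem_eigenspace_iff]
  have hI : inertiaR 1 v = (k : ℚ) • v := Module.End.mem_eigenspace_iff.mp hv
  obtain ⟨w, hw⟩ : ∃ w, w = inertiaR r v - ((Nat.factorial r * Nat.choose k r : ℕ) : ℚ) • v :=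
    ⟨_, rfl⟩
  have hw1 : w ∈ Kge (k + 1) := by
    rw [hw]
    exact main22 r k v (eig_le_Kge k v hv)
  have hw2 : w ∈ Module.End.eigenspace inertia (k : ℚ) := by
    rw [Module.End.mem_eigenspace_iff, hw]
    have e1 : inertiaR 1 (inertiaR r v) = (k : ℚ) • inertiaR r v := by
      rw [inertiaR_comm 1 r v, hI, map_smul]
    show inertiaR 1 (inertiaR r v - ((Nat.factorial r * Nat.choose k r : ℕ) : ℚ) • v) =
      (k : ℚ) • (inertiaR r v - ((Nat.factorial r * Nat.choose k r : ℕ) : ℚ) • v)
    rw [map_sub, map_smul, e1, hI, smul_sub, smul_comm]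
  have hw0 := eig_inf_Kge k w hw2 hw1
  rw [hw, sub_eq_zero] at hw0
  exact hw0

theorem ker_aeval_P_le' (m : ℕ) :
    LinearMap.ker (aeval inertia (P m)) ≤
      ⨆ k ∈ Finset.range (m + 1), Module.End.eigenspace inertia (k : ℚ) := by
  induction m with
  | zero =>
    intro v hv
    rw [P_zero, map_one, LinearMap.mem_ker, Module.End.one_apply] at hv
    rw [hv]
    exact Submodule.zero_mem _
  | succ m ih =>
    have hcop : IsCoprime (X - C ((m + 1 : ℕ) : ℚ)) (P m) := by
      rw [P]
      apply IsCoprime.prod_right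
      intro k hk
      apply Polynomial.isCoprime_X_sub_C_of_isUnit_sub
      apply Ne.isUnit
      have hkm : k < m := Finset.mem_range.mp hk
      intro h
      have h' : ((m + 1 : ℕ) : ℚ) = ((k + 1 : ℕ) : ℚ) := sub_eq_zero.mp h
      have h'' := Nat.cast_injective h'
      omega
    rw [P_succ, ← Polynomial.sup_ker_aeval_eq_ker_aeval_mul_of_coprime inertia hcop]
    apply sup_le
    · intro v hv
      rw [LinearMap.mem_ker, aeval_linear, sub_eq_zero] at hv
      exact Submodule.mem_iSup_of_mem (m + 1)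
        (Submodule.mem_iSup_of_mem (Finset.mem_range.mpr (by omega))
          (Module.End.mem_eigenspace_iff.mpr hv))
    · refine ih.trans ?_
      apply iSup₂_le
      intro k hk
      have hk' : k < m + 1 := Finset.mem_range.mp hk
      exact le_iSup₂_of_le k (Finset.mem_range.mpr (by omega)) le_rfl

theorem exists_decomp (v : K) : ∃ n : ℕ, ∃ w : ℕ → K,
    (∀ j : ℕ, w j ∈ Module.End.eigenspace inertia (j : ℚ)) ∧
      ∑ j ∈ Finset.range (n + 1), w j = v := by
  obtain ⟨n, hn⟩ := exists_mem_Kle v
  have h1 : v ∈ ⨆ k ∈ Finset.range (n + 1), Module.End.eigenspace inertia (k : ℚ) := by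
    apply ker_aeval_P_le' n
    rw [LinearMap.mem_ker]
    exact aeval_P_eq_zero n v hn
  rw [Submodule.mem_iSup_finset_iff_exists_sum] at h1
  obtain ⟨μ, hμ⟩ := h1
  exact ⟨n, fun j => (μ j : K), fun j => (μ j).2, hμ⟩

/-- The coefficients of the eigenprojection formula. -/
noncomputable def cc (r k : ℕ) : ℚ :=
  ((-1 : ℚ) ^ (r + k)) / (Nat.factorial r : ℚ) * (Nat.choose r k : ℚ)

theorem binom_inv0 (n j k : ℕ) (hj : j ≤ n) :
    ∑ r ∈ Finset.range (n + 1),
      (-1 : ℚ) ^ (r + k) * ((Nat.choose j r : ℚ) * (Nat.choose r k : ℚ)) =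
      if j = k then 1 else 0 := by
  have hsub : Finset.range (j + 1) ⊆ Finset.range (n + 1) := by
    intro r hr
    rw [Finset.mem_range] at hr ⊢
    omega
  rw [← Finset.sum_subset hsub]
  swap
  · intro r _ hr
    have hlt : j < r := by
      rw [Finset.mem_range] at hr
      omega
    rw [Nat.choose_eq_zero_of_lt hlt, Nat.cast_zero, zero_mul, mul_zero]
  rcases lt_or_ge j k with hjk | hkj
  · rw [if_neg (show ¬ j = k by omega)]
    apply Finset.sum_eq_zero
    intro r hr
    have hlt : r < k := by
      rw [Finset.mem_range] at hr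
      omega
    rw [Nat.choose_eq_zero_of_lt hlt, Nat.cast_zero, mul_zero, mul_zero]
  · obtain ⟨d, rfl⟩ := Nat.exists_eq_add_of_le hkj
    rw [Nat.add_assoc, Finset.sum_range_add]
    have hfirst : ∑ r ∈ Finset.range k,
        (-1 : ℚ) ^ (r + k) * (((k + d).choose r : ℚ) * (Nat.choose r k : ℚ)) = 0 := by
      apply Finset.sum_eq_zero
      intro r hr
      have hlt : r < k := Finset.mem_range.mp hr
      rw [Nat.choose_eq_zero_of_lt hlt, Nat.cast_zero, mul_zero, mul_zero]
    rw [hfirst, zero_add]
    have hterm : ∀ i ∈ Finset.range (d + 1),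
        (-1 : ℚ) ^ (k + i + k) * (((k + d).choose (k + i) : ℚ) * ((k + i).choose k : ℚ)) =
        ((k + d).choose k : ℚ) * ((-1 : ℚ) ^ i * (d.choose i : ℚ)) := by
      intro i _
      have h1 : (-1 : ℚ) ^ (k + i + k) = (-1) ^ i := by
        rw [show k + i + k = i + 2 * k by ring, pow_add, pow_mul]
        simp
      have h2 : (k + d).choose (k + i) * (k + i).choose k = (k + d).choose k * d.choose i := by
        have := Nat.choose_mul (n := k + d) (k := k + i) (s := k) (Nat.le_add_right k i)
        rw [Nat.add_sub_cancel_left, Nat.add_sub_cancel_left] at this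
        exact this
      have h2' : (((k + d).choose (k + i) : ℚ) * ((k + i).choose k : ℚ)) =
          ((k + d).choose k : ℚ) * (d.choose i : ℚ) := by exact_mod_cast h2
      rw [h1, h2']
      ring
    rw [Finset.sum_congr rfl hterm, ← Finset.mul_sum]
    have h := congrArg (Int.cast : ℤ → ℚ) (Int.alternating_sum_range_choose (n := d))
    push_cast at h
    rw [h]
    rcases Nat.eq_zero_or_pos d with hd | hd
    · subst hd
      simp
    · rw [if_neg (show ¬ d = 0 by omega), if_neg (show ¬ k + d = k by omega), mul_zero]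

theorem cc_mul_dd (r j k : ℕ) :
    cc r k * ((Nat.factorial r * Nat.choose j r : ℕ) : ℚ) =
      (-1 : ℚ) ^ (r + k) * ((Nat.choose j r : ℚ) * (Nat.choose r k : ℚ)) := by
  have hf : (r.factorial : ℚ) ≠ 0 := by exact_mod_cast r.factorial_ne_zero
  rw [cc, Nat.cast_mul, div_mul_eq_mul_div, div_mul_eq_mul_div, div_eq_iff hf]
  ring

theorem binom_inv (n j k : ℕ) (hj : j ≤ n) :
    ∑ r ∈ Finset.range (n + 1), cc r k * ((Nat.factorial r * Nat.choose j r : ℕ) : ℚ) =
      if j = k then 1 else 0 := by
  rw [← binom_inv0 n j k hj]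
  apply Finset.sum_congr rfl
  intro r _
  exact cc_mul_dd r j k

theorem proj_formula (n : ℕ) (w : ℕ → K)
    (hw : ∀ j : ℕ, w j ∈ Module.End.eigenspace inertia (j : ℚ)) (k : ℕ) :
    ∑ r ∈ Finset.range (n + 1), cc r k • inertiaR r (∑ j ∈ Finset.range (n + 1), w j) =
      if k ∈ Finset.range (n + 1) then w k else 0 := by
  have h1 : ∀ r, inertiaR r (∑ j ∈ Finset.range (n + 1), w j) =
      ∑ j ∈ Finset.range (n + 1), ((Nat.factorial r * Nat.choose j r : ℕ) : ℚ) • w j := by
    intro r
    rw [map_sum]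
    apply Finset.sum_congr rfl
    intro j _
    exact Module.End.mem_eigenspace_iff.mp (main23 j r (hw j))
  have h2 : ∀ r ∈ Finset.range (n + 1),
      cc r k • inertiaR r (∑ j ∈ Finset.range (n + 1), w j) =
      ∑ j ∈ Finset.range (n + 1),
        (cc r k * ((Nat.factorial r * Nat.choose j r : ℕ) : ℚ)) • w j := by
    intro r _
    rw [h1 r, Finset.smul_sum]
    apply Finset.sum_congr rfl
    intro j _
    rw [smul_smul]
  rw [Finset.sum_congr rfl h2, Finset.sum_comm]
  have h3 : ∀ j ∈ Finset.range (n + 1),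
      ∑ r ∈ Finset.range (n + 1),
        (cc r k * ((Nat.factorial r * Nat.choose j r : ℕ) : ℚ)) • w j =
      if j = k then w j else 0 := by
    intro j hj
    have hjn : j ≤ n := by
      have := Finset.mem_range.mp hj
      omega
    rw [← Finset.sum_smul, binom_inv n j k hjn]
    split_ifs
    · rw [one_smul]
    · rw [zero_smul]
  rw [Finset.sum_congr rfl h3, Finset.sum_ite_eq']

theorem main24 (r : ℕ) :
    LinearMap.ker (inertiaR r) =
      ⨆ k ∈ Finset.range r, Module.End.eigenspace inertia (k : ℚ) := by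
  apply le_antisymm
  · intro v hv
    rw [LinearMap.mem_ker] at hv
    obtain ⟨n, w, hw, hsum⟩ := exists_decomp v
    have hzero : ∀ k ∈ Finset.range (n + 1), r ≤ k → w k = 0 := by
      intro k hk hrk
      have h1 : ∑ r' ∈ Finset.range (n + 1), cc r' k • inertiaR r'
          (∑ j ∈ Finset.range (n + 1), ((Nat.factorial r * Nat.choose j r : ℕ) : ℚ) • w j) =
          if k ∈ Finset.range (n + 1) then ((Nat.factorial r * Nat.choose k r : ℕ) : ℚ) • w k
          else 0 :=
        proj_formula n (fun j => ((Nat.factorial r * Nat.choose j r : ℕ) : ℚ) • w j)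
          (fun j => Submodule.smul_mem _ _ (hw j)) k
      have h2 : ∑ j ∈ Finset.range (n + 1), ((Nat.factorial r * Nat.choose j r : ℕ) : ℚ) • w j =
          inertiaR r v := by
        rw [← hsum, map_sum]
        apply Finset.sum_congr rfl
        intro j _
        exact (Module.End.mem_eigenspace_iff.mp (main23 j r (hw j))).symm
      rw [h2, hv, if_pos hk] at h1
      simp only [map_zero, smul_zero, Finset.sum_const_zero] at h1
      have hne : ((Nat.factorial r * Nat.choose k r : ℕ) : ℚ) ≠ 0 := by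
        apply Nat.cast_ne_zero.mpr
        exact Nat.mul_ne_zero r.factorial_ne_zero (Nat.choose_pos hrk).ne'
      rcases smul_eq_zero.mp h1.symm with h4 | h4
      · exact absurd h4 hne
      · exact h4
    rw [← hsum]
    apply Submodule.sum_mem
    intro j hj
    by_cases hjr : j < r
    · exact Submodule.mem_iSup_of_mem j
        (Submodule.mem_iSup_of_mem (Finset.mem_range.mpr hjr) (hw j))
    · rw [hzero j hj (by omega)]
      exact Submodule.zero_mem _
  · apply iSup₂_le
    intro k hk v hv
    rw [LinearMap.mem_ker, Module.End.mem_eigenspace_iff.mp (main23 k r hv)]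
    have hlt : k < r := Finset.mem_range.mp hk
    rw [Nat.choose_eq_zero_of_lt hlt, mul_zero, Nat.cast_zero, zero_smul]

theorem main25 (v : K) :
    (∀ k : ℕ, (∑ᶠ r : ℕ, (((-1 : ℚ) ^ (r + k)) / (Nat.factorial r : ℚ) * (Nat.choose r k : ℚ)) •
        inertiaR r v) ∈ Module.End.eigenspace inertia (k : ℚ)) ∧
    (∑ᶠ k : ℕ, ∑ᶠ r : ℕ, (((-1 : ℚ) ^ (r + k)) / (Nat.factorial r : ℚ) * (Nat.choose r k : ℚ)) •
        inertiaR r v) = v := by
  show (∀ k : ℕ, (∑ᶠ r : ℕ, cc r k • inertiaR r v) ∈ Module.End.eigenspace inertia (k : ℚ)) ∧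
    (∑ᶠ k : ℕ, ∑ᶠ r : ℕ, cc r k • inertiaR r v) = v
  obtain ⟨n, w, hw, hsum⟩ := exists_decomp v
  have hvanish : ∀ r, n < r → inertiaR r v = 0 := by
    intro r hr
    rw [← hsum, map_sum]
    apply Finset.sum_eq_zero
    intro j hj
    rw [Module.End.mem_eigenspace_iff.mp (main23 j r (hw j))]
    have hlt : j < r := by
      have := Finset.mem_range.mp hj
      omega
    rw [Nat.choose_eq_zero_of_lt hlt, mul_zero, Nat.cast_zero, zero_smul]
  have hfin : ∀ k, (∑ᶠ r : ℕ, cc r k • inertiaR r v) =
      if k ∈ Finset.range (n + 1) then w k else 0 := by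
    intro k
    rw [finsum_eq_sum_of_support_subset _ (s := Finset.range (n + 1))]
    · rw [← hsum]
      exact proj_formula n w hw k
    · intro r hr
      rw [Function.mem_support] at hr
      rw [Finset.mem_coe, Finset.mem_range]
      by_contra hlt
      apply hr
      rw [hvanish r (by omega), smul_zero]
  constructor
  · intro k
    rw [hfin k]
    split_ifs
    · exact hw k
    · exact Submodule.zero_mem _
  · rw [finsum_congr hfin, finsum_eq_sum_of_support_subset _ (s := Finset.range (n + 1))]
    · rw [← hsum]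
      apply Finset.sum_congr rfl
      intro k hk
      rw [if_pos hk]
    · intro k hk
      rw [Function.mem_support] at hk
      by_contra hnot
      apply hk
      rw [if_neg]
      exact fun h => hnot (Finset.mem_coe.mpr h)

end H9In
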