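import Mathlib

/-!
Integer-valued polynomials: a rational polynomial of degree `≤ g` with integer values at `0, …, g`
has `g! • P` with integer coefficients; and a consequence for polynomials which, suitably scaled,
take integer values on all rationals `a / b` of an interval.
-/

namespace H9IV

open Polynomial

theorem intval (g : ℕ) (P : ℚ[X]) (hP : P.natDegree ≤ g)
    (hint : ∀ i : ℕ, i ≤ g → ∃ N : ℤ, P.eval (i : ℚ) = N) :
    ∃ Z : ℤ[X], (g.factorial : ℚ) • P = Z.map (Int.castRingHom ℚ) := by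
  classical
  have hc : ∀ k : ℕ, ∃ z : ℤ, (fwdDiff (1 : ℚ))^[k] P.eval 0 = z ∧ (g < k → z = 0) := by
    intro k
    by_cases hk : g < k
    · refine ⟨0, ?_, fun _ => rfl⟩
      rw [Polynomial.fwdDiff_iter_eq_zero_of_degree_lt (lt_of_le_of_lt hP hk)]
      simp
    · have hk' : k ≤ g := not_lt.mp hk
      rw [fwdDiff_iter_eq_sum_shift]
      have hmem : (∑ i ∈ Finset.range (k + 1),
          ((-1 : ℤ) ^ (k - i) * (k.choose i : ℤ)) • P.eval ((0 : ℚ) + i • (1 : ℚ))) ∈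
          (Int.castRingHom ℚ).range := by
        refine Subring.sum_mem _ (fun i hi => ?_)
        have hi' : i ≤ g := by
          have := Finset.mem_range.mp hi
          omega
        obtain ⟨N, hN⟩ := hint i hi'
        have e : P.eval ((0 : ℚ) + i • (1 : ℚ)) = (N : ℚ) := by
          rw [← hN]
          congr 1
          simp
        rw [e]
        exact zsmul_mem (show (N : ℚ) ∈ (Int.castRingHom ℚ).range from ⟨N, rfl⟩) _
      obtain ⟨z, hz⟩ := hmem
      exact ⟨z, hz.symm, fun h => absurd h hk⟩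
  choose z hz hz0 using hc
  have hPn : ∀ n : ℕ, P.eval (n : ℚ) = ∑ k ∈ Finset.range (n + g + 1), (n.choose k : ℚ) * (z k : ℚ) := by
    intro n
    have h1 := shift_eq_sum_fwdDiff_iter (1 : ℚ) P.eval n 0
    have e : ((0 : ℚ) + n • (1 : ℚ)) = (n : ℚ) := by simp
    rw [e] at h1
    rw [h1]
    have h2 : ∑ k ∈ Finset.range (n + 1), n.choose k • (fwdDiff (1 : ℚ))^[k] P.eval 0 =
        ∑ k ∈ Finset.range (n + 1), (n.choose k : ℚ) * (z k : ℚ) := by
      refine Finset.sum_congr rfl (fun k _ => ?_)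
      rw [hz k, nsmul_eq_mul]
    rw [h2]
    refine Finset.sum_subset ?_ ?_
    · intro k hk
      rw [Finset.mem_range] at hk ⊢
      omega
    · intro k _ hk
      rw [Finset.mem_range, not_lt] at hk
      rw [Nat.choose_eq_zero_of_lt (by omega)]
      simp
  refine ⟨∑ k ∈ Finset.range (g + 1),
    C (z k * ((g.factorial / k.factorial : ℕ) : ℤ)) * descPochhammer ℤ k, ?_⟩
  apply Polynomial.eq_of_infinite_eval_eq
  refine Set.Infinite.mono ?_ (Set.infinite_range_of_injective (Nat.cast_injective (R := ℚ)))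
  rintro _ ⟨n, rfl⟩
  rw [Set.mem_setOf_eq]
  rw [Polynomial.map_sum, eval_smul, eval_finset_sum, smul_eq_mul, hPn n, Finset.mul_sum]
  have h3 : ∑ k ∈ Finset.range (g + 1), eval (n : ℚ)
      (map (Int.castRingHom ℚ) (C (z k * ((g.factorial / k.factorial : ℕ) : ℤ)) *
        descPochhammer ℤ k)) =
      ∑ k ∈ Finset.range (g + 1), (g.factorial : ℚ) * ((n.choose k : ℚ) * (z k : ℚ)) := by
    refine Finset.sum_congr rfl (fun k hk => ?_)
    have hk' : k ≤ g := by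
      have := Finset.mem_range.mp hk
      omega
    rw [Polynomial.map_mul, Polynomial.map_C, descPochhammer_map, eval_mul, eval_C,
      descPochhammer_eval_eq_descFactorial ℚ n k, Nat.descFactorial_eq_factorial_mul_choose]
    have hdiv : (g.factorial / k.factorial) * k.factorial = g.factorial :=
      Nat.div_mul_cancel (Nat.factorial_dvd_factorial hk')
    have hdivq : ((g.factorial / k.factorial : ℕ) : ℚ) * (k.factorial : ℚ) = (g.factorial : ℚ) := by
      exact_mod_cast hdiv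
    simp only [eq_intCast, Int.cast_mul, Int.cast_natCast, Nat.cast_mul]
    rw [← hdivq]
    ring
  rw [h3]
  symm
  refine Finset.sum_subset ?_ ?_
  · intro k hk
    rw [Finset.mem_range] at hk ⊢
    omega
  · intro k _ hk
    rw [Finset.mem_range, not_lt] at hk
    rw [hz0 k (by omega)]
    simp

theorem core (g : ℕ) (Q : ℚ[X]) (hQ : Q.natDegree ≤ g) (u v : ℚ) (huv : u < v)
    (hint : ∀ (a : ℤ) (b : ℕ), 0 < b → u < (a : ℚ) / (b : ℚ) → (a : ℚ) / (b : ℚ) < v →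
      ∃ N : ℤ, (N : ℚ) = (b : ℚ) ^ (2 * g) * Q.eval ((a : ℚ) / (b : ℚ)))
    (j : ℕ) : ∃ z : ℤ, (g.factorial : ℚ) * Q.coeff j = (z : ℚ) := by
  by_cases hj : g < j
  · refine ⟨0, ?_⟩
    rw [Polynomial.coeff_eq_zero_of_natDegree_lt (lt_of_le_of_lt hQ hj)]
    simp
  have hj' : j ≤ g := not_lt.mp hj
  obtain ⟨m, hm⟩ : ∃ m, j + m = 2 * g := ⟨2 * g - j, by omega⟩
  have scaled : ∀ b : ℕ, 0 < b → ((g : ℚ) + 1) < (b : ℚ) * (v - u) →
      ∃ z : ℤ, (g.factorial : ℚ) * Q.coeff j * (b : ℚ) ^ m = (z : ℚ) := by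
    intro b hb hbig
    have hbq : (0 : ℚ) < (b : ℚ) := by exact_mod_cast hb
    have hbne : (b : ℚ) ≠ 0 := ne_of_gt hbq
    obtain ⟨a₀, ha₀⟩ : ∃ a₀ : ℤ, a₀ = ⌊u * (b : ℚ)⌋ + 1 := ⟨_, rfl⟩
    have ha₀1 : u * (b : ℚ) < (a₀ : ℚ) := by
      rw [ha₀]
      push_cast
      exact Int.lt_floor_add_one _
    have ha₀2 : (a₀ : ℚ) ≤ u * (b : ℚ) + 1 := by
      rw [ha₀]
      push_cast
      have := Int.floor_le (u * (b : ℚ))
      linarith
    obtain ⟨R, hR⟩ : ∃ R : ℚ[X], R = C ((b : ℚ) ^ (2 * g)) *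
        Q.comp (C (1 / (b : ℚ)) * (X + C (a₀ : ℚ))) := ⟨_, rfl⟩
    have hReval : ∀ i : ℕ, R.eval (i : ℚ) =
        (b : ℚ) ^ (2 * g) * Q.eval ((((a₀ + (i : ℤ) : ℤ)) : ℚ) / (b : ℚ)) := by
      intro i
      rw [hR, eval_mul, eval_C, eval_comp, eval_mul, eval_C, eval_add, eval_X, eval_C]
      congr 2
      push_cast
      field_simp
      ring
    have hRint : ∀ i : ℕ, i ≤ g → ∃ N : ℤ, R.eval (i : ℚ) = N := by
      intro i hi
      have hiq : (i : ℚ) ≤ (g : ℚ) := by exact_mod_cast hi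
      have hi0 : (0 : ℚ) ≤ (i : ℚ) := Nat.cast_nonneg i
      have h1 : u < (((a₀ + (i : ℤ) : ℤ)) : ℚ) / (b : ℚ) := by
        rw [lt_div_iff₀ hbq]
        push_cast
        linarith
      have h2 : (((a₀ + (i : ℤ) : ℤ)) : ℚ) / (b : ℚ) < v := by
        rw [div_lt_iff₀ hbq]
        push_cast
        nlinarith
      obtain ⟨N, hN⟩ := hint (a₀ + (i : ℤ)) b hb h1 h2
      exact ⟨N, by rw [hReval i, hN]⟩
    have hRdeg : R.natDegree ≤ g := by
      rw [hR]
      refine le_trans (natDegree_C_mul_le _ _) ?_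
      refine le_trans natDegree_comp_le ?_
      have h1 : (C (1 / (b : ℚ)) * (X + C (a₀ : ℚ))).natDegree ≤ 1 := by
        refine le_trans (natDegree_C_mul_le _ _) ?_
        exact (natDegree_X_add_C _).le
      calc Q.natDegree * (C (1 / (b : ℚ)) * (X + C (a₀ : ℚ))).natDegree
          ≤ g * 1 := Nat.mul_le_mul hQ h1
        _ = g := mul_one g
    obtain ⟨Z, hZ⟩ := intval g R hRdeg hRint
    have hQR : Q = C (1 / (b : ℚ) ^ (2 * g)) * R.comp (C (b : ℚ) * X - C (a₀ : ℚ)) := by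
      rw [hR, mul_comp, C_comp, comp_assoc]
      have e1 : (C (1 / (b : ℚ)) * (X + C (a₀ : ℚ))).comp (C (b : ℚ) * X - C (a₀ : ℚ)) = X := by
        rw [mul_comp, C_comp, add_comp, X_comp, C_comp, sub_add_cancel, ← mul_assoc, ← C_mul,
          one_div, inv_mul_cancel₀ hbne, C_1, one_mul]
      rw [e1, comp_X, ← mul_assoc, ← C_mul, one_div, inv_mul_cancel₀ (pow_ne_zero _ hbne), C_1,
        one_mul]
    obtain ⟨T, hT⟩ : ∃ T : ℤ[X], T = Z.comp (X - C a₀) := ⟨_, rfl⟩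
    have hW : Z.comp (C (b : ℤ) * X - C a₀) = T.comp (C (b : ℤ) * X) := by
      rw [hT, comp_assoc, sub_comp, X_comp, C_comp]
    have hL : (C (b : ℚ) * X - C (a₀ : ℚ)) =
        (C (b : ℤ) * X - C a₀ : ℤ[X]).map (Int.castRingHom ℚ) := by
      simp
    have hgQ : (g.factorial : ℚ) • Q =
        C (1 / (b : ℚ) ^ (2 * g)) * (T.comp (C (b : ℤ) * X)).map (Int.castRingHom ℚ) := by
      rw [← hW, Polynomial.map_comp, ← hL, ← hZ, smul_comp]
      conv_lhs => rw [hQR]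
      rw [smul_eq_C_mul, smul_eq_C_mul]
      ring
    have hTc : (T.comp (C (b : ℤ) * X)).coeff j = T.coeff j * (b : ℤ) ^ j := comp_C_mul_X_coeff
    have hcoef : (g.factorial : ℚ) * Q.coeff j =
        1 / (b : ℚ) ^ (2 * g) * ((T.coeff j : ℚ) * (b : ℚ) ^ j) := by
      have h0 : ((g.factorial : ℚ) • Q).coeff j = (C (1 / (b : ℚ) ^ (2 * g)) * (T.comp (C (b : ℤ) * X)).map (Int.castRingHom ℚ)).coeff j := by rw [hgQ]
      rw [coeff_smul, coeff_C_mul, coeff_map, hTc, smul_eq_mul] at h0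
      rw [h0]
      simp
    refine ⟨T.coeff j, ?_⟩
    rw [hcoef, ← hm, pow_add]
    field_simp
  -- choose a large B
  have hvu : (0 : ℚ) < v - u := by linarith
  obtain ⟨B, hB⟩ := exists_nat_gt (((g : ℚ) + 1) / (v - u))
  have hBpos : (0 : ℚ) < (B : ℚ) := lt_of_le_of_lt (by positivity) hB
  have hB0 : 0 < B := by exact_mod_cast hBpos
  have hB1 : ((g : ℚ) + 1) < (B : ℚ) * (v - u) := by
    rwa [div_lt_iff₀ hvu] at hB
  have hB2 : ((g : ℚ) + 1) < ((B + 1 : ℕ) : ℚ) * (v - u) := by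
    push_cast
    nlinarith
  obtain ⟨z₁, hz₁⟩ := scaled B hB0 hB1
  obtain ⟨z₂, hz₂⟩ := scaled (B + 1) (Nat.succ_pos B) hB2
  have hcop : IsCoprime ((B : ℤ) ^ m) (((B + 1 : ℕ) : ℤ) ^ m) := by
    apply IsCoprime.pow
    exact ⟨-1, 1, by push_cast; ring⟩
  obtain ⟨s, t, hst⟩ := hcop
  refine ⟨s * z₁ + t * z₂, ?_⟩
  have hstq : (s : ℚ) * (B : ℚ) ^ m + (t : ℚ) * (((B + 1 : ℕ) : ℚ)) ^ m = 1 := by
    exact_mod_cast hst
  push_cast
  rw [← hz₁, ← hz₂]
  calc (g.factorial : ℚ) * Q.coeff j = (g.factorial : ℚ) * Q.coeff j * 1 := by ring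
    _ = (g.factorial : ℚ) * Q.coeff j *
        ((s : ℚ) * (B : ℚ) ^ m + (t : ℚ) * (((B + 1 : ℕ) : ℚ)) ^ m) := by rw [hstq]
    _ = _ := by push_cast; ring

end H9IV
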