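import Mathlib
import Groth.Prelude.Def_W4c6eohyperellchar2Gc
import Groth.Agent.Lib.helper9.GcMod

/-! helper9: the nilpotent block `NF`, `NV` on `GcMod c k` and its final filtration `Nfil`. -/

set_option autoImplicit false
set_option linter.unusedSectionVars false
set_option linter.unusedVariables false

namespace H9Gc
open W4c6eohyperellchar2

universe u
variable (c : ℕ) (k : Type u) [Field k] [CharP k 2] [PerfectRing k 2]

/-- coordinate description of `Nfil`. -/
def Pfil (i : ℕ) : Submodule k (GcMod c k) where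
  carrier := {v | (∀ t : Fin c, i < t.val + 1 → v.2 t = 0) ∧
    (∀ t : Fin c, t.val + 1 + i ≤ 2 * c → v.1 t = 0)}
  add_mem' := by
    rintro v w ⟨hv1, hv2⟩ ⟨hw1, hw2⟩
    refine ⟨fun t ht => ?_, fun t ht => ?_⟩
    · show v.2 t + w.2 t = 0
      rw [hv1 t ht, hw1 t ht, add_zero]
    · show v.1 t + w.1 t = 0
      rw [hv2 t ht, hw2 t ht, add_zero]
  zero_mem' := ⟨fun _ _ => rfl, fun _ _ => rfl⟩
  smul_mem' := by
    rintro r v ⟨hv1, hv2⟩
    refine ⟨fun t ht => ?_, fun t ht => ?_⟩
    · show r * v.2 t = 0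
      rw [hv1 t ht, mul_zero]
    · show r * v.1 t = 0
      rw [hv2 t ht, mul_zero]

theorem mem_Pfil (i : ℕ) (v : GcMod c k) : v ∈ Pfil c k i ↔
    (∀ t : Fin c, i < t.val + 1 → v.2 t = 0) ∧
      (∀ t : Fin c, t.val + 1 + i ≤ 2 * c → v.1 t = 0) :=
  Iff.rfl

theorem Nfil_eq_Pfil (i : ℕ) : Nfil c k i = Pfil c k i := by
  apply le_antisymm
  · unfold Nfil
    rw [Submodule.span_le]
    rintro v (⟨n, hn, rfl⟩ | ⟨n, hn, rfl⟩)
    · rw [Set.mem_Icc] at hn
      have h3 := le_min_iff.mp hn.2
      rw [SetLike.mem_coe, mem_Pfil]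
      refine ⟨fun t ht => ?_, fun t _ => rfl⟩
      show (if t.val + 1 = n then (1:k) else 0) = 0
      rw [if_neg (by omega)]
    · rw [Set.mem_Ioc] at hn
      rw [SetLike.mem_coe, mem_Pfil]
      refine ⟨fun t _ => rfl, fun t ht => ?_⟩
      show (if t.val + 1 = n then (1:k) else 0) = 0
      rw [if_neg (by omega)]
  · intro v hv
    rw [mem_Pfil] at hv
    obtain ⟨hv1, hv2⟩ := hv
    rw [decomp c k v]
    refine Submodule.sum_mem _ (fun t _ => Submodule.add_mem _ ?_ ?_)
    · by_cases h : v.1 t = 0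
      · rw [h, zero_smul]; exact Submodule.zero_mem _
      · apply Submodule.smul_mem
        apply Submodule.subset_span
        right
        refine ⟨t.val + 1, ?_, rfl⟩
        rw [Set.mem_Ioc]
        have h1 := t.isLt
        have h2 : ¬ (t.val + 1 + i ≤ 2 * c) := fun h' => h (hv2 t h')
        omega
    · by_cases h : v.2 t = 0
      · rw [h, zero_smul]; exact Submodule.zero_mem _
      · apply Submodule.smul_mem
        apply Submodule.subset_span
        left
        refine ⟨t.val + 1, ?_, rfl⟩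
        rw [Set.mem_Icc]
        have h1 := t.isLt
        have h2 : ¬ (i < t.val + 1) := fun h' => h (hv1 t h')
        exact ⟨by omega, le_min (by omega) (by omega)⟩

theorem Nfil_succ_le (i : ℕ) :
    ∃ w : GcMod c k, Nfil c k (i + 1) ≤ Nfil c k i ⊔ Submodule.span k {w} := by
  by_cases hic : i < c
  · refine ⟨Y c k (i + 1), ?_⟩
    unfold Nfil
    rw [← Submodule.span_union]
    apply Submodule.span_mono
    rintro v (⟨n, hn, rfl⟩ | ⟨n, hn, rfl⟩)
    · rw [Set.mem_Icc] at hn
      have h3 := le_min_iff.mp hn.2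
      by_cases h : n ≤ i
      · left; left
        exact ⟨n, Set.mem_Icc.mpr ⟨hn.1, le_min h h3.2⟩, rfl⟩
      · right
        have h4 : n = i + 1 := by omega
        show Y c k n = Y c k (i + 1)
        rw [h4]
    · rw [Set.mem_Ioc] at hn
      exfalso; omega
  · refine ⟨X c k (2 * c - i), ?_⟩
    unfold Nfil
    rw [← Submodule.span_union]
    apply Submodule.span_mono
    rintro v (⟨n, hn, rfl⟩ | ⟨n, hn, rfl⟩)
    · rw [Set.mem_Icc] at hn
      have h3 := le_min_iff.mp hn.2
      left; left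
      exact ⟨n, Set.mem_Icc.mpr ⟨hn.1, le_min (by omega) h3.2⟩, rfl⟩
    · rw [Set.mem_Ioc] at hn
      by_cases h : 2 * c - i < n
      · left; right
        exact ⟨n, Set.mem_Ioc.mpr ⟨h, hn.2⟩, rfl⟩
      · right
        have h4 : n = 2 * c - i := by omega
        show X c k n = X c k (2 * c - i)
        rw [h4]

theorem finrank_Nfil_succ_le (i : ℕ) :
    Module.finrank k (Nfil c k (i + 1)) ≤ Module.finrank k (Nfil c k i) + 1 := by
  obtain ⟨w, hw⟩ := Nfil_succ_le c k i
  have h1 : Module.finrank k (Nfil c k (i + 1)) ≤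
      Module.finrank k ↥(Nfil c k i ⊔ Submodule.span k {w}) := Submodule.finrank_mono hw
  have h2 := Submodule.finrank_add_le_finrank_add_finrank (Nfil c k i) (Submodule.span k {w})
  have h3 : Module.finrank k (Submodule.span k ({w} : Set (GcMod c k))) ≤ 1 := by
    have := finrank_span_le_card (R := k) ({w} : Set (GcMod c k))
    simpa using this
  omega

theorem Nfil_zero : Nfil c k 0 = ⊥ := by
  rw [Nfil_eq_Pfil, Submodule.eq_bot_iff]
  intro v hv
  rw [mem_Pfil] at hv
  refine Prod.ext (funext fun t => hv.2 t (by have := t.isLt; omega))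
    (funext fun t => hv.1 t (by omega))

theorem Nfil_top : Nfil c k (2 * c) = ⊤ := by
  rw [Nfil_eq_Pfil, eq_top_iff]
  intro v _
  rw [mem_Pfil]
  exact ⟨fun t ht => by have := t.isLt; exfalso; omega,
    fun t ht => by have := t.isLt; exfalso; omega⟩

theorem finrank_GcMod : Module.finrank k (GcMod c k) = 2 * c := by
  show Module.finrank k ((Fin c → k) × (Fin c → k)) = 2 * c
  rw [Module.finrank_prod, Module.finrank_fin_fun]
  ring

theorem finrank_Nfil_le (i : ℕ) : Module.finrank k (Nfil c k i) ≤ i := by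
  induction i with
  | zero => rw [Nfil_zero]; simp
  | succ i ih => have := finrank_Nfil_succ_le c k i; omega

theorem finrank_Nfil_ge (d : ℕ) (hd : d ≤ 2 * c) :
    2 * c - d ≤ Module.finrank k (Nfil c k (2 * c - d)) := by
  induction d with
  | zero =>
    rw [Nat.sub_zero, Nfil_top, finrank_top, finrank_GcMod]
  | succ d ih =>
    have h1 := ih (by omega)
    have h2 := finrank_Nfil_succ_le c k (2 * c - (d + 1))
    have h3 : 2 * c - (d + 1) + 1 = 2 * c - d := by omega
    rw [h3] at h2
    omega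

theorem finrank_Nfil (i : ℕ) (hi : i ≤ 2 * c) : Module.finrank k (Nfil c k i) = i := by
  have h1 := finrank_Nfil_le c k i
  have h2 := finrank_Nfil_ge c k (2 * c - i) (by omega)
  have h3 : 2 * c - (2 * c - i) = i := by omega
  rw [h3] at h2
  omega

theorem coefY_eq (w : GcMod c k) (m : Fin c) : coefY w (m.val + 1) = w.2 m := by
  unfold coefY
  rw [dif_pos ⟨by omega, by have := m.isLt; omega⟩]
  exact congrArg w.2 (Fin.ext (by show m.val + 1 - 1 = m.val; omega))

theorem coefX_eq (w : GcMod c k) (m : Fin c) : coefX w (m.val + 1) = w.1 m := by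
  unfold coefX
  rw [dif_pos ⟨by omega, by have := m.isLt; omega⟩]
  exact congrArg w.1 (Fin.ext (by show m.val + 1 - 1 = m.val; omega))

theorem coefY_eq_zero (w : GcMod c k) (n : ℕ) (h : ∀ t : Fin c, t.val + 1 = n → w.2 t = 0) :
    coefY w n = 0 := by
  unfold coefY
  by_cases hn : 1 ≤ n ∧ n ≤ c
  · rw [dif_pos hn]
    exact h _ (by show n - 1 + 1 = n; omega)
  · rw [dif_neg hn]

theorem coefX_eq_zero (w : GcMod c k) (n : ℕ) (h : ∀ t : Fin c, t.val + 1 = n → w.1 t = 0) :
    coefX w n = 0 := by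
  unfold coefX
  by_cases hn : 1 ≤ n ∧ n ≤ c
  · rw [dif_pos hn]
    exact h _ (by show n - 1 + 1 = n; omega)
  · rw [dif_neg hn]

theorem NV_eq_of (a : ℕ → k) (v w : GcMod c k) (h1 : w.1 = 0)
    (h2 : ∀ m : Fin c, coefY v (2 * (m.val + 1)) +
      ∑ j : Fin c, (if (j.val + 1) % 2 = 1 ∧ (m.val + 1) + j.val / 2 ≤ c then
        v.1 j * a ((m.val + 1) + j.val / 2) else 0) = (w.2 m) ^ 2) :
    NV c k a v = w := by
  unfold NV
  refine Prod.ext h1.symm ?_
  funext m
  apply (frobeniusEquiv k 2).injective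
  show (frobeniusEquiv k 2) ((frobeniusEquiv k 2).symm (coefY v (2 * (m.val + 1))) +
    ∑ j : Fin c, (if (j.val + 1) % 2 = 1 ∧ (m.val + 1) + j.val / 2 ≤ c then
      (frobeniusEquiv k 2).symm (v.1 j * a ((m.val + 1) + j.val / 2)) else 0))
      = (frobeniusEquiv k 2) (w.2 m)
  rw [map_add, map_sum, RingEquiv.apply_symm_apply, frobeniusEquiv_def, ← h2 m]
  congr 1
  apply Finset.sum_congr rfl
  intro j _
  by_cases hc : (j.val + 1) % 2 = 1 ∧ (m.val + 1) + j.val / 2 ≤ c
  · rw [if_pos hc, if_pos hc, RingEquiv.apply_symm_apply]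
  · rw [if_neg hc, if_neg hc, map_zero]

theorem NV_mem (a : ℕ → k) (i : ℕ) (v : GcMod c k) (hv : v ∈ Pfil c k i) :
    NV c k a v ∈ Pfil c k (i / 2) := by
  rw [mem_Pfil] at hv ⊢
  obtain ⟨hv1, hv2⟩ := hv
  refine ⟨fun t ht => ?_, fun t _ => rfl⟩
  have ht' := t.isLt
  show (frobeniusEquiv k 2).symm (coefY v (2 * (t.val + 1))) +
    ∑ j : Fin c, (if (j.val + 1) % 2 = 1 ∧ (t.val + 1) + j.val / 2 ≤ c then
      (frobeniusEquiv k 2).symm (v.1 j * a ((t.val + 1) + j.val / 2)) else 0) = 0
  have h1 : coefY v (2 * (t.val + 1)) = 0 :=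
    coefY_eq_zero c k v _ (fun s hs => hv1 s (by omega))
  rw [h1, map_zero, zero_add]
  apply Finset.sum_eq_zero
  intro j _
  by_cases hc : (j.val + 1) % 2 = 1 ∧ (t.val + 1) + j.val / 2 ≤ c
  · rw [if_pos hc, hv2 j (by omega), zero_mul, map_zero]
  · rw [if_neg hc]

theorem tri_solve (a : ℕ → k) (ha : a c ≠ 0) (χ : ℕ → Prop) [DecidablePred χ] (β : ℕ → k) :
    ∀ R : ℕ, ∃ ξ : ℕ → k, ∀ r < R, χ r → r ≤ c →
      ∑ s ∈ Finset.range (r + 1), (if χ s then ξ s * a (c - r + s) else 0) = β r := by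
  intro R
  induction R with
  | zero => exact ⟨fun _ => 0, fun r hr => by omega⟩
  | succ R ih =>
    obtain ⟨ξ, hξ⟩ := ih
    obtain ⟨y, hy⟩ : ∃ y : k, y = (β R - ∑ s ∈ Finset.range R,
      (if χ s then ξ s * a (c - R + s) else 0)) / a c := ⟨_, rfl⟩
    refine ⟨Function.update ξ R y, ?_⟩
    intro r hr hχ hrc
    have hcongr : ∀ r' ≤ R, ∑ s ∈ Finset.range r',
        (if χ s then Function.update ξ R y s * a (c - r + s) else 0)
        = ∑ s ∈ Finset.range r', (if χ s then ξ s * a (c - r + s) else 0) := by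
      intro r' hr'
      apply Finset.sum_congr rfl
      intro s hs
      rw [Finset.mem_range] at hs
      rw [Function.update_of_ne (by omega)]
    by_cases hrR : r < R
    · rw [hcongr (r + 1) (by omega)]
      exact hξ r hrR hχ hrc
    · have hrR' : r = R := by omega
      rw [Finset.sum_range_succ, hcongr r (by omega), if_pos hχ, hrR', Function.update_self,
        Nat.sub_add_cancel (hrR' ▸ hrc), hy, div_mul_cancel₀ _ ha]
      ring

theorem sum_fin_even (H : ℕ → k) (r : ℕ) (hr : 2 * r < c)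
    (hodd : ∀ j, j % 2 = 1 → H j = 0) (hbig : ∀ j, r < j / 2 → H j = 0) :
    ∑ j : Fin c, H j.val = ∑ s ∈ Finset.range (r + 1), H (2 * s) := by
  rw [Fin.sum_univ_eq_sum_range H c]
  have himg : ∑ s ∈ Finset.range (r + 1), H (2 * s)
      = ∑ j ∈ (Finset.range (r + 1)).image (fun s => 2 * s), H j := by
    rw [Finset.sum_image]
    intro x _ y _ h
    have h' : 2 * x = 2 * y := h
    omega
  rw [himg]
  symm
  apply Finset.sum_subset
  · intro j hj
    rw [Finset.mem_image] at hj
    obtain ⟨s, hs, rfl⟩ := hj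
    rw [Finset.mem_range] at hs ⊢
    omega
  · intro j _ hj
    by_cases h1 : j % 2 = 1
    · exact hodd j h1
    · by_cases h2 : r < j / 2
      · exact hbig j h2
      · exfalso
        apply hj
        rw [Finset.mem_image]
        exact ⟨j / 2, Finset.mem_range.mpr (by omega), by show 2 * (j / 2) = j; omega⟩

theorem NV_surj (a : ℕ → k) (ha : a c ≠ 0) (i : ℕ) (hi : i ≤ 2 * c) (w : GcMod c k)
    (hw : w ∈ Pfil c k (i / 2)) : ∃ v ∈ Pfil c k i, NV c k a v = w := by
  rw [mem_Pfil] at hw
  obtain ⟨hw1, hw2⟩ := hw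
  obtain ⟨ξ, hξ⟩ := tri_solve c k a ha (fun s => 2 * c < 2 * s + 1 + i)
    (fun r => coefY w (c - r) ^ 2) c
  have hξ' : ∀ r < c, 2 * c < 2 * r + 1 + i → r ≤ c →
      ∑ s ∈ Finset.range (r + 1), (if 2 * c < 2 * s + 1 + i then ξ s * a (c - r + s) else 0)
        = coefY w (c - r) ^ 2 := hξ
  obtain ⟨x, hx⟩ : ∃ x : Fin c → k, x = fun j =>
    if (j.val + 1) % 2 = 1 ∧ 2 * c < j.val + 1 + i then ξ (j.val / 2) else 0 := ⟨_, rfl⟩
  have hxj : ∀ j : Fin c, x j =
      if (j.val + 1) % 2 = 1 ∧ 2 * c < j.val + 1 + i then ξ (j.val / 2) else 0 :=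
    fun j => by rw [hx]
  obtain ⟨S, hS⟩ : ∃ S : ℕ → k, S = fun m => ∑ j : Fin c,
    (if (j.val + 1) % 2 = 1 ∧ m + j.val / 2 ≤ c then x j * a (m + j.val / 2) else 0) := ⟨_, rfl⟩
  have hSm : ∀ m : ℕ, S m = ∑ j : Fin c,
      (if (j.val + 1) % 2 = 1 ∧ m + j.val / 2 ≤ c then x j * a (m + j.val / 2) else 0) :=
    fun m => by rw [hS]
  obtain ⟨y, hy⟩ : ∃ y : Fin c → k, y = fun t =>
    if (t.val + 1) % 2 = 0 then coefY w ((t.val + 1) / 2) ^ 2 - S ((t.val + 1) / 2) else 0 :=
    ⟨_, rfl⟩
  have hyt : ∀ t : Fin c, y t =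
      if (t.val + 1) % 2 = 0 then coefY w ((t.val + 1) / 2) ^ 2 - S ((t.val + 1) / 2) else 0 :=
    fun t => by rw [hy]
  have hcoefw : ∀ m : ℕ, i / 2 < m → coefY w m = 0 := fun m hm =>
    coefY_eq_zero c k w m (fun s hs => hw1 s (by omega))
  have hSzero : ∀ m : ℕ, i / 2 < m → S m = 0 := by
    intro m hm
    rw [hSm]
    apply Finset.sum_eq_zero
    intro j _
    by_cases hc : (j.val + 1) % 2 = 1 ∧ m + j.val / 2 ≤ c
    · rw [if_pos hc, hxj, if_neg (by omega), zero_mul]
    · rw [if_neg hc]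
  refine ⟨(x, y), ?_, ?_⟩
  · rw [mem_Pfil]
    refine ⟨fun t ht => ?_, fun t ht => ?_⟩
    · show y t = 0
      rw [hyt]
      by_cases h : (t.val + 1) % 2 = 0
      · rw [if_pos h, hcoefw _ (by omega), hSzero _ (by omega)]
        simp
      · rw [if_neg h]
    · show x t = 0
      rw [hxj, if_neg (by omega)]
  · apply NV_eq_of
    · funext t
      exact hw2 t (by have := t.isLt; omega)
    · intro m
      have hm := m.isLt
      have hsum : ∑ j : Fin c, (if (j.val + 1) % 2 = 1 ∧ (m.val + 1) + j.val / 2 ≤ c then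
          (x, y).1 j * a ((m.val + 1) + j.val / 2) else 0) = S (m.val + 1) := by
        rw [hSm]
      rw [hsum]
      by_cases h2m : 2 * (m.val + 1) ≤ c
      · obtain ⟨T, hT⟩ : ∃ T : Fin c, T.val = 2 * (m.val + 1) - 1 :=
          ⟨⟨2 * (m.val + 1) - 1, by omega⟩, rfl⟩
        have hcy : coefY (x, y) (2 * (m.val + 1)) = y T := by
          unfold coefY
          rw [dif_pos ⟨by omega, h2m⟩]
          exact congrArg y (Fin.ext hT.symm)
        rw [hcy, hyt T, if_pos (by omega), (by omega : (T.val + 1) / 2 = m.val + 1), coefY_eq]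
        ring
      · have hcy : coefY (x, y) (2 * (m.val + 1)) = 0 := by
          unfold coefY
          rw [dif_neg (by omega)]
        rw [hcy, zero_add, hSm]
        obtain ⟨r, hr⟩ : ∃ r, r = c - (m.val + 1) := ⟨_, rfl⟩
        obtain ⟨H, hH⟩ : ∃ H : ℕ → k, H = fun j =>
          if (j + 1) % 2 = 1 ∧ (m.val + 1) + j / 2 ≤ c then
            (if (j + 1) % 2 = 1 ∧ 2 * c < j + 1 + i then ξ (j / 2) else 0) *
              a ((m.val + 1) + j / 2) else 0 := ⟨_, rfl⟩
        have hHj : ∀ j, H j = if (j + 1) % 2 = 1 ∧ (m.val + 1) + j / 2 ≤ c then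
            (if (j + 1) % 2 = 1 ∧ 2 * c < j + 1 + i then ξ (j / 2) else 0) *
              a ((m.val + 1) + j / 2) else 0 := fun j => by rw [hH]
        have step1 : ∑ j : Fin c, (if (j.val + 1) % 2 = 1 ∧ (m.val + 1) + j.val / 2 ≤ c then
            x j * a ((m.val + 1) + j.val / 2) else 0) = ∑ j : Fin c, H j.val := by
          apply Finset.sum_congr rfl
          intro j _
          rw [hHj, hxj]
        have step2 := sum_fin_even c k H r (by omega)
          (fun j hj => by rw [hHj]; exact if_neg (by omega))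
          (fun j hj => by rw [hHj]; exact if_neg (by omega))
        have step3 : ∑ s ∈ Finset.range (r + 1), H (2 * s) = ∑ s ∈ Finset.range (r + 1),
            (if 2 * c < 2 * s + 1 + i then ξ s * a (c - r + s) else 0) := by
          apply Finset.sum_congr rfl
          intro s hs
          rw [Finset.mem_range] at hs
          rw [hHj, if_pos ⟨by omega, by omega⟩]
          have e1 : (2 * s) / 2 = s := by omega
          have e2 : m.val + 1 + s = c - r + s := by omega
          rw [e1, e2]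
          split_ifs <;> first | rfl | (exfalso; omega) | simp
        rw [step1, step2, step3]
        by_cases hχ : 2 * c < 2 * r + 1 + i
        · rw [hξ' r (by omega) hχ (by omega)]
          have e : c - r = m.val + 1 := by omega
          rw [e, coefY_eq]
        · rw [Finset.sum_eq_zero (fun s hs => if_neg (by rw [Finset.mem_range] at hs; omega))]
          rw [hw1 m (by omega)]
          simp

theorem NF_mem_iff (a : ℕ → k) (ha : a c ≠ 0) (i : ℕ) (hi : i ≤ 2 * c) (v : GcMod c k) :
    NF c k a v ∈ Pfil c k i ↔ v ∈ Pfil c k (c + (i + 1) / 2) := by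
  rw [mem_Pfil, mem_Pfil]
  constructor
  · rintro ⟨h1, h2⟩
    refine ⟨fun t ht => by have := t.isLt; exfalso; omega, ?_⟩
    have key : ∀ n : ℕ, ∀ t : Fin c, t.val = n →
        t.val + 1 + (c + (i + 1) / 2) ≤ 2 * c → v.1 t = 0 := by
      intro n
      induction n using Nat.strong_induction_on with
      | _ n ih =>
        intro t htn ht
        have htc := t.isLt
        by_cases hc2 : 2 * (t.val + 1) ≤ c
        · have hT : 2 * (t.val + 1) - 1 < c := by omega
          have h3 := h2 ⟨2 * (t.val + 1) - 1, hT⟩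
            (by show 2 * (t.val + 1) - 1 + 1 + i ≤ 2 * c; omega)
          have e : (NF c k a v).1 ⟨2 * (t.val + 1) - 1, hT⟩ = (v.1 t) ^ 2 := by
            show (if (2 * (t.val + 1) - 1 + 1) % 2 = 0 then
              coefX v ((2 * (t.val + 1) - 1 + 1) / 2) ^ 2 else 0) = _
            rw [if_pos (by omega)]
            have e2 : (2 * (t.val + 1) - 1 + 1) / 2 = t.val + 1 := by omega
            rw [e2, coefX_eq]
          rw [e] at h3
          exact (pow_eq_zero_iff two_ne_zero).mp h3
        · have hT : 2 * (c - (t.val + 1)) < c := by omega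
          have h3 := h1 ⟨2 * (c - (t.val + 1)), hT⟩
            (by show i < 2 * (c - (t.val + 1)) + 1; omega)
          have e : (NF c k a v).2 ⟨2 * (c - (t.val + 1)), hT⟩ = (v.1 t) ^ 2 * a c := by
            show (if (2 * (c - (t.val + 1)) + 1) % 2 = 1 then
              ∑ j : Fin c, (if c < 2 * (j.val + 1) ∧
                (j.val + 1) + (2 * (c - (t.val + 1))) / 2 ≤ c then
                  v.1 j ^ 2 * a ((j.val + 1) + (2 * (c - (t.val + 1))) / 2) else 0) else 0) = _
            rw [if_pos (by omega)]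
            have e2 : (2 * (c - (t.val + 1))) / 2 = c - (t.val + 1) := by omega
            rw [e2, Finset.sum_eq_single t]
            · rw [if_pos ⟨by omega, by omega⟩]
              have e3 : t.val + 1 + (c - (t.val + 1)) = c := by omega
              rw [e3]
            · intro j _ hjt
              by_cases hcond : c < 2 * (j.val + 1) ∧ (j.val + 1) + (c - (t.val + 1)) ≤ c
              · have hjne : j.val ≠ t.val := fun h => hjt (Fin.ext h)
                rw [if_pos hcond, ih j.val (by omega) j rfl (by omega)]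
                simp
              · rw [if_neg hcond]
            · intro h; exact absurd (Finset.mem_univ t) h
          rw [e] at h3
          have hz : (v.1 t) ^ 2 = 0 := by
            rcases mul_eq_zero.mp h3 with h | h
            · exact h
            · exact absurd h ha
          exact (pow_eq_zero_iff two_ne_zero).mp hz
    exact fun t ht => key t.val t rfl ht
  · rintro ⟨_, h2⟩
    refine ⟨fun t ht => ?_, fun t ht => ?_⟩
    · have htc := t.isLt
      show (if (t.val + 1) % 2 = 1 then ∑ j : Fin c,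
        (if c < 2 * (j.val + 1) ∧ (j.val + 1) + t.val / 2 ≤ c then
          v.1 j ^ 2 * a ((j.val + 1) + t.val / 2) else 0) else 0) = 0
      by_cases hodd : (t.val + 1) % 2 = 1
      · rw [if_pos hodd]
        apply Finset.sum_eq_zero
        intro j _
        by_cases hcond : c < 2 * (j.val + 1) ∧ (j.val + 1) + t.val / 2 ≤ c
        · rw [if_pos hcond, h2 j (by omega)]
          simp
        · rw [if_neg hcond]
      · rw [if_neg hodd]
    · have htc := t.isLt
      show (if (t.val + 1) % 2 = 0 then coefX v ((t.val + 1) / 2) ^ 2 else 0) = 0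
      by_cases heven : (t.val + 1) % 2 = 0
      · rw [if_pos heven, coefX_eq_zero c k v _ (fun s hs => h2 s (by omega))]
        simp
      · rw [if_neg heven]

theorem main48 (a : ℕ → k) (ha : a c ≠ 0) (i : ℕ) (hi : i ≤ 2 * c) :
    Module.finrank k (Nfil c k i) = i ∧
      NV c k a '' (Nfil c k i : Set (GcMod c k)) = (Nfil c k (i / 2) : Set (GcMod c k)) ∧
      NF c k a ⁻¹' (Nfil c k i : Set (GcMod c k))
        = (Nfil c k (c + (i + 1) / 2) : Set (GcMod c k)) := by
  refine ⟨finrank_Nfil c k i hi, ?_, ?_⟩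
  · rw [Nfil_eq_Pfil, Nfil_eq_Pfil]
    apply Set.eq_of_subset_of_subset
    · rintro w ⟨v, hv, rfl⟩
      exact NV_mem c k a i v hv
    · intro w hw
      obtain ⟨v, hv, hvw⟩ := NV_surj c k a ha i hi w hw
      exact ⟨v, hv, hvw⟩
  · rw [Nfil_eq_Pfil, Nfil_eq_Pfil]
    ext v
    exact NF_mem_iff c k a ha i hi v

end H9Gc
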