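import Mathlib
import Groth.Prelude.Def_HopfRep
import Groth.Prelude.Def_Hoch
import Groth.Prelude.Def_GLin
import Groth.Agent.Lib.helper9.Reynolds

/-!
# helper9: orbit morphisms of comodule algebras
-/

open TensorProduct

namespace H9Orb

universe u

theorem exists_point (k : Type u) (R : Type u) [Field k] [IsAlgClosed k] [CommRing R] [Algebra k R]
    [Algebra.FiniteType k R] (I : Ideal R) (hI : I ≠ ⊤) :
    ∃ z : R →ₐ[k] k, I ≤ RingHom.ker z := by
  obtain ⟨m, hm, hIm⟩ := Ideal.exists_le_maximal I hI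
  letI : Field (R ⧸ m) := Ideal.Quotient.field m
  haveI : Module.Finite k (R ⧸ m) := finite_of_finite_type_of_isJacobsonRing k (R ⧸ m)
  haveI : Algebra.IsIntegral k (R ⧸ m) := Algebra.IsIntegral.of_finite k (R ⧸ m)
  have hbij := IsAlgClosed.algebraMap_bijective_of_isIntegral (k := k) (K := R ⧸ m)
  let e : k ≃ₐ[k] (R ⧸ m) := AlgEquiv.ofBijective (Algebra.ofId k (R ⧸ m)) hbij
  refine ⟨(e.symm : (R ⧸ m) →ₐ[k] k).comp (Ideal.Quotient.mkₐ k m), ?_⟩
  intro f hf
  rw [RingHom.mem_ker]
  show e.symm (Ideal.Quotient.mk m f) = 0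
  rw [Ideal.Quotient.eq_zero_iff_mem.mpr (hIm hf), map_zero]

section orb

variable {k : Type u} [Field k] {A : Type u} [CommRing A] [Bialgebra k A]
  {R : Type u} [CommRing R] [Algebra k R] [HopfRep.Comod k A R] [GLin.IsCoactAlg k A R]

/-- `(x ⊗ id)` followed by the left unitor, as a linear map. -/
noncomputable def psi (N : Type u) [AddCommGroup N] [Module k N] (x : R →ₐ[k] k) :
    R ⊗[k] N →ₗ[k] N :=
  (TensorProduct.lid k N).toLinearMap ∘ₗ (x.toLinearMap.rTensor N)

theorem psi_tmul (N : Type u) [AddCommGroup N] [Module k N] (x : R →ₐ[k] k) (r : R) (n : N) :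
    psi N x (r ⊗ₜ[k] n) = x r • n := by
  rw [psi, LinearMap.comp_apply, LinearMap.rTensor_tmul, LinearEquiv.coe_coe,
    TensorProduct.lid_tmul]
  rfl

theorem orb_eq (x : R →ₐ[k] k) (f : R) :
    GLin.orbitHom k A x f = psi A x (HopfRep.Comod.coact (k := k) (A := A) f) := by
  show Algebra.TensorProduct.lid k A (Algebra.TensorProduct.map x (AlgHom.id k A)
    (HopfRep.Comod.coact (k := k) (A := A) f)) = _
  generalize HopfRep.Comod.coact (k := k) (A := A) f = t
  induction t using TensorProduct.induction_on with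
  | zero => simp
  | tmul r a =>
    rw [Algebra.TensorProduct.map_tmul, Algebra.TensorProduct.lid_tmul, psi_tmul]
    rfl
  | add s t hs ht => rw [map_add, map_add, map_add, hs, ht]

theorem psi_assoc (x : R →ₐ[k] k) (s : R ⊗[k] A) (a : A) :
    psi (A ⊗[k] A) x (TensorProduct.assoc k R A A (s ⊗ₜ[k] a)) = psi A x s ⊗ₜ[k] a := by
  induction s using TensorProduct.induction_on with
  | zero => simp
  | tmul r b =>
    rw [TensorProduct.assoc_tmul, psi_tmul, psi_tmul, TensorProduct.smul_tmul']
  | add s t hs ht => rw [TensorProduct.add_tmul, map_add, map_add, hs, ht, map_add,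
      TensorProduct.add_tmul]

theorem psi_L1 (x : R →ₐ[k] k) (t : R ⊗[k] A) :
    psi (A ⊗[k] A) x (TensorProduct.assoc k R A A
      ((HopfRep.Comod.coact (k := k) (A := A) (V := R)).rTensor A t)) =
      (GLin.orbitHom k A x).toLinearMap.rTensor A t := by
  induction t using TensorProduct.induction_on with
  | zero => simp
  | tmul r a =>
    rw [LinearMap.rTensor_tmul, psi_assoc, LinearMap.rTensor_tmul, ← orb_eq]
    rfl
  | add s t hs ht => rw [map_add, map_add, map_add, hs, ht, map_add]

theorem psi_L2 (x : R →ₐ[k] k) (t : R ⊗[k] A) :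
    psi (A ⊗[k] A) x ((CoalgebraStruct.comul (R := k) (A := A)).lTensor R t) =
      CoalgebraStruct.comul (R := k) (A := A) (psi A x t) := by
  induction t using TensorProduct.induction_on with
  | zero => simp
  | tmul r a =>
    rw [LinearMap.lTensor_tmul, psi_tmul, psi_tmul, map_smul]
  | add s t hs ht => rw [map_add, map_add, map_add, hs, ht, map_add]

/-- the orbit map is a morphism of comodules to the regular comodule -/
theorem orb_comodHom (x : R →ₐ[k] k) : Hoch.IsComodHom A (GLin.orbitHom k A x).toLinearMap := by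
  apply LinearMap.ext
  intro f
  have hco := LinearMap.congr_fun (HopfRep.Comod.coassoc (k := k) (A := A) (V := R)) f
  simp only [LinearMap.comp_apply, LinearEquiv.coe_coe] at hco
  simp only [LinearMap.comp_apply]
  show CoalgebraStruct.comul (R := k) (A := A) (GLin.orbitHom k A x f) = _
  rw [orb_eq, ← psi_L2, ← hco, psi_L1]

theorem isSubcomod_kerOrb (x : R →ₐ[k] k) :
    HopfRep.IsSubcomod (k := k) (A := A) (LinearMap.ker (GLin.orbitHom k A x).toLinearMap) :=
  H9Comod.isSubcomod_ker (orb_comodHom x)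

theorem orb_inv (x : R →ₐ[k] k) (f : R) (hf : f ∈ GLin.invariants k A R) :
    GLin.orbitHom k A x f = algebraMap k A (x f) := by
  rw [orb_eq, (GLin.mem_invariants_iff k A R f).mp hf, psi_tmul, Algebra.algebraMap_eq_smul_one]

theorem nontrivialA (k' : Type u) [Field k'] (A' : Type u) [CommRing A'] [Bialgebra k' A'] :
    Nontrivial A' :=
  (Bialgebra.counitAlgHom k' A').toRingHom.domain_nontrivial

omit [HopfRep.Comod k A R] [GLin.IsCoactAlg k A R] in
theorem algebraMap_inj : Function.Injective (algebraMap k A) := by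
  haveI : Nontrivial A := nontrivialA k A
  exact (algebraMap k A).injective

theorem closure_inv (x z : R →ₐ[k] k) (h : GLin.InOrbitClosure k A x z) (f : R)
    (hf : f ∈ GLin.invariants k A R) : z f = x f := by
  have h1 : f - algebraMap k R (x f) ∈ RingHom.ker (GLin.orbitHom k A x) := by
    rw [RingHom.mem_ker, map_sub, orb_inv x f hf, AlgHom.commutes, sub_self]
  have h2 := h h1
  rw [RingHom.mem_ker, map_sub, AlgHom.commutes, sub_eq_zero] at h2
  exact h2

theorem inv_ker_orb (x : R →ₐ[k] k) (f : R) (hf : f ∈ GLin.invariants k A R)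
    (hk : GLin.orbitHom k A x f = 0) : x f = 0 := by
  rw [orb_inv x f hf] at hk
  exact algebraMap_inj (k := k) (A := A) (by rw [hk, map_zero])

end orb

end H9Orb
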