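import Mathlib
import Groth.Prelude.Def_HopfRep
import Groth.Prelude.Def_Hoch
import Groth.Prelude.Def_GLin
import Groth.Agent.Lib.helper9.OrbitLib

/-!
# helper9: the group of points acting on points; closed orbits
-/

open TensorProduct

namespace H9Orb

universe u

section act

variable {k : Type u} [Field k] {A : Type u} [CommRing A] [HopfAlgebra k A]
  {R : Type u} [CommRing R] [Algebra k R] [HopfRep.Comod k A R] [GLin.IsCoactAlg k A R]

theorem alg_lid_map {B : Type u} [CommRing B] [Algebra k B] (x : B →ₐ[k] k) (t : B ⊗[k] A) :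
    Algebra.TensorProduct.lid k A (Algebra.TensorProduct.map x (AlgHom.id k A) t) =
      psi A x t := by
  induction t using TensorProduct.induction_on with
  | zero => simp
  | tmul r a =>
    rw [Algebra.TensorProduct.map_tmul, Algebra.TensorProduct.lid_tmul, psi_tmul]
    rfl
  | add s t hs ht => rw [map_add, map_add, map_add, hs, ht]

/-- left translation by a point, as an algebra map -/
noncomputable def LgAlg (g : A →ₐ[k] k) : A →ₐ[k] A :=
  (Algebra.TensorProduct.lid k A).toAlgHom.comp
    ((Algebra.TensorProduct.map g (AlgHom.id k A)).comp (Bialgebra.comulAlgHom k A))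

theorem LgAlg_apply (g : A →ₐ[k] k) (a : A) :
    LgAlg g a = psi A g (CoalgebraStruct.comul (R := k) (A := A) a) := by
  rw [← alg_lid_map]
  rfl

theorem psi_comp (x : R →ₐ[k] k) (g : A →ₐ[k] k) (t : R ⊗[k] A) :
    psi A (g.comp (GLin.orbitHom k A x)) t =
      psi A g ((GLin.orbitHom k A x).toLinearMap.rTensor A t) := by
  induction t using TensorProduct.induction_on with
  | zero => simp
  | tmul r a =>
    rw [LinearMap.rTensor_tmul, psi_tmul, psi_tmul]
    rfl
  | add s t hs ht => rw [map_add, map_add, map_add, hs, ht]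

theorem orbitHom_actPt (g : A →ₐ[k] k) (x : R →ₐ[k] k) :
    GLin.orbitHom k A (GLin.actPt k g x) = (LgAlg g).comp (GLin.orbitHom k A x) := by
  apply AlgHom.ext
  intro f
  have hco := LinearMap.congr_fun (orb_comodHom (k := k) (A := A) x) f
  simp only [LinearMap.comp_apply] at hco
  rw [orb_eq, AlgHom.comp_apply, LgAlg_apply]
  show psi A (g.comp (GLin.orbitHom k A x)) _ = _
  rw [psi_comp, ← hco]
  rfl

theorem inv_psi (g : A →ₐ[k] k) (t : A ⊗[k] A) :
    (g.comp (HopfAlgebra.antipodeAlgHom k A)) (psi A g t) =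
      g (LinearMap.mul' k A ((HopfAlgebra.antipode k).lTensor A t)) := by
  induction t using TensorProduct.induction_on with
  | zero => simp
  | tmul a b =>
    rw [psi_tmul, LinearMap.lTensor_tmul, LinearMap.mul'_apply, map_smul, smul_eq_mul, map_mul]
    rfl
  | add s t hs ht => rw [map_add, map_add, map_add, hs, ht, map_add, map_add]

theorem inv_LgAlg (g : A →ₐ[k] k) (a : A) :
    (g.comp (HopfAlgebra.antipodeAlgHom k A)) (LgAlg g a) =
      CoalgebraStruct.counit (R := k) (A := A) a := by
  rw [LgAlg_apply, inv_psi, HopfAlgebra.mul_antipode_lTensor_comul_apply, AlgHom.commutes]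
  rfl

theorem counit_psi (x : R →ₐ[k] k) (t : R ⊗[k] A) :
    CoalgebraStruct.counit (R := k) (A := A) (psi A x t) =
      psi k x ((CoalgebraStruct.counit (R := k) (A := A)).lTensor R t) := by
  induction t using TensorProduct.induction_on with
  | zero => simp
  | tmul r a =>
    rw [LinearMap.lTensor_tmul, psi_tmul, psi_tmul, map_smul]
  | add s t hs ht => rw [map_add, map_add, map_add, hs, ht, map_add]

theorem counit_orb (x : R →ₐ[k] k) (f : R) :
    CoalgebraStruct.counit (R := k) (A := A) (GLin.orbitHom k A x f) = x f := by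
  have h := LinearMap.congr_fun (HopfRep.Comod.counit_comp (k := k) (A := A) (V := R)) f
  simp only [LinearMap.comp_apply, LinearMap.flip_apply, TensorProduct.mk_apply] at h
  rw [orb_eq, counit_psi, h, psi_tmul, smul_eq_mul, mul_one]

/-- acting by a point and then by its inverse gives back the point -/
theorem actPt_inv (g : A →ₐ[k] k) (x : R →ₐ[k] k) :
    GLin.actPt k (g.comp (HopfAlgebra.antipodeAlgHom k A)) (GLin.actPt k g x) = x := by
  apply AlgHom.ext
  intro f
  have h1 : GLin.orbitHom k A (GLin.actPt k g x) f = LgAlg g (GLin.orbitHom k A x f) := by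
    rw [orbitHom_actPt]; rfl
  show (g.comp (HopfAlgebra.antipodeAlgHom k A)) (GLin.orbitHom k A (GLin.actPt k g x) f) = x f
  rw [h1, inv_LgAlg, counit_orb]

theorem actPt_actPt (h g : A →ₐ[k] k) (x : R →ₐ[k] k) :
    GLin.actPt k h (GLin.actPt k g x) = GLin.actPt k (h.comp (LgAlg g)) x := by
  show h.comp (GLin.orbitHom k A (GLin.actPt k g x)) = (h.comp (LgAlg g)).comp (GLin.orbitHom k A x)
  rw [orbitHom_actPt, AlgHom.comp_assoc]

/-- a rational point in the closure of a closed orbit lies in the orbit -/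
theorem exists_g_of_closed [IsAlgClosed k] [Algebra.FiniteType k A] (x z : R →ₐ[k] k)
    (hcl : GLin.IsClosedOrbit k A x) (hz : GLin.InOrbitClosure k A x z) :
    ∃ g : A →ₐ[k] k, GLin.actPt k g x = z := by
  have hzprime : (RingHom.ker z).IsPrime := RingHom.ker_isPrime z
  obtain ⟨pz, hpz⟩ : ∃ pz : PrimeSpectrum R, pz.asIdeal = RingHom.ker z := ⟨⟨_, hzprime⟩, rfl⟩
  have hmem : pz ∈ Set.range (PrimeSpectrum.comap (GLin.orbitHom k A x).toRingHom) := by
    have hcl' : IsClosed (Set.range (PrimeSpectrum.comap (GLin.orbitHom k A x).toRingHom)) := hcl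
    rw [← hcl'.closure_eq, PrimeSpectrum.closure_range_comap, PrimeSpectrum.mem_zeroLocus, hpz]
    exact hz
  obtain ⟨q, hq⟩ := hmem
  have hI : Ideal.map (GLin.orbitHom k A x).toRingHom (RingHom.ker z) ≠ ⊤ := by
    intro htop
    have hle : Ideal.map (GLin.orbitHom k A x).toRingHom (RingHom.ker z) ≤ q.asIdeal := by
      rw [Ideal.map_le_iff_le_comap, ← hpz, ← hq]
      exact le_rfl
    rw [htop, top_le_iff] at hle
    exact q.isPrime.ne_top hle
  obtain ⟨g, hg⟩ := exists_point k A _ hI
  refine ⟨g, ?_⟩
  apply AlgHom.ext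
  intro f
  show g (GLin.orbitHom k A x f) = z f
  have h1 : f - algebraMap k R (z f) ∈ RingHom.ker z := by
    rw [RingHom.mem_ker, map_sub, AlgHom.commutes]
    exact sub_self (z f)
  have h2 := hg (Ideal.mem_map_of_mem (GLin.orbitHom k A x).toRingHom h1)
  rw [RingHom.mem_ker] at h2
  have h3 : g (GLin.orbitHom k A x f - algebraMap k A (z f)) = 0 := by
    rw [← h2]
    congr 1
    show _ = GLin.orbitHom k A x (f - algebraMap k R (z f))
    rw [map_sub, AlgHom.commutes]
  rw [map_sub, AlgHom.commutes, sub_eq_zero] at h3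
  exact h3

end act

end H9Orb
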