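import Mathlib

theorem helper9_pow_finrank_eq_bot (F A : Type*) [Field F] [CommRing A] [Algebra F A]
    [FiniteDimensional F A] (J : Ideal A) (hJ : J ≤ Ideal.jacobson ⊥) :
    J ^ Module.finrank F A = ⊥ := by
  have hnoeth : IsNoetherianRing A := isNoetherian_of_tower F (inferInstance : IsNoetherian F A)
  have key : ∀ i : ℕ, J ^ i = ⊥ ∨ Module.finrank F ((J ^ i).restrictScalars F) + i ≤ Module.finrank F A := by
    intro i
    induction i with
    | zero =>
      right
      rw [pow_zero, Ideal.one_eq_top, add_zero, Submodule.restrictScalars_top, finrank_top]
    | succ i ih =>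
      rcases ih with h0 | h1
      · left; rw [pow_succ, h0, Ideal.bot_mul]
      · by_cases heq : J ^ (i + 1) = J ^ i
        · left
          have hfg : (J ^ i).FG := IsNoetherian.noetherian _
          have hle : J ^ i ≤ J • J ^ i := by
            rw [smul_eq_mul, ← pow_succ', heq]
          have := Submodule.eq_bot_of_le_smul_of_le_jacobson_bot J (J ^ i) hfg hle hJ
          rw [heq, this]
        · right
          have hlt : (J ^ (i + 1)).restrictScalars F < (J ^ i).restrictScalars F := by
            rw [Submodule.restrictScalars_lt]
            exact lt_of_le_of_ne (Ideal.pow_le_pow_right (Nat.le_succ i)) heq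
          have := Submodule.finrank_lt_finrank_of_lt hlt
          omega
  rcases key (Module.finrank F A) with h | h
  · exact h
  · have h0 : Module.finrank F ((J ^ Module.finrank F A).restrictScalars F) = 0 := by omega
    rw [Submodule.finrank_eq_zero] at h0
    exact (Submodule.restrictScalars_eq_bot_iff _ _ _).mp h0
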