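import Mathlib
import Groth.Prelude.Def_W4c61motalbdualityCompl

set_option autoImplicit false

/-! Helper library (helper9): compact open subgroups of locally compact totally disconnected abelian
groups, residual finiteness of finitely generated abelian groups. Used for S19169/S19171/S19173. -/

namespace H9Pro

open Topology Pointwise

universe u v

/-- van Dantzig for abelian groups: every neighbourhood of `0` contains a compact open subgroup. -/
theorem exists_compact_open_subgroup {B : Type u} [AddCommGroup B] [TopologicalSpace B]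
    [IsTopologicalAddGroup B] [T2Space B] [LocallyCompactSpace B] [TotallyDisconnectedSpace B]
    (W : Set B) (hW : W ∈ 𝓝 (0 : B)) :
    ∃ U : AddSubgroup B, IsOpen (U : Set B) ∧ IsCompact (U : Set B) ∧ (U : Set B) ⊆ W := by
  obtain ⟨W', hW'W, hW'open, h0W'⟩ := mem_nhds_iff.mp hW
  obtain ⟨K, hK, h0K, hKW'⟩ := exists_compact_subset hW'open h0W'
  obtain ⟨C, hCclopen, h0C, hCK⟩ :=
    (loc_compact_Haus_tot_disc_of_zero_dim.mem_nhds_iff).mp (mem_interior_iff_mem_nhds.mp h0K)
  have hCclopen' : IsClopen C := hCclopen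
  have hCcompact : IsCompact C := hK.of_isClosed_subset hCclopen'.isClosed hCK
  obtain ⟨V, hV, hCV⟩ := compact_open_separated_add_right hCcompact hCclopen'.isOpen
    (subset_refl C)
  let St : AddSubgroup B :=
    { carrier := {x | ∀ c ∈ C, c + x ∈ C ∧ c - x ∈ C}
      zero_mem' := fun c hc => by
        rw [add_zero, sub_zero]
        exact ⟨hc, hc⟩
      add_mem' := fun {x y} hx hy c hc => by
        constructor
        · rw [← add_assoc]
          exact (hy _ (hx c hc).1).1
        · rw [← sub_sub]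
          exact (hy _ (hx c hc).2).2
      neg_mem' := fun {x} hx c hc => by
        constructor
        · rw [← sub_eq_add_neg]
          exact (hx c hc).2
        · rw [sub_neg_eq_add]
          exact (hx c hc).1 }
  have hStC : (St : Set B) ⊆ C := by
    intro x hx
    have h1 := (hx 0 h0C).1
    rwa [zero_add] at h1
  have hStnhds : (St : Set B) ∈ 𝓝 (0 : B) := by
    apply Filter.mem_of_superset (Filter.inter_mem hV (neg_mem_nhds_zero B hV))
    intro x hx c hc
    constructor
    · exact hCV (Set.add_mem_add hc hx.1)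
    · rw [sub_eq_add_neg]
      exact hCV (Set.add_mem_add hc (Set.mem_neg.mp hx.2))
  have hStopen : IsOpen (St : Set B) := St.isOpen_of_mem_nhds hStnhds
  have hStclosed : IsClosed (St : Set B) := St.isClosed_of_isOpen hStopen
  exact ⟨St, hStopen, hCcompact.of_isClosed_subset hStclosed hStC,
    hStC.trans (hCK.trans (hKW'.trans hW'W))⟩

/-- A homomorphism with open kernel has finite image on compact sets. -/
theorem finite_image_of_isOpen_ker {B : Type u} [AddCommGroup B] [TopologicalSpace B]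
    [IsTopologicalAddGroup B] {G : Type v} [AddCommGroup G] (φ : B →+ G)
    (hφ : IsOpen (φ.ker : Set B)) (K : Set B) (hK : IsCompact K) : (φ '' K).Finite := by
  have hopen : ∀ b₀ : B, IsOpen (φ ⁻¹' {φ b₀}) := by
    intro b₀
    have h1 : φ ⁻¹' {φ b₀} = (fun b => b - b₀) ⁻¹' (φ.ker : Set B) := by
      ext b
      simp only [Set.mem_preimage, Set.mem_singleton_iff, SetLike.mem_coe, AddMonoidHom.mem_ker,
        map_sub, sub_eq_zero]
    rw [h1]
    exact hφ.preimage (continuous_id.sub continuous_const)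
  obtain ⟨t, ht⟩ := hK.elim_finite_subcover (fun b₀ : B => φ ⁻¹' {φ b₀}) hopen
    (fun b _ => Set.mem_iUnion.mpr ⟨b, rfl⟩)
  apply Set.Finite.subset (t.finite_toSet.image φ)
  rintro _ ⟨b, hb, rfl⟩
  obtain ⟨b₀, hb₀⟩ := Set.mem_iUnion.mp (ht hb)
  obtain ⟨hb₀t, hb₀'⟩ := Set.mem_iUnion.mp hb₀
  exact ⟨b₀, hb₀t, hb₀'.symm⟩

/-- Finitely generated abelian groups are residually finite. -/
theorem exists_finiteIndex_not_mem (G : Type u) [AddCommGroup G] [AddGroup.FG G] (g : G)
    (hg : g ≠ 0) : ∃ H : AddSubgroup G, H.FiniteIndex ∧ g ∉ H := by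
  classical
  obtain ⟨n, ι, instι, p, hp, e, ⟨f⟩⟩ := AddCommGroup.equiv_free_prod_directSum_zmod G
  by_cases hv : (f g).1 = 0
  · have ht : (f g).2 ≠ 0 := by
      intro ht
      apply hg
      apply f.injective
      rw [map_zero]
      exact Prod.ext hv ht
    obtain ⟨i, hi⟩ : ∃ i, (f g).2 i ≠ 0 := by
      by_contra hcon
      push Not at hcon
      exact ht (DFinsupp.ext hcon)
    haveI : NeZero (p i ^ e i) := ⟨pow_ne_zero _ (hp i).ne_zero⟩
    let φ : G →+ ZMod (p i ^ e i) :=
      (DFinsupp.evalAddMonoidHom i).comp ((AddMonoidHom.snd _ _).comp f.toAddMonoidHom)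
    refine ⟨φ.ker, AddSubgroup.finiteIndex_ker φ, ?_⟩
    intro hmem
    exact hi (AddMonoidHom.mem_ker.mp hmem)
  · obtain ⟨j, hj⟩ : ∃ j, (f g).1 j ≠ 0 := by
      by_contra hcon
      push Not at hcon
      exact hv (Finsupp.ext hcon)
    let φ : G →+ ZMod (((f g).1 j).natAbs + 1) :=
      (Int.castAddHom (ZMod (((f g).1 j).natAbs + 1))).comp
        ((Finsupp.applyAddHom j).comp ((AddMonoidHom.fst _ _).comp f.toAddMonoidHom))
    refine ⟨φ.ker, AddSubgroup.finiteIndex_ker φ, ?_⟩
    intro hmem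
    have h1 : (((f g).1 j : ℤ) : ZMod (((f g).1 j).natAbs + 1)) = 0 := AddMonoidHom.mem_ker.mp hmem
    rw [ZMod.intCast_zmod_eq_zero_iff_dvd] at h1
    have h2 := Int.natAbs_dvd_natAbs.mpr h1
    have h3 : ((((f g).1 j).natAbs + 1 : ℕ) : ℤ).natAbs = ((f g).1 j).natAbs + 1 :=
      Int.natAbs_natCast _
    rw [h3] at h2
    have h4 := Nat.le_of_dvd (Int.natAbs_pos.mpr hj) h2
    omega

/-- The quotient of a compactly generated group by an open subgroup is finitely generated. -/
theorem fg_quotient_of_isOpen {B : Type u} [AddCommGroup B] [TopologicalSpace B]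
    [IsTopologicalAddGroup B] (K : Set B) (hK : IsCompact K) (hgen : AddSubgroup.closure K = ⊤)
    (U : AddSubgroup B) (hU : IsOpen (U : Set B)) : AddGroup.FG (B ⧸ U) := by
  rw [AddGroup.fg_iff]
  refine ⟨(QuotientAddGroup.mk' U) '' K, ?_, ?_⟩
  · rw [← AddMonoidHom.map_closure, hgen, ← AddMonoidHom.range_eq_map,
      AddMonoidHom.range_eq_top]
    exact QuotientAddGroup.mk'_surjective U
  · apply finite_image_of_isOpen_ker (QuotientAddGroup.mk' U) _ K hK
    rw [QuotientAddGroup.ker_mk']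
    exact hU

theorem main69 {B : Type u} [AddCommGroup B] [TopologicalSpace B] [IsTopologicalAddGroup B]
    [T2Space B] [LocallyCompactSpace B] [TotallyDisconnectedSpace B]
    (hcg : ∃ K : Set B, IsCompact K ∧ AddSubgroup.closure K = ⊤) (b : B) (hb : b ≠ 0) :
    ∃ B' : AddSubgroup B, IsOpen (B' : Set B) ∧ B'.FiniteIndex ∧ b ∉ B' := by
  obtain ⟨K, hK, hgen⟩ := hcg
  obtain ⟨U, hUopen, -, hUb⟩ := exists_compact_open_subgroup ({b}ᶜ : Set B)
    (isOpen_compl_singleton.mem_nhds (fun h => hb (Set.mem_singleton_iff.mp h).symm))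
  have hbU : b ∉ U := fun h => hUb h rfl
  haveI : AddGroup.FG (B ⧸ U) := fg_quotient_of_isOpen K hK hgen U hUopen
  have hb' : (QuotientAddGroup.mk' U b) ≠ 0 := by
    intro h
    exact hbU ((QuotientAddGroup.eq_zero_iff b).mp h)
  obtain ⟨H, hH, hbH⟩ := exists_finiteIndex_not_mem (B ⧸ U) _ hb'
  refine ⟨H.comap (QuotientAddGroup.mk' U), ?_, ?_, ?_⟩
  · apply AddSubgroup.isOpen_mono (H₁ := U) _ hUopen
    intro u hu
    rw [AddSubgroup.mem_comap]
    have h0 : QuotientAddGroup.mk' U u = 0 := (QuotientAddGroup.eq_zero_iff u).mpr hu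
    rw [h0]
    exact H.zero_mem
  · refine ⟨?_⟩
    rw [AddSubgroup.index_comap_of_surjective H (QuotientAddGroup.mk'_surjective U)]
    exact hH.index_ne_zero
  · exact hbH

theorem main71 {A : Type u} {B : Type v} [AddCommGroup A] [TopologicalSpace A]
    [AddCommGroup B] [TopologicalSpace B] [IsTopologicalAddGroup B]
    [T2Space B] [LocallyCompactSpace B] [TotallyDisconnectedSpace B]
    (i : A →+ B) (hind : IsInducing i)
    (χ : A →+ ℚ ⧸ AddSubgroup.zmultiples (1 : ℚ)) (hχ : IsOpen (χ.ker : Set A)) :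
    ∃ ψ : B →+ ℚ ⧸ AddSubgroup.zmultiples (1 : ℚ), IsOpen (ψ.ker : Set B) ∧ ψ.comp i = χ := by
  obtain ⟨W, hWopen, hWker⟩ := hind.isOpen_iff.mp hχ
  have h0W : (0 : B) ∈ W := by
    have h1 : (0 : A) ∈ i ⁻¹' W := by
      rw [hWker]
      exact χ.ker.zero_mem
    have h2 : i 0 ∈ W := h1
    rwa [map_zero] at h2
  obtain ⟨U, hUopen, -, hUW⟩ := exists_compact_open_subgroup W (hWopen.mem_nhds h0W)
  obtain ⟨π, hπ⟩ : ∃ π : A →+ B ⧸ U, π = (QuotientAddGroup.mk' U).comp i := ⟨_, rfl⟩
  have hπa : ∀ a, π a = QuotientAddGroup.mk' U (i a) := fun a => by rw [hπ]; rfl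
  have hker : π.ker ≤ χ.ker := by
    intro a ha
    have h0 : QuotientAddGroup.mk' U (i a) = 0 := by
      rw [← hπa]
      exact AddMonoidHom.mem_ker.mp ha
    have h1 : i a ∈ U := (QuotientAddGroup.eq_zero_iff (i a)).mp h0
    have h2 : a ∈ i ⁻¹' W := hUW h1
    rw [hWker] at h2
    exact h2
  obtain ⟨h, hh⟩ := (Module.Baer.of_divisible
    (ℚ ⧸ AddSubgroup.zmultiples (1 : ℚ))).extension_property_addMonoidHom
    (QuotientAddGroup.kerLift π) (QuotientAddGroup.kerLift_injective π)
    (QuotientAddGroup.lift π.ker χ hker)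
  refine ⟨h.comp (QuotientAddGroup.mk' U), ?_, ?_⟩
  · apply AddSubgroup.isOpen_mono (H₁ := U) _ hUopen
    intro u hu
    rw [AddMonoidHom.mem_ker, AddMonoidHom.comp_apply]
    have h0 : QuotientAddGroup.mk' U u = 0 := (QuotientAddGroup.eq_zero_iff u).mpr hu
    rw [h0, map_zero]
  · ext a
    have h1 := DFunLike.congr_fun hh (QuotientAddGroup.mk a : A ⧸ π.ker)
    rw [AddMonoidHom.comp_apply, QuotientAddGroup.kerLift_mk, hπa] at h1
    rw [AddMonoidHom.comp_apply, AddMonoidHom.comp_apply, h1]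
    rfl

theorem isOfFinAddOrder_ratModInt (x : ℚ ⧸ AddSubgroup.zmultiples (1 : ℚ)) :
    IsOfFinAddOrder x := by
  obtain ⟨r, rfl⟩ := QuotientAddGroup.mk_surjective x
  rw [isOfFinAddOrder_iff_nsmul_eq_zero]
  refine ⟨r.den, r.den_pos, ?_⟩
  have h1 : (r.den • (QuotientAddGroup.mk r : ℚ ⧸ AddSubgroup.zmultiples (1 : ℚ)))
      = QuotientAddGroup.mk (r.den • r) := rfl
  rw [h1, QuotientAddGroup.eq_zero_iff, AddSubgroup.mem_zmultiples_iff]
  refine ⟨r.num, ?_⟩
  rw [zsmul_one, nsmul_eq_mul, mul_comm, Rat.mul_den_eq_num]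

open W4c61motalbduality in
theorem main73 {A : Type u} {B : Type v} [AddCommGroup A] [TopologicalSpace A]
    [IsTopologicalAddGroup A]
    [AddCommGroup B] [TopologicalSpace B] [IsTopologicalAddGroup B]
    [T2Space B] [LocallyCompactSpace B] [TotallyDisconnectedSpace B]
    (hcg : ∃ K : Set B, IsCompact K ∧ AddSubgroup.closure K = ⊤)
    (i : A →+ B) (hi : Continuous i) (hind : IsInducing i) :
    Function.Injective (FICompl.map i hi) := by
  classical
  obtain ⟨K, hK, hgen⟩ := hcg
  have claim : ∀ U : OpenFI A, ∃ V : OpenFI B,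
      (V.comap i hi).toAddSubgroup ≤ U.toAddSubgroup := by
    intro U
    haveI := U.finiteIndex'
    haveI : Finite (A ⧸ U.toAddSubgroup) := AddSubgroup.finite_quotient_of_finiteIndex
    have hc : ∀ q : A ⧸ U.toAddSubgroup,
        ∃ c : (A ⧸ U.toAddSubgroup) →+ ℚ ⧸ AddSubgroup.zmultiples (1 : ℚ), q ≠ 0 → c q ≠ 0 := by
      intro q
      by_cases hq : q = 0
      · exact ⟨0, fun h => absurd hq h⟩
      · obtain ⟨c, hc⟩ := CharacterModule.exists_character_apply_ne_zero_of_ne_zero hq
        exact ⟨c, fun _ => hc⟩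
    choose c hc using hc
    have hψ : ∀ q : A ⧸ U.toAddSubgroup,
        ∃ ψ : B →+ ℚ ⧸ AddSubgroup.zmultiples (1 : ℚ), IsOpen (ψ.ker : Set B) ∧
          ψ.comp i = (c q).comp (QuotientAddGroup.mk' U.toAddSubgroup) := by
      intro q
      apply main71 i hind
      apply AddSubgroup.isOpen_mono (H₁ := U.toAddSubgroup) _ U.isOpen'
      intro a ha
      rw [AddMonoidHom.mem_ker, AddMonoidHom.comp_apply]
      have h0 : QuotientAddGroup.mk' U.toAddSubgroup a = 0 :=
        (QuotientAddGroup.eq_zero_iff a).mpr ha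
      rw [h0, map_zero]
    choose ψ hψopen hψi using hψ
    have hfin : ∀ q, ((ψ q).ker).FiniteIndex := by
      intro q
      haveI : AddGroup.FG ↥(ψ q).range := by
        rw [AddGroup.fg_iff_addSubgroup_fg, AddSubgroup.fg_iff]
        refine ⟨(ψ q) '' K, ?_, finite_image_of_isOpen_ker (ψ q) (hψopen q) K hK⟩
        rw [← AddMonoidHom.map_closure, hgen, ← AddMonoidHom.range_eq_map]
      haveI : Finite ↥(ψ q).range := by
        apply AddCommGroup.finite_of_fg_isAddTorsion
        intro x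
        have h1 := isOfFinAddOrder_ratModInt x.1
        rw [isOfFinAddOrder_iff_nsmul_eq_zero] at h1 ⊢
        obtain ⟨n, hn, hx⟩ := h1
        exact ⟨n, hn, Subtype.ext hx⟩
      exact AddSubgroup.finiteIndex_ker (ψ q)
    refine ⟨⟨⨅ q, (ψ q).ker, ?_, AddSubgroup.finiteIndex_iInf hfin⟩, ?_⟩
    · rw [AddSubgroup.coe_iInf]
      exact isOpen_iInter_of_finite hψopen
    · intro a ha
      have ha' : i a ∈ ⨅ q, (ψ q).ker := ha
      rw [AddSubgroup.mem_iInf] at ha'
      by_contra haU
      have hq : (QuotientAddGroup.mk' U.toAddSubgroup a) ≠ 0 := fun h =>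
        haU ((QuotientAddGroup.eq_zero_iff a).mp h)
      apply hc _ hq
      have h1 := DFunLike.congr_fun (hψi (QuotientAddGroup.mk' U.toAddSubgroup a)) a
      rw [AddMonoidHom.comp_apply, AddMonoidHom.comp_apply] at h1
      rw [← h1]
      exact AddMonoidHom.mem_ker.mp (ha' _)
  rw [injective_iff_map_eq_zero]
  intro x hx
  apply Subtype.ext
  funext U
  show x.1 U = 0
  obtain ⟨V, hVU⟩ := claim U
  have h2 : QuotientAddGroup.map (V.comap i hi).toAddSubgroup V.toAddSubgroup i
      (V.comap_le i) (x.1 (V.comap i hi)) = 0 := by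
    have h1 : (FICompl.map i hi x).1 V = 0 := by
      rw [hx]
      rfl
    exact h1
  obtain ⟨a, ha⟩ := QuotientAddGroup.mk_surjective (x.1 (V.comap i hi))
  rw [← ha, QuotientAddGroup.map_mk] at h2
  have h3 : i a ∈ V.toAddSubgroup := (QuotientAddGroup.eq_zero_iff _).mp h2
  have h4 : a ∈ (V.comap i hi).toAddSubgroup := h3
  have h5 := x.2 (V.comap i hi) U hVU
  rw [← ha, QuotientAddGroup.map_mk] at h5
  rw [← h5]
  exact (QuotientAddGroup.eq_zero_iff _).mpr (hVU h4)

end H9Pro
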