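import Mathlib
import Groth.Prelude.Def_W4c5quivmodgenus0Quiv

set_option autoImplicit false

namespace H9PQ
universe u v

theorem finrank_sub_K (K : Type u) [Field K] (U : Submodule K K) :
    ((1 : K) ∈ U ∧ U = ⊤ ∧ Module.finrank K U = 1) ∨
      ((1 : K) ∉ U ∧ U = ⊥ ∧ Module.finrank K U = 0) := by
  by_cases h : (1 : K) ∈ U
  · left
    have h1 : U = ⊤ := (Ideal.eq_top_iff_one U).mpr h
    refine ⟨h, h1, ?_⟩
    rw [h1, finrank_top, Module.finrank_self]
  · right
    have h1 : U = ⊥ := by
      rcases Ideal.eq_bot_or_top U with h' | h'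
      · exact h'
      · exact absurd ((Ideal.eq_top_iff_one U).mp h') h
    refine ⟨h, h1, ?_⟩
    rw [h1, finrank_bot]

theorem sum_split {κ : Type v} [DecidableEq κ] (a b : κ) (hab : a ≠ b) (θ : κ → ℚ)
    (I : Finset κ) :
    ∑ i ∈ I, θ i = ∑ i ∈ I.subtype (fun i => i ≠ a ∧ i ≠ b), θ i.1
      + (if a ∈ I then θ a else 0) + (if b ∈ I then θ b else 0) := by
  rw [Finset.sum_subtype_eq_sum_filter, Finset.sum_filter, ← Finset.sum_ite_eq' I a θ,
    ← Finset.sum_ite_eq' I b θ, ← Finset.sum_add_distrib, ← Finset.sum_add_distrib]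
  refine Finset.sum_congr rfl (fun i _ => ?_)
  by_cases h1 : i = a
  · have h2 : i ≠ b := fun h => hab (h1.symm.trans h)
    simp [h1, h2, hab]
  · by_cases h2 : i = b
    · simp [h1, h2, hab.symm]
    · simp [h1, h2]

theorem two_le_finrank_of {K : Type u} [Field K] (L : Submodule K (Fin 2 → K))
    (x v : Fin 2 → K) (hx : x ∈ L) (hv : v ∈ L)
    (f g : (Fin 2 → K) →ₗ[K] K) (hfx : f x = 1) (hgx : g x = 0) (hgv : g v = 1) :
    2 ≤ Module.finrank K L := by
  have hli : LinearIndependent K ![(⟨x, hx⟩ : L), ⟨v, hv⟩] := by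
    rw [LinearIndependent.pair_iff]
    intro s t hst
    have h1 : s • x + t • v = 0 := by
      have h2 := congrArg (fun w : L => (w : Fin 2 → K)) hst
      simpa using h2
    have ht : t = 0 := by
      have h3 := congrArg g h1
      rw [map_add, map_smul, map_smul, hgx, hgv, map_zero, smul_eq_mul, smul_eq_mul, mul_zero,
        zero_add, mul_one] at h3
      exact h3
    have hs : s = 0 := by
      have h3 := congrArg f h1
      rw [ht, zero_smul, add_zero, map_smul, hfx, map_zero, smul_eq_mul, mul_one] at h3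
      exact h3
    exact ⟨hs, ht⟩
  have h4 := hli.fintype_card_le_finrank
  simpa using h4

theorem pwt_eq {K : Type u} [Field K] {κ' : Type v} (c x y : ℚ) (θ' : κ' → ℚ)
    (U : Fin 2 → Submodule K K) (I' : Finset κ') :
    PtQuiv.PWt K ![c * x, c * y] (fun i => c * θ' i) U I'
      = c * (x * (Module.finrank K (U 0) : ℚ) + y * (Module.finrank K (U 1) : ℚ)
          + ∑ i ∈ I', θ' i) := by
  unfold PtQuiv.PWt
  rw [Fin.sum_univ_two, ← Finset.mul_sum]
  simp only [Matrix.cons_val_zero, Matrix.cons_val_one, Matrix.head_cons]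
  ring

end H9PQ
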