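import Mathlib
import Groth.Prelude.Def_W4c5quivmodgenus0Quiv
import Groth.Agent.Lib.helper9.PtQuivLib

set_option autoImplicit false

namespace H9PQ
universe u v

theorem fwd_data {K : Type u} [Field K] {κ : Type v} [DecidableEq κ] (a b : κ) (hab : a ≠ b)
    (s : κ → (Fin 2 → K)) (t : {i : κ // i ≠ a ∧ i ≠ b} → (Fin 2 → K))
    (ht : ∀ i, s i.1 = t i 0 • s a + t i 1 • s b)
    (U : Fin 2 → Submodule K K) (I' : Finset {i : κ // i ≠ a ∧ i ≠ b})
    (hUI : PtQuiv.PSubrep t U I') :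
    ∃ (L : Submodule K (Fin 2 → K)) (I : Finset κ), PtQuiv.QSubrep s L I ∧
      Module.finrank K L ≤ Module.finrank K (U 0) + Module.finrank K (U 1) ∧
      I.subtype (fun i => i ≠ a ∧ i ≠ b) = I' ∧ (a ∈ I ↔ (1 : K) ∈ U 0) ∧
      (b ∈ I ↔ (1 : K) ∈ U 1) := by
  classical
  obtain ⟨L, hLdef⟩ : ∃ L : Submodule K (Fin 2 → K),
      L = (U 0).map (LinearMap.toSpanSingleton K (Fin 2 → K) (s a))
        ⊔ (U 1).map (LinearMap.toSpanSingleton K (Fin 2 → K) (s b)) := ⟨_, rfl⟩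
  obtain ⟨I, hIdef⟩ : ∃ I : Finset κ,
      I = (I'.map ⟨Subtype.val, Subtype.val_injective⟩
        ∪ (if (1 : K) ∈ U 0 then {a} else ∅)) ∪ (if (1 : K) ∈ U 1 then {b} else ∅) :=
    ⟨_, rfl⟩
  have hmemI : ∀ i, i ∈ I ↔ ((∃ j ∈ I', (j : κ) = i) ∨ ((1 : K) ∈ U 0 ∧ i = a)
      ∨ ((1 : K) ∈ U 1 ∧ i = b)) := by
    intro i
    rw [hIdef, Finset.mem_union, Finset.mem_union, Finset.mem_map]
    constructor
    · rintro ((⟨j, hj, hji⟩ | h) | h)
      · exact Or.inl ⟨j, hj, hji⟩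
      · split_ifs at h with he
        · exact Or.inr (Or.inl ⟨he, Finset.mem_singleton.mp h⟩)
        · exact absurd h (Finset.notMem_empty _)
      · split_ifs at h with he
        · exact Or.inr (Or.inr ⟨he, Finset.mem_singleton.mp h⟩)
        · exact absurd h (Finset.notMem_empty _)
    · rintro (⟨j, hj, hji⟩ | ⟨he, hi⟩ | ⟨he, hi⟩)
      · exact Or.inl (Or.inl ⟨j, hj, hji⟩)
      · exact Or.inl (Or.inr (by rw [if_pos he]; exact Finset.mem_singleton.mpr hi))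
      · exact Or.inr (by rw [if_pos he]; exact Finset.mem_singleton.mpr hi)
  refine ⟨L, I, ?_, ?_, ?_, ?_, ?_⟩
  · intro i hi
    rw [hLdef]
    rcases (hmemI i).mp hi with ⟨j, hj, rfl⟩ | ⟨he, rfl⟩ | ⟨he, rfl⟩
    · rw [ht j]
      exact Submodule.add_mem _ (Submodule.mem_sup_left ⟨t j 0, hUI j hj 0, rfl⟩)
        (Submodule.mem_sup_right ⟨t j 1, hUI j hj 1, rfl⟩)
    · exact Submodule.mem_sup_left ⟨1, he, by simp⟩
    · exact Submodule.mem_sup_right ⟨1, he, by simp⟩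
  · rw [hLdef]
    refine (Submodule.finrank_add_le_finrank_add_finrank _ _).trans ?_
    exact Nat.add_le_add (Submodule.finrank_map_le _ _) (Submodule.finrank_map_le _ _)
  · ext j
    rw [Finset.mem_subtype, hmemI]
    constructor
    · rintro (⟨j', hj', hjj'⟩ | ⟨_, hja⟩ | ⟨_, hjb⟩)
      · have h3 : j' = j := Subtype.ext hjj'
        rw [← h3]; exact hj'
      · exact absurd hja j.2.1
      · exact absurd hjb j.2.2
    · intro hj; exact Or.inl ⟨j, hj, rfl⟩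
  · rw [hmemI]
    constructor
    · rintro (⟨j, _, hja⟩ | ⟨he, _⟩ | ⟨_, hab'⟩)
      · exact absurd hja j.2.1
      · exact he
      · exact absurd hab' hab
    · intro he; exact Or.inr (Or.inl ⟨he, rfl⟩)
  · rw [hmemI]
    constructor
    · rintro (⟨j, _, hjb⟩ | ⟨_, hba⟩ | ⟨he, _⟩)
      · exact absurd hjb j.2.2
      · exact absurd hba hab.symm
      · exact he
    · intro he; exact Or.inr (Or.inr ⟨he, rfl⟩)

theorem bwd_data {K : Type u} [Field K] {κ : Type v} [DecidableEq κ] (a b : κ)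
    (s : κ → (Fin 2 → K)) (B : Module.Basis (Fin 2) K (Fin 2 → K))
    (hB0 : B 0 = s a) (hB1 : B 1 = s b)
    (t : {i : κ // i ≠ a ∧ i ≠ b} → (Fin 2 → K)) (htdef : ∀ i j, t i j = B.repr (s i.1) j)
    (L : Submodule K (Fin 2 → K)) (I : Finset κ) (hLI' : PtQuiv.QSubrep s L I) :
    ∃ U : Fin 2 → Submodule K K,
      PtQuiv.PSubrep t U (I.subtype (fun i => i ≠ a ∧ i ≠ b)) ∧
      (a ∈ I → (1 : K) ∈ U 0) ∧ (b ∈ I → (1 : K) ∈ U 1) ∧
      (∀ j : Fin 2, (1 : K) ∈ U j → 1 ≤ Module.finrank K L) ∧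
      ((1 : K) ∈ U 1 → a ∈ I → 2 ≤ Module.finrank K L) ∧
      ((1 : K) ∈ U 0 → b ∈ I → 2 ≤ Module.finrank K L) := by
  classical
  obtain ⟨U, hUdef⟩ : ∃ U : Fin 2 → Submodule K K, ∀ j, U j = L.map (B.coord j) :=
    ⟨fun j => L.map (B.coord j), fun j => rfl⟩
  have hc00 : B.coord 0 (s a) = 1 := by
    rw [← hB0, Module.Basis.coord_apply, Module.Basis.repr_self, Finsupp.single_eq_same]
  have hc10 : B.coord 1 (s a) = 0 := by
    rw [← hB0, Module.Basis.coord_apply, Module.Basis.repr_self,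
      Finsupp.single_eq_of_ne (by decide)]
  have hc01 : B.coord 0 (s b) = 0 := by
    rw [← hB1, Module.Basis.coord_apply, Module.Basis.repr_self,
      Finsupp.single_eq_of_ne (by decide)]
  have hc11 : B.coord 1 (s b) = 1 := by
    rw [← hB1, Module.Basis.coord_apply, Module.Basis.repr_self, Finsupp.single_eq_same]
  refine ⟨U, ?_, ?_, ?_, ?_, ?_, ?_⟩
  · intro i hi j
    rw [hUdef, htdef]
    exact ⟨s i.1, hLI' i.1 (Finset.mem_subtype.mp hi), by rw [Module.Basis.coord_apply]⟩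
  · intro ha
    rw [hUdef]; exact ⟨s a, hLI' a ha, hc00⟩
  · intro hb
    rw [hUdef]; exact ⟨s b, hLI' b hb, hc11⟩
  · intro j hj
    rw [hUdef] at hj
    obtain ⟨v, hv, hv1⟩ := hj
    have hne : Module.finrank K L ≠ 0 := by
      intro h0'
      have hbot : L = ⊥ := Submodule.finrank_eq_zero.mp h0'
      rw [hbot] at hv
      have hv0 : v = 0 := (Submodule.mem_bot K).mp hv
      rw [hv0, map_zero] at hv1
      exact zero_ne_one hv1
    exact Nat.one_le_iff_ne_zero.mpr hne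
  · intro he1 ha
    rw [hUdef] at he1
    obtain ⟨v, hv, hv1⟩ := he1
    exact H9PQ.two_le_finrank_of L (s a) v (hLI' a ha) hv (B.coord 0) (B.coord 1)
      hc00 hc10 hv1
  · intro he0 hb
    rw [hUdef] at he0
    obtain ⟨v, hv, hv1⟩ := he0
    exact H9PQ.two_le_finrank_of L (s b) v (hLI' b hb) hv (B.coord 1) (B.coord 0)
      hc11 hc01 hv1

end H9PQ
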