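import Mathlib

/-! helper9: Fitting decomposition for semilinear endomorphisms (`σ` surjective). -/

set_option autoImplicit false
set_option linter.unusedSectionVars false
set_option linter.unusedVariables false

namespace H9Sig

universe u v
variable {k : Type u} [Field k] {σ : k →+* k} {V : Type v} [AddCommGroup V] [Module k V]

theorem iter_smul (T : V →ₛₗ[σ] V) (n : ℕ) (c : k) (v : V) :
    (⇑T)^[n] (c • v) = (⇑σ)^[n] c • (⇑T)^[n] v := by
  induction n with
  | zero => rfl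
  | succ n ih =>
    rw [Function.iterate_succ_apply', Function.iterate_succ_apply',
      Function.iterate_succ_apply', ih, map_smulₛₗ]

/-- kernel of the `n`-th iterate. -/
def Kn (T : V →ₛₗ[σ] V) (n : ℕ) : Submodule k V where
  carrier := {v | (⇑T)^[n] v = 0}
  add_mem' := by
    intro a b ha hb
    have ha' : (⇑T)^[n] a = 0 := ha
    have hb' : (⇑T)^[n] b = 0 := hb
    show (⇑T)^[n] (a + b) = 0
    rw [iterate_map_add, ha', hb', add_zero]
  zero_mem' := iterate_map_zero T n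
  smul_mem' := by
    intro c v hv
    have hv' : (⇑T)^[n] v = 0 := hv
    show (⇑T)^[n] (c • v) = 0
    rw [iter_smul, hv', smul_zero]

theorem mem_Kn (T : V →ₛₗ[σ] V) (n : ℕ) (v : V) : v ∈ Kn T n ↔ (⇑T)^[n] v = 0 := Iff.rfl

theorem Kn_mono (T : V →ₛₗ[σ] V) : Monotone (Kn T) := by
  apply monotone_nat_of_le_succ
  intro n v hv
  rw [mem_Kn] at hv ⊢
  rw [Function.iterate_succ_apply', hv, map_zero]

/-- span of the image of the `n`-th iterate. -/
def In (T : V →ₛₗ[σ] V) (n : ℕ) : Submodule k V := Submodule.span k (Set.range ((⇑T)^[n]))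

theorem In_anti (T : V →ₛₗ[σ] V) : Antitone (In T) := by
  apply antitone_nat_of_succ_le
  intro m
  apply Submodule.span_le.mpr
  rintro _ ⟨x, rfl⟩
  apply Submodule.subset_span
  exact ⟨T x, by rw [Function.iterate_succ_apply]⟩

theorem mem_In (hσ : Function.Surjective σ) (T : V →ₛₗ[σ] V) (n : ℕ) (v : V) :
    v ∈ In T n ↔ ∃ u, (⇑T)^[n] u = v := by
  constructor
  · intro hv
    unfold In at hv
    refine Submodule.span_induction ?_ ?_ ?_ ?_ hv
    · rintro _ ⟨u, rfl⟩
      exact ⟨u, rfl⟩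
    · exact ⟨0, iterate_map_zero T n⟩
    · rintro a b _ _ ⟨u, rfl⟩ ⟨w, rfl⟩
      exact ⟨u + w, iterate_map_add T n u w⟩
    · rintro c a _ ⟨u, rfl⟩
      obtain ⟨c', hc'⟩ := (Function.Surjective.iterate hσ n) c
      exact ⟨c' • u, by rw [iter_smul, hc']⟩
  · rintro ⟨u, rfl⟩
    exact Submodule.subset_span ⟨u, rfl⟩

theorem fitting (hσ : Function.Surjective σ) [FiniteDimensional k V] (T : V →ₛₗ[σ] V) :
    ∃ m : ℕ, (∀ m', m ≤ m' → Kn T m' = Kn T m) ∧ (∀ m', m ≤ m' → In T m' = In T m) ∧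
      IsCompl (Kn T m) (In T m) := by
  obtain ⟨N, hN⟩ := monotone_stabilizes_iff_noetherian.mpr
    (inferInstance : IsNoetherian k V) ⟨Kn T, Kn_mono T⟩
  obtain ⟨M, hM⟩ : ∃ n, ∀ m, n ≤ m → In T n = In T m := by
    have := IsArtinian.monotone_stabilizes (R := k) (M := V)
      ⟨fun m => OrderDual.toDual (In T m), fun a b hab => In_anti T hab⟩
    obtain ⟨n, hn⟩ := this
    exact ⟨n, fun m hm => hn m hm⟩
  have hK : ∀ m', max N M ≤ m' → Kn T m' = Kn T (max N M) := by
    intro m' hm'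
    have h1 : Kn T N = Kn T m' := hN m' (le_trans (le_max_left _ _) hm')
    have h2 : Kn T N = Kn T (max N M) := hN _ (le_max_left _ _)
    rw [← h1, ← h2]
  have hI : ∀ m', max N M ≤ m' → In T m' = In T (max N M) := by
    intro m' hm'
    have h1 : In T M = In T m' := hM m' (le_trans (le_max_right _ _) hm')
    have h2 : In T M = In T (max N M) := hM _ (le_max_right _ _)
    rw [← h1, ← h2]
  refine ⟨max N M, hK, hI, ?_⟩
  obtain ⟨m, hm⟩ : ∃ m, m = max N M := ⟨_, rfl⟩
  rw [← hm] at hK hI ⊢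
  constructor
  · rw [Submodule.disjoint_def]
    intro v hvK hvI
    obtain ⟨u, rfl⟩ := (mem_In hσ T m _).mp hvI
    rw [mem_Kn, ← Function.iterate_add_apply] at hvK
    have hu : u ∈ Kn T m := by
      rw [← hK (m + m) (by omega), mem_Kn]
      exact hvK
    exact hu
  · rw [codisjoint_iff, eq_top_iff]
    intro v _
    have h1 : (⇑T)^[m] v ∈ In T (m + m) := by
      rw [hI (m + m) (by omega)]
      exact (mem_In hσ T m _).mpr ⟨v, rfl⟩
    obtain ⟨u, hu⟩ := (mem_In hσ T (m + m) _).mp h1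
    rw [Function.iterate_add_apply] at hu
    have h2 : v - (⇑T)^[m] u ∈ Kn T m := by
      rw [mem_Kn, iterate_map_sub, hu, sub_self]
    have h3 : (⇑T)^[m] u ∈ In T m := (mem_In hσ T m _).mpr ⟨u, rfl⟩
    have h4 : v = (v - (⇑T)^[m] u) + (⇑T)^[m] u := by abel
    rw [h4]
    exact Submodule.add_mem _ (Submodule.mem_sup_left h2) (Submodule.mem_sup_right h3)

theorem iInf_In (T : V →ₛₗ[σ] V) (m : ℕ) (hI : ∀ m', m ≤ m' → In T m' = In T m) :
    (⨅ n : ℕ, Submodule.span k (Set.range ((⇑T)^[n]))) = In T m := by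
  apply le_antisymm
  · exact iInf_le _ m
  · apply le_iInf
    intro n
    have h1 : In T (max n m) = In T m := hI _ (le_max_right _ _)
    rw [← h1]
    exact In_anti T (le_max_left _ _)

theorem bijOn_In (hσ : Function.Surjective σ) (T : V →ₛₗ[σ] V) (m : ℕ)
    (hK : ∀ m', m ≤ m' → Kn T m' = Kn T m)
    (hI : ∀ m', m ≤ m' → In T m' = In T m) (hd : Disjoint (Kn T m) (In T m)) :
    Set.BijOn (⇑T) (In T m : Set V) (In T m : Set V) := by
  refine ⟨?_, ?_, ?_⟩
  · intro v hv
    obtain ⟨u, rfl⟩ := (mem_In hσ T m v).mp hv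
    rw [SetLike.mem_coe, ← hI (m + 1) (by omega)]
    exact (mem_In hσ T (m + 1) _).mpr ⟨u, by rw [Function.iterate_succ_apply']⟩
  · intro v hv v' hv' hvv'
    have h1 : v - v' ∈ In T m := Submodule.sub_mem _ hv hv'
    have h2 : v - v' ∈ Kn T m := by
      have h3 : v - v' ∈ Kn T 1 := by
        rw [mem_Kn, Function.iterate_one, map_sub, hvv', sub_self]
      have h4 : Kn T 1 ≤ Kn T (max 1 m) := Kn_mono T (le_max_left _ _)
      rw [← hK (max 1 m) (le_max_right _ _)]
      exact h4 h3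
    have h5 := (Submodule.disjoint_def.mp hd) _ h2 h1
    exact sub_eq_zero.mp h5
  · intro w hw
    rw [SetLike.mem_coe, ← hI (m + 1) (by omega)] at hw
    obtain ⟨u, rfl⟩ := (mem_In hσ T (m + 1) w).mp hw
    refine ⟨(⇑T)^[m] u, (mem_In hσ T m _).mpr ⟨u, rfl⟩, ?_⟩
    rw [Function.iterate_succ_apply']

end H9Sig
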