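import Mathlib
import Groth.Prelude.Def_WittGrp
import Groth.Agent.S19235
import Groth.Agent.S19239

/-! helper9: `1 - T` is surjective for semilinear maps over local rings with nilpotent `p`,
specialised to truncated Witt vectors. -/

set_option autoImplicit false
set_option linter.unusedSectionVars false
set_option linter.unusedVariables false

namespace H9SigL

universe u v w

section generic

theorem isUnit_of_rho_ne_zero {R : Type u} [CommRing R] {κ : Type w} [Field κ]
    (π : R) (n : ℕ) (hn : π ^ n = 0) (ρ : R →+* κ)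
    (hρ : Function.Surjective ρ) (hker : ∀ r, ρ r = 0 ↔ r ∈ Ideal.span {π}) (a : R)
    (ha : ρ a ≠ 0) : IsUnit a := by
  obtain ⟨b, hb⟩ := hρ (ρ a)⁻¹
  have h1 : ρ (a * b - 1) = 0 := by
    rw [map_sub, map_mul, hb, map_one, mul_inv_cancel₀ ha, sub_self]
  obtain ⟨s, hs⟩ := Ideal.mem_span_singleton'.mp ((hker _).mp h1)
  have hnil : IsNilpotent (a * b - 1) := ⟨n, by rw [← hs, mul_pow, hn, mul_zero]⟩
  have h2 : IsUnit (a * b) := by
    have := hnil.isUnit_add_one
    rwa [sub_add_cancel] at this
  exact isUnit_of_mul_isUnit_left h2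

theorem isLocalRing_of {R : Type u} [CommRing R] {κ : Type w} [Field κ]
    (π : R) (n : ℕ) (hn : π ^ n = 0) (ρ : R →+* κ) (hρ : Function.Surjective ρ)
    (hker : ∀ r, ρ r = 0 ↔ r ∈ Ideal.span {π}) : IsLocalRing R := by
  haveI : Nontrivial R := by
    refine ⟨⟨0, 1, fun h => ?_⟩⟩
    have := congrArg ρ h
    rw [map_zero, map_one] at this
    exact zero_ne_one this
  apply IsLocalRing.of_isUnit_or_isUnit_one_sub_self
  intro a
  by_cases ha : ρ a = 0
  · right
    apply isUnit_of_rho_ne_zero π n hn ρ hρ hker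
    rw [map_sub, map_one, ha, sub_zero]
    exact one_ne_zero
  · left
    exact isUnit_of_rho_ne_zero π n hn ρ hρ hker a ha

theorem maximalIdeal_eq {R : Type u} [CommRing R] {κ : Type w} [Field κ] [IsLocalRing R]
    (π : R) (n : ℕ) (hn : π ^ n = 0) (ρ : R →+* κ)
    (hρ : Function.Surjective ρ) (hker : ∀ r, ρ r = 0 ↔ r ∈ Ideal.span {π}) :
    IsLocalRing.maximalIdeal R = Ideal.span {π} := by
  ext x
  rw [IsLocalRing.mem_maximalIdeal, mem_nonunits_iff, ← hker]
  constructor
  · intro hx
    by_contra hne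
    exact hx (isUnit_of_rho_ne_zero π n hn ρ hρ hker x hne)
  · intro hx hu
    have := hu.map ρ
    rw [hx] at this
    exact not_isUnit_zero this

theorem sub_surjective_generic (p : ℕ) [Fact p.Prime] (R : Type u) [CommRing R] (n : ℕ)
    (hn : (p : R) ^ n = 0)
    (σ : R →+* R) (κ : Type w) [Field κ] (ρ : R →+* κ) (hρ : Function.Surjective ρ)
    (hker : ∀ r, ρ r = 0 ↔ r ∈ Ideal.span {(p : R)})
    (φ : κ →+* κ) (hcomp : ∀ r, φ (ρ r) = ρ (σ r)) (hφ : Function.Surjective φ)
    (h2 : ∀ (n : ℕ) (b : Fin (n + 1) → κ), b ≠ 0 → ∃ x : κ, x ≠ 0 ∧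
      x = ∑ i : Fin (n + 1), (⇑φ)^[i.val + 1] x * (⇑φ)^[i.val] (b (Fin.rev i)))
    (h3 : ∀ c : κ, ∃ y : κ, φ y - y + c = 0)
    (M : Type v) [AddCommGroup M] [Module R M] [Module.Finite R M] (T : M →ₛₗ[σ] M) :
    Function.Surjective (fun m : M => m - T m) := by
  haveI : IsLocalRing R := isLocalRing_of (p : R) n hn ρ hρ hker
  have hmax := maximalIdeal_eq (p : R) n hn ρ hρ hker
  have hσI : ∀ a ∈ IsLocalRing.maximalIdeal R, σ a ∈ IsLocalRing.maximalIdeal R := by
    intro a ha
    rw [hmax] at ha ⊢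
    obtain ⟨s, rfl⟩ := Ideal.mem_span_singleton'.mp ha
    rw [map_mul, map_natCast]
    exact Ideal.mem_span_singleton'.mpr ⟨σ s, rfl⟩
  let σbar : IsLocalRing.ResidueField R →+* IsLocalRing.ResidueField R :=
    Ideal.Quotient.lift (IsLocalRing.maximalIdeal R) ((IsLocalRing.residue R).comp σ)
      (fun a ha => by
        rw [RingHom.comp_apply]
        exact (IsLocalRing.residue_eq_zero_iff _).mpr (hσI a ha))
  have hσbar : ∀ r : R, σbar (IsLocalRing.residue R r) = IsLocalRing.residue R (σ r) :=
    fun r => rfl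
  let ε : IsLocalRing.ResidueField R →+* κ :=
    Ideal.Quotient.lift (IsLocalRing.maximalIdeal R) ρ (fun a ha => by
      rw [hmax] at ha
      exact (hker a).mpr ha)
  have hε : ∀ r : R, ε (IsLocalRing.residue R r) = ρ r := fun r => rfl
  have hεinj : Function.Injective ε := by
    rw [injective_iff_map_eq_zero]
    intro y hy
    obtain ⟨r, rfl⟩ := IsLocalRing.residue_surjective y
    rw [hε] at hy
    rw [IsLocalRing.residue_eq_zero_iff, hmax]
    exact (hker r).mp hy
  have hεsurj : Function.Surjective ε := by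
    intro c
    obtain ⟨r, rfl⟩ := hρ c
    exact ⟨IsLocalRing.residue R r, hε r⟩
  have hεσ : ∀ y, ε (σbar y) = φ (ε y) := by
    intro y
    obtain ⟨r, rfl⟩ := IsLocalRing.residue_surjective y
    rw [hσbar, hε, hε, hcomp]
  have hiter : ∀ (j : ℕ) (y : IsLocalRing.ResidueField R),
      ε ((⇑σbar)^[j] y) = (⇑φ)^[j] (ε y) := by
    intro j
    induction j with
    | zero => intro y; rfl
    | succ j ih =>
      intro y
      rw [Function.iterate_succ_apply, ih, hεσ, ← Function.iterate_succ_apply]
  have hsurj' : Function.Surjective σbar := by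
    intro y
    obtain ⟨z, hz⟩ := hφ (ε y)
    obtain ⟨y', rfl⟩ := hεsurj z
    refine ⟨y', hεinj ?_⟩
    rw [hεσ, hz]
  have h2' : ∀ (n : ℕ) (b : Fin (n + 1) → IsLocalRing.ResidueField R), b ≠ 0 →
      ∃ x : IsLocalRing.ResidueField R, x ≠ 0 ∧ x = ∑ i : Fin (n + 1),
        (⇑σbar)^[i.val + 1] x * (⇑σbar)^[i.val] (b (Fin.rev i)) := by
    intro m b' hb'
    have hb : (fun i => ε (b' i)) ≠ 0 := by
      intro h0
      apply hb'
      funext i
      have h5 : ε (b' i) = 0 := congrFun h0 i
      show b' i = 0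
      apply hεinj
      rw [map_zero]
      exact h5
    obtain ⟨x, hx0, hx⟩ := h2 m (fun i => ε (b' i)) hb
    obtain ⟨x', rfl⟩ := hεsurj x
    refine ⟨x', fun h => hx0 (by rw [h, map_zero]), ?_⟩
    apply hεinj
    rw [map_sum]
    conv_lhs => rw [hx]
    apply Finset.sum_congr rfl
    intro i _
    rw [map_mul, hiter, hiter]
  have h3' : ∀ c : IsLocalRing.ResidueField R, ∃ y : IsLocalRing.ResidueField R,
      σbar y - y + c = 0 := by
    intro c
    obtain ⟨y, hy⟩ := h3 (ε c)
    obtain ⟨y', rfl⟩ := hεsurj y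
    refine ⟨y', hεinj ?_⟩
    rw [map_add, map_sub, hεσ, hy, map_zero]
  exact Groth.Agent.S19235.result p R hmax n hn σ σbar hσbar hsurj' h2' h3' M T

end generic

section witt

variable (p : ℕ) [Fact p.Prime] (k : Type u) [Field k] [CharP k p]

/-- the zeroth component as a ring homomorphism `W_n(k) → k` (for `0 < n`). -/
noncomputable def rho (n : ℕ) (hn : 0 < n) : TruncatedWittVector p n k →+* k where
  toFun x := x.coeff ⟨0, hn⟩
  map_one' := by
    show (1 : TruncatedWittVector p n k).coeff ⟨0, hn⟩ = 1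
    rw [← map_one (WittVector.truncate (p := p) (R := k) n), WittVector.coeff_truncate]
    exact WittVector.one_coeff_zero p k
  map_zero' := by
    show (0 : TruncatedWittVector p n k).coeff ⟨0, hn⟩ = 0
    exact TruncatedWittVector.coeff_zero p n k _
  map_mul' x y := by
    obtain ⟨X, rfl⟩ := WittVector.truncate_surjective p n k x
    obtain ⟨Y, rfl⟩ := WittVector.truncate_surjective p n k y
    show (WittVector.truncate n X * WittVector.truncate n Y).coeff ⟨0, hn⟩
      = (WittVector.truncate n X).coeff ⟨0, hn⟩ * (WittVector.truncate n Y).coeff ⟨0, hn⟩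
    rw [← map_mul, WittVector.coeff_truncate, WittVector.coeff_truncate,
      WittVector.coeff_truncate]
    exact WittVector.mul_coeff_zero X Y
  map_add' x y := by
    obtain ⟨X, rfl⟩ := WittVector.truncate_surjective p n k x
    obtain ⟨Y, rfl⟩ := WittVector.truncate_surjective p n k y
    show (WittVector.truncate n X + WittVector.truncate n Y).coeff ⟨0, hn⟩
      = (WittVector.truncate n X).coeff ⟨0, hn⟩ + (WittVector.truncate n Y).coeff ⟨0, hn⟩
    rw [← map_add, WittVector.coeff_truncate, WittVector.coeff_truncate,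
      WittVector.coeff_truncate]
    exact WittVector.add_coeff_zero X Y

theorem rho_apply (n : ℕ) (hn : 0 < n) (x : TruncatedWittVector p n k) :
    rho p k n hn x = x.coeff ⟨0, hn⟩ := rfl

theorem rho_surjective (n : ℕ) (hn : 0 < n) : Function.Surjective (rho p k n hn) := by
  intro c
  refine ⟨TruncatedWittVector.mk p (fun _ => c), ?_⟩
  rw [rho_apply, TruncatedWittVector.coeff_mk]

theorem p_pow_eq_zero (n : ℕ) : ((p : TruncatedWittVector p n k)) ^ n = 0 := by
  have h1 : ((p : TruncatedWittVector p n k)) ^ n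
      = WittVector.truncate n ((p : WittVector p k) ^ n) := by
    rw [map_pow, map_natCast]
  rw [h1]
  ext i
  rw [WittVector.coeff_truncate, TruncatedWittVector.coeff_zero]
  exact WittVector.coeff_p_pow_eq_zero p k (ne_of_lt i.isLt)

theorem rho_ker_iff [PerfectRing k p] (n : ℕ) (hn : 0 < n) (x : TruncatedWittVector p n k) :
    rho p k n hn x = 0 ↔ x ∈ Ideal.span {(p : TruncatedWittVector p n k)} := by
  constructor
  · intro hx
    rw [rho_apply] at hx
    obtain ⟨X, rfl⟩ := WittVector.truncate_surjective p n k x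
    rw [WittVector.coeff_truncate] at hx
    have h1 : X = WittVector.verschiebung (X.shift 1) := by
      have := WittVector.eq_iterate_verschiebung (x := X) (n := 1) (fun i hi => by
        have hi0 : i = 0 := by omega
        rw [hi0]; exact hx)
      simpa using this
    obtain ⟨Z, hZ⟩ := (WittVector.frobenius_bijective p k).2 (X.shift 1)
    rw [← hZ, WittVector.verschiebung_frobenius] at h1
    rw [Ideal.mem_span_singleton']
    refine ⟨WittVector.truncate n Z, ?_⟩
    rw [h1, map_mul, map_natCast]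
  · intro hx
    obtain ⟨a, rfl⟩ := Ideal.mem_span_singleton'.mp hx
    rw [map_mul, map_natCast, CharP.cast_eq_zero, mul_zero]

theorem h3_frob [IsAlgClosed k] : ∀ c : k, ∃ y : k, frobenius k p y - y + c = 0 := by
  intro c
  have hp := (Fact.out : p.Prime)
  obtain ⟨P, hP⟩ : ∃ P : Polynomial k,
    P = Polynomial.X ^ p - (Polynomial.X - Polynomial.C c) := ⟨_, rfl⟩
  have hdeg : P.degree ≠ 0 := by
    have h1 : (Polynomial.X - Polynomial.C c : Polynomial k).degree
        < (Polynomial.X ^ p : Polynomial k).degree := by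
      rw [Polynomial.degree_X_sub_C, Polynomial.degree_X_pow]
      exact_mod_cast hp.one_lt
    rw [hP, Polynomial.degree_sub_eq_left_of_degree_lt h1, Polynomial.degree_X_pow]
    exact_mod_cast hp.ne_zero
  obtain ⟨z, hz⟩ := IsAlgClosed.exists_root P hdeg
  refine ⟨z, ?_⟩
  rw [Polynomial.IsRoot, hP, Polynomial.eval_sub, Polynomial.eval_pow, Polynomial.eval_X,
    Polynomial.eval_sub, Polynomial.eval_X, Polynomial.eval_C] at hz
  rw [frobenius_def]
  linear_combination hz

theorem h2_frob [IsAlgClosed k] : ∀ (n : ℕ) (b : Fin (n + 1) → k), b ≠ 0 →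
    ∃ x : k, x ≠ 0 ∧ x = ∑ i : Fin (n + 1),
      (⇑(frobenius k p))^[i.val + 1] x * (⇑(frobenius k p))^[i.val] (b (Fin.rev i)) := by
  intro n b hb
  have hp := (Fact.out : p.Prime)
  obtain ⟨c, hc⟩ : ∃ c : Fin (n+1) → k, c = fun i => (b (Fin.rev i)) ^ (p ^ i.val) := ⟨_, rfl⟩
  have hci : ∀ i, c i = (b (Fin.rev i)) ^ (p ^ i.val) := fun i => by rw [hc]
  have hc0 : ∃ j, c j ≠ 0 := by
    by_contra hcon
    push Not at hcon
    apply hb
    funext j
    have h1 := hcon (Fin.rev j)
    rw [hci, Fin.rev_rev] at h1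
    exact pow_eq_zero_iff (pow_ne_zero _ hp.ne_zero) |>.mp h1
  obtain ⟨S, hS⟩ : ∃ S : Polynomial k, S = ∑ i : Fin (n+1),
    Polynomial.C (c i) * Polynomial.X ^ (p ^ (i.val + 1) - 1) := ⟨_, rfl⟩
  have hpow1 : ∀ i : ℕ, 2 ≤ p ^ (i + 1) := by
    intro i
    calc 2 ≤ p := hp.two_le
      _ = p ^ 1 := (pow_one p).symm
      _ ≤ p ^ (i + 1) := Nat.pow_le_pow_right hp.pos (by omega)
  have hScoeff : ∀ j : Fin (n+1), S.coeff (p ^ (j.val + 1) - 1) = c j := by
    intro j
    rw [hS, Polynomial.finsetSum_coeff, Finset.sum_eq_single j]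
    · rw [Polynomial.coeff_C_mul_X_pow, if_pos rfl]
    · intro i _ hij
      rw [Polynomial.coeff_C_mul_X_pow, if_neg]
      intro h
      apply hij
      have h1 := hpow1 i.val
      have h2 := hpow1 j.val
      have h3 : p ^ (j.val + 1) = p ^ (i.val + 1) := by omega
      have h4 := Nat.pow_right_injective hp.two_le h3
      apply Fin.ext
      omega
    · intro h; exact absurd (Finset.mem_univ j) h
  obtain ⟨H, hH⟩ : ∃ H : Polynomial k, H = S - 1 := ⟨_, rfl⟩
  obtain ⟨j, hj⟩ := hc0
  have hHdeg : H.degree ≠ 0 := by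
    intro hdeg
    have h1 := Polynomial.eq_C_of_degree_eq_zero hdeg
    have h2 : H.coeff (p ^ (j.val + 1) - 1) = c j := by
      rw [hH, Polynomial.coeff_sub, hScoeff, Polynomial.coeff_one, if_neg, sub_zero]
      have := hpow1 j.val
      omega
    rw [h1, Polynomial.coeff_C, if_neg] at h2
    · exact hj h2.symm
    · have := hpow1 j.val
      omega
  obtain ⟨z, hz⟩ := IsAlgClosed.exists_root H hHdeg
  have hSz : S.eval z = 1 := by
    rw [Polynomial.IsRoot, hH, Polynomial.eval_sub, Polynomial.eval_one] at hz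
    exact sub_eq_zero.mp hz
  have hSeval : ∀ w : k, S.eval w = ∑ i : Fin (n+1), c i * w ^ (p ^ (i.val + 1) - 1) := by
    intro w
    rw [hS, Polynomial.eval_finsetSum]
    apply Finset.sum_congr rfl
    intro i _
    rw [Polynomial.eval_mul, Polynomial.eval_C, Polynomial.eval_pow, Polynomial.eval_X]
  have hz0 : z ≠ 0 := by
    intro h0
    rw [h0, hSeval] at hSz
    have : ∑ i : Fin (n+1), c i * (0 : k) ^ (p ^ (i.val + 1) - 1) = 0 := by
      apply Finset.sum_eq_zero
      intro i _
      rw [zero_pow, mul_zero]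
      have := hpow1 i.val
      omega
    rw [this] at hSz
    exact zero_ne_one hSz
  refine ⟨z, hz0, ?_⟩
  have h5 : z = S.eval z * z := by rw [hSz, one_mul]
  conv_lhs => rw [h5, hSeval, Finset.sum_mul]
  apply Finset.sum_congr rfl
  intro i _
  rw [iterate_frobenius, iterate_frobenius, ← hci, mul_assoc, pow_sub_one_mul, mul_comm]
  have := hpow1 i.val
  omega

end witt

theorem main37 (p : ℕ) [Fact p.Prime] (k : Type u) [Field k] [CharP k p] [IsAlgClosed k] (n : ℕ)
    (σ : TruncatedWittVector p n k →+* TruncatedWittVector p n k)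
    (hσ : σ = WittGrp.truncMap p n (frobenius k p) ∨
      σ = WittGrp.truncMap p n (frobeniusEquiv k p).symm.toRingHom)
    (M : Type v) [AddCommGroup M] [Module (TruncatedWittVector p n k) M]
    [Module.Finite (TruncatedWittVector p n k) M]
    (T : M →ₛₗ[σ] M) : Function.Surjective (fun m : M => m - T m) := by
  rcases Nat.eq_zero_or_pos n with hn0 | hn
  · subst hn0
    haveI : Subsingleton (TruncatedWittVector p 0 k) :=
      ⟨fun a b => TruncatedWittVector.ext (fun i => i.elim0)⟩
    haveI : Subsingleton M := Module.subsingleton (TruncatedWittVector p 0 k) M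
    intro y
    exact ⟨0, Subsingleton.elim _ _⟩
  · rcases hσ with rfl | rfl
    · exact sub_surjective_generic p (TruncatedWittVector p n k) n (p_pow_eq_zero p k n)
        (WittGrp.truncMap p n (frobenius k p)) k
        (rho p k n hn) (rho_surjective p k n hn) (rho_ker_iff p k n hn) (frobenius k p)
        (fun r => (WittGrp.coeff_truncMap p n (frobenius k p) r ⟨0, hn⟩).symm)
        (surjective_frobenius k p) (h2_frob p k) (h3_frob p k) M T
    · exact sub_surjective_generic p (TruncatedWittVector p n k) n (p_pow_eq_zero p k n)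
        (WittGrp.truncMap p n (frobeniusEquiv k p).symm.toRingHom) k
        (rho p k n hn) (rho_surjective p k n hn) (rho_ker_iff p k n hn)
        ((frobeniusEquiv k p).symm.toRingHom)
        (fun r => (WittGrp.coeff_truncMap p n ((frobeniusEquiv k p).symm.toRingHom) r
          ⟨0, hn⟩).symm)
        (frobeniusEquiv k p).symm.surjective (Groth.Agent.S19239.h9_h2 p k)
        (Groth.Agent.S19239.h9_h3 p k) M T

end H9SigL
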