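import Mathlib
import Groth.Prelude.Def_WittGrp
import Groth.Agent.Lib.helper9.SigmaLocal

/-! helper9: finiteness of the fixed points of semilinear maps. -/

set_option autoImplicit false
set_option linter.unusedSectionVars false
set_option linter.unusedVariables false
set_option linter.style.haveILetI false

namespace H9SigL

universe u v w

noncomputable def instVQ (R : Type u) [CommRing R] [IsLocalRing R] (M : Type v) [AddCommGroup M]
    [Module R M] :
    Module (IsLocalRing.ResidueField R)
      (M ⧸ (IsLocalRing.maximalIdeal R) • (⊤ : Submodule R M)) :=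
  inferInstanceAs (Module (R ⧸ IsLocalRing.maximalIdeal R)
    (M ⧸ (IsLocalRing.maximalIdeal R) • (⊤ : Submodule R M)))

theorem exists_residue_model (p : ℕ) [Fact p.Prime] (R : Type u) [CommRing R] [IsLocalRing R]
    (hmax : IsLocalRing.maximalIdeal R = Ideal.span {(p : R)})
    (σ : R →+* R) (σbar : IsLocalRing.ResidueField R →+* IsLocalRing.ResidueField R)
    (hσbar : ∀ r : R, σbar (IsLocalRing.residue R r) = IsLocalRing.residue R (σ r))
    (M : Type v) [AddCommGroup M] [Module R M] [Module.Finite R M] (T : M →ₛₗ[σ] M) :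
    ∃ (V : Type v) (_ : AddCommGroup V) (_ : Module (IsLocalRing.ResidueField R) V)
      (_ : FiniteDimensional (IsLocalRing.ResidueField R) V) (Tb : V →ₛₗ[σbar] V) (q : M →+ V),
      Function.Surjective q ∧ (∀ m, q (T m) = Tb (q m)) ∧
        (∀ m, q m = 0 ↔ ∃ y : M, m = (p : R) • y) ∧
        (∀ (r : R) (m : M), q (r • m) = IsLocalRing.residue R r • q m) := by
  classical
  letI instV : Module (IsLocalRing.ResidueField R)
    (M ⧸ ((IsLocalRing.maximalIdeal R) • (⊤ : Submodule R M))) := instVQ R M
  have hsmul : ∀ (r : R) (m : M), (IsLocalRing.residue R r) •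
      (Submodule.Quotient.mk m : M ⧸ ((IsLocalRing.maximalIdeal R) • (⊤ : Submodule R M)))
      = Submodule.Quotient.mk (r • m) := fun r m => rfl
  have hσI : ∀ r ∈ (IsLocalRing.maximalIdeal R), σ r ∈ (IsLocalRing.maximalIdeal R) := by
    intro r hr
    have hr' : r ∈ Ideal.span {(p : R)} := by rw [← hmax]; exact hr
    obtain ⟨a, rfl⟩ := Ideal.mem_span_singleton'.mp hr'
    show σ (a * (p : R)) ∈ IsLocalRing.maximalIdeal R
    rw [hmax, map_mul, map_natCast]
    exact Ideal.mem_span_singleton'.mpr ⟨σ a, rfl⟩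
  have hTI : ((IsLocalRing.maximalIdeal R) • (⊤ : Submodule R M))
      ≤ ((IsLocalRing.maximalIdeal R) • (⊤ : Submodule R M)).comap T := by
    intro x hx
    rw [Submodule.mem_comap]
    refine Submodule.smul_induction_on hx ?_ ?_
    · intro r hr m _
      rw [map_smulₛₗ]
      exact Submodule.smul_mem_smul (hσI r hr) trivial
    · intro a b ha hb
      rw [map_add]
      exact Submodule.add_mem _ ha hb
  have hpmul : ∀ x ∈ ((IsLocalRing.maximalIdeal R) • (⊤ : Submodule R M)),
      ∃ y : M, x = (p : R) • y := by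
    intro x hx
    refine Submodule.smul_induction_on hx ?_ ?_
    · intro r hr m _
      have hr' : r ∈ Ideal.span {(p : R)} := by rw [← hmax]; exact hr
      obtain ⟨a, rfl⟩ := Ideal.mem_span_singleton'.mp hr'
      exact ⟨a • m, by rw [smul_smul, mul_comm]⟩
    · rintro a b ⟨y1, rfl⟩ ⟨y2, rfl⟩
      exact ⟨y1 + y2, by rw [smul_add]⟩
  let TR : (M ⧸ ((IsLocalRing.maximalIdeal R) • (⊤ : Submodule R M))) →ₛₗ[σ]
      (M ⧸ ((IsLocalRing.maximalIdeal R) • (⊤ : Submodule R M))) :=
    ((IsLocalRing.maximalIdeal R) • (⊤ : Submodule R M)).mapQ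
      ((IsLocalRing.maximalIdeal R) • (⊤ : Submodule R M)) T hTI
  have hTR : ∀ x : M, TR (Submodule.Quotient.mk x) = Submodule.Quotient.mk (T x) := fun x => rfl
  let Tb : (M ⧸ ((IsLocalRing.maximalIdeal R) • (⊤ : Submodule R M))) →ₛₗ[σbar]
      (M ⧸ ((IsLocalRing.maximalIdeal R) • (⊤ : Submodule R M))) :=
    { toFun := fun v => TR v
      map_add' := fun a b => map_add TR a b
      map_smul' := by
        intro c v
        obtain ⟨r, rfl⟩ := IsLocalRing.residue_surjective c
        obtain ⟨m, rfl⟩ := Submodule.Quotient.mk_surjective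
          ((IsLocalRing.maximalIdeal R) • (⊤ : Submodule R M)) v
        show TR ((IsLocalRing.residue R r) • (Submodule.Quotient.mk m :
          M ⧸ ((IsLocalRing.maximalIdeal R) • (⊤ : Submodule R M))))
          = σbar (IsLocalRing.residue R r) • TR (Submodule.Quotient.mk m)
        rw [hsmul, hTR, hTR, map_smulₛₗ, hσbar, hsmul] }
  have hTb : ∀ x : M, Tb (Submodule.Quotient.mk x) = Submodule.Quotient.mk (T x) := fun x => rfl
  have hfin : Module.Finite (IsLocalRing.ResidueField R)
      (M ⧸ ((IsLocalRing.maximalIdeal R) • (⊤ : Submodule R M))) := by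
    obtain ⟨s, hs⟩ := (Module.finite_def.mp (inferInstance : Module.Finite R M))
    refine ⟨⟨s.image (fun m => (Submodule.Quotient.mk m :
      M ⧸ ((IsLocalRing.maximalIdeal R) • (⊤ : Submodule R M)))), ?_⟩⟩
    rw [eq_top_iff]
    intro v _
    obtain ⟨m, rfl⟩ := Submodule.Quotient.mk_surjective
      ((IsLocalRing.maximalIdeal R) • (⊤ : Submodule R M)) v
    have hm : m ∈ Submodule.span R (s : Set M) := by rw [hs]; trivial
    refine Submodule.span_induction ?_ ?_ ?_ ?_ hm
    · intro x hx
      apply Submodule.subset_span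
      rw [Finset.coe_image]
      exact Set.mem_image_of_mem _ hx
    · rw [Submodule.Quotient.mk_zero]; exact Submodule.zero_mem _
    · intro a b _ _ ha hb
      rw [Submodule.Quotient.mk_add]; exact Submodule.add_mem _ ha hb
    · intro r a _ ha
      rw [← hsmul]; exact Submodule.smul_mem _ _ ha
  refine ⟨M ⧸ ((IsLocalRing.maximalIdeal R) • (⊤ : Submodule R M)), inferInstance, instV, hfin,
    Tb, (Submodule.mkQ ((IsLocalRing.maximalIdeal R) • (⊤ : Submodule R M))).toAddMonoidHom,
    ?_, ?_, ?_, ?_⟩
  · exact Submodule.mkQ_surjective _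
  · intro m
    exact (hTb m).symm
  · intro m
    show (Submodule.Quotient.mk m : M ⧸ ((IsLocalRing.maximalIdeal R) • (⊤ : Submodule R M))) = 0
      ↔ _
    rw [Submodule.Quotient.mk_eq_zero]
    constructor
    · exact hpmul m
    · rintro ⟨y, rfl⟩
      refine Submodule.smul_mem_smul ?_ Submodule.mem_top
      rw [hmax]
      exact Ideal.mem_span_singleton_self _
  · intro r m
    exact (hsmul r m).symm

theorem fixed_finite_of_fixField_finite {κ : Type w} [Field κ] (σ : κ →+* κ)
    (hfix : {x : κ | σ x = x}.Finite) (V : Type v) [AddCommGroup V] [Module κ V]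
    [FiniteDimensional κ V] (T : V →ₛₗ[σ] V) : {v : V | T v = v}.Finite := by
  classical
  obtain ⟨b, hbF, hbspan, hbli⟩ := exists_linearIndependent κ {v : V | T v = v}
  haveI : Finite b := hbli.finite_of_isNoetherian
  haveI : Fintype b := Fintype.ofFinite b
  haveI : Finite {x : κ | σ x = x} := hfix.to_subtype
  let g : (b → {x : κ | σ x = x}) → V := fun c => ∑ i : b, (c i : κ) • (i : V)
  apply Set.Finite.subset (Set.finite_range g)
  intro v hv
  have hv' : T v = v := hv
  have hvspan : v ∈ Submodule.span κ (Set.range ((↑) : b → V)) := by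
    rw [Subtype.range_coe, hbspan]
    exact Submodule.subset_span hv
  obtain ⟨c, hc⟩ := (Submodule.mem_span_range_iff_exists_fun κ).mp hvspan
  have hTb : ∀ i : b, T (i : V) = (i : V) := fun i => hbF i.2
  have hfixc : ∀ i, σ (c i) = c i := by
    have h2 : T v = ∑ i : b, σ (c i) • (i : V) := by
      rw [← hc, map_sum]
      apply Finset.sum_congr rfl
      intro i _
      rw [map_smulₛₗ, hTb]
    have h1 : ∑ i : b, (σ (c i) - c i) • (i : V) = 0 := by
      have h3 : ∑ i : b, (σ (c i) - c i) • (i : V)
          = ∑ i : b, σ (c i) • (i : V) - ∑ i : b, c i • (i : V) := by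
        rw [← Finset.sum_sub_distrib]
        apply Finset.sum_congr rfl
        intro i _
        rw [sub_smul]
      rw [h3, ← h2, hc, hv', sub_self]
    have h4 := Fintype.linearIndependent_iff.mp hbli _ h1
    intro i
    exact sub_eq_zero.mp (h4 i)
  exact ⟨fun i => ⟨c i, hfixc i⟩, hc⟩

theorem fixed_finite_local (p : ℕ) [Fact p.Prime] (R : Type u) [CommRing R] [IsLocalRing R]
    (hmax : IsLocalRing.maximalIdeal R = Ideal.span {(p : R)})
    (σ : R →+* R) (σbar : IsLocalRing.ResidueField R →+* IsLocalRing.ResidueField R)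
    (hσbar : ∀ r : R, σbar (IsLocalRing.residue R r) = IsLocalRing.residue R (σ r))
    (hfix : {x : IsLocalRing.ResidueField R | σbar x = x}.Finite) :
    ∀ (j : ℕ) (M : Type v) [AddCommGroup M] [Module R M] [Module.Finite R M] (T : M →ₛₗ[σ] M),
      (∀ m : M, (p : R) ^ j • m = 0) → {m : M | T m = m}.Finite := by
  intro j
  induction j with
  | zero =>
    intro M _ _ _ T h0
    apply Set.Finite.subset (Set.finite_singleton (0 : M))
    intro m _
    have := h0 m
    rw [pow_zero, one_smul] at this
    exact this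
  | succ j ih =>
    intro M _ _ _ T hj
    -- the submodule pM
    let N : Submodule R M := LinearMap.range (LinearMap.lsmul R M (p : R))
    have hNmem : ∀ x : M, x ∈ N ↔ ∃ y : M, x = (p : R) • y := by
      intro x
      constructor
      · rintro ⟨y, rfl⟩
        exact ⟨y, rfl⟩
      · rintro ⟨y, rfl⟩
        exact ⟨y, rfl⟩
    have hTN : ∀ w : N, T (w : M) ∈ N := by
      intro w
      obtain ⟨y, hy⟩ := (hNmem _).mp w.2
      rw [hNmem, hy, map_smulₛₗ, map_natCast]
      exact ⟨T y, rfl⟩
    let TN : N →ₛₗ[σ] N := (T.domRestrict N).codRestrict N hTN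
    have hTNv : ∀ w : N, ((TN w : N) : M) = T (w : M) := fun w => rfl
    have hNj : ∀ w : N, (p : R) ^ j • w = 0 := by
      intro w
      obtain ⟨y, hy⟩ := (hNmem _).mp w.2
      apply Subtype.ext
      rw [Submodule.coe_smul, Submodule.coe_zero, hy, smul_smul, ← pow_succ]
      exact hj y
    have hfinN : {w : N | TN w = w}.Finite := ih N TN hNj
    have hfinN' : {x : M | x ∈ N ∧ T x = x}.Finite := by
      apply Set.Finite.subset (hfinN.image (Subtype.val))
      rintro x ⟨hxN, hx⟩
      refine ⟨⟨x, hxN⟩, ?_, rfl⟩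
      show TN ⟨x, hxN⟩ = ⟨x, hxN⟩
      exact Subtype.ext hx
    obtain ⟨V, iV1, iV2, iV3, Tb, q, hq, hqT, hqker, -⟩ :=
      exists_residue_model p R hmax σ σbar hσbar M T
    have hfinV : {v : V | Tb v = v}.Finite :=
      fixed_finite_of_fixField_finite σbar hfix V Tb
    apply Set.Finite.of_finite_fibers q
    · apply Set.Finite.subset hfinV
      rintro _ ⟨m, hm, rfl⟩
      have hm' : T m = m := hm
      show Tb (q m) = q m
      rw [← hqT, hm']
    · rintro _ ⟨m₀, hm₀, rfl⟩
      have hm₀' : T m₀ = m₀ := hm₀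
      apply Set.Finite.subset (hfinN'.image (fun x => m₀ + x))
      rintro m ⟨hm, hqm⟩
      have hm' : T m = m := hm
      have hqm' : q m = q m₀ := hqm
      refine ⟨m - m₀, ⟨?_, ?_⟩, by abel⟩
      · rw [hNmem, ← hqker, map_sub, hqm', sub_self]
      · rw [map_sub, hm', hm₀']

theorem fixed_finite_generic (p : ℕ) [Fact p.Prime] (R : Type u) [CommRing R] (n : ℕ)
    (hn : (p : R) ^ n = 0)
    (σ : R →+* R) (κ : Type w) [Field κ] (ρ : R →+* κ) (hρ : Function.Surjective ρ)
    (hker : ∀ r, ρ r = 0 ↔ r ∈ Ideal.span {(p : R)})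
    (φ : κ →+* κ) (hcomp : ∀ r, φ (ρ r) = ρ (σ r))
    (hfixφ : {x : κ | φ x = x}.Finite)
    (M : Type v) [AddCommGroup M] [Module R M] [Module.Finite R M] (T : M →ₛₗ[σ] M) :
    {m : M | T m = m}.Finite := by
  haveI : IsLocalRing R := isLocalRing_of (p : R) n hn ρ hρ hker
  have hmax := maximalIdeal_eq (p : R) n hn ρ hρ hker
  have hσI : ∀ a ∈ IsLocalRing.maximalIdeal R, σ a ∈ IsLocalRing.maximalIdeal R := by
    intro a ha
    rw [hmax] at ha ⊢
    obtain ⟨s, rfl⟩ := Ideal.mem_span_singleton'.mp ha
    rw [map_mul, map_natCast]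
    exact Ideal.mem_span_singleton'.mpr ⟨σ s, rfl⟩
  let σbar : IsLocalRing.ResidueField R →+* IsLocalRing.ResidueField R :=
    Ideal.Quotient.lift (IsLocalRing.maximalIdeal R) ((IsLocalRing.residue R).comp σ)
      (fun a ha => by
        rw [RingHom.comp_apply]
        exact (IsLocalRing.residue_eq_zero_iff _).mpr (hσI a ha))
  have hσbar : ∀ r : R, σbar (IsLocalRing.residue R r) = IsLocalRing.residue R (σ r) :=
    fun r => rfl
  let ε : IsLocalRing.ResidueField R →+* κ :=
    Ideal.Quotient.lift (IsLocalRing.maximalIdeal R) ρ (fun a ha => by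
      rw [hmax] at ha
      exact (hker a).mpr ha)
  have hε : ∀ r : R, ε (IsLocalRing.residue R r) = ρ r := fun r => rfl
  have hεinj : Function.Injective ε := by
    rw [injective_iff_map_eq_zero]
    intro y hy
    obtain ⟨r, rfl⟩ := IsLocalRing.residue_surjective y
    rw [hε] at hy
    rw [IsLocalRing.residue_eq_zero_iff, hmax]
    exact (hker r).mp hy
  have hεσ : ∀ y, ε (σbar y) = φ (ε y) := by
    intro y
    obtain ⟨r, rfl⟩ := IsLocalRing.residue_surjective y
    rw [hσbar, hε, hε, hcomp]
  have hfix : {x : IsLocalRing.ResidueField R | σbar x = x}.Finite := by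
    apply Set.Finite.of_finite_image _ hεinj.injOn
    apply Set.Finite.subset hfixφ
    rintro _ ⟨x, hx, rfl⟩
    have hx' : σbar x = x := hx
    show φ (ε x) = ε x
    rw [← hεσ, hx']
  exact fixed_finite_local p R hmax σ σbar hσbar hfix n M T (fun m => by rw [hn, zero_smul])

theorem fix_frob_finite (p : ℕ) [Fact p.Prime] (k : Type u) [Field k] [CharP k p] :
    {x : k | x ^ p = x}.Finite := by
  classical
  have hp := (Fact.out : p.Prime)
  have hne : (Polynomial.X ^ p - Polynomial.X : Polynomial k) ≠ 0 :=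
    FiniteField.X_pow_card_sub_X_ne_zero k hp.one_lt
  apply Set.Finite.subset (Polynomial.X ^ p - Polynomial.X : Polynomial k).roots.toFinset.finite_toSet
  intro x hx
  have hx' : x ^ p = x := hx
  rw [Finset.mem_coe, Multiset.mem_toFinset, Polynomial.mem_roots hne, Polynomial.IsRoot,
    Polynomial.eval_sub, Polynomial.eval_pow, Polynomial.eval_X, hx', sub_self]

theorem main38 (p : ℕ) [Fact p.Prime] (k : Type u) [Field k] [CharP k p] [IsAlgClosed k] (n : ℕ)
    (σ : TruncatedWittVector p n k →+* TruncatedWittVector p n k)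
    (hσ : σ = WittGrp.truncMap p n (frobenius k p) ∨
      σ = WittGrp.truncMap p n (frobeniusEquiv k p).symm.toRingHom)
    (M : Type v) [AddCommGroup M] [Module (TruncatedWittVector p n k) M]
    [Module.Finite (TruncatedWittVector p n k) M]
    (T : M →ₛₗ[σ] M) : {m : M | T m = m}.Finite := by
  rcases Nat.eq_zero_or_pos n with hn0 | hn
  · subst hn0
    haveI : Subsingleton (TruncatedWittVector p 0 k) :=
      ⟨fun a b => TruncatedWittVector.ext (fun i => i.elim0)⟩
    haveI : Subsingleton M := Module.subsingleton (TruncatedWittVector p 0 k) M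
    exact Set.toFinite _
  · rcases hσ with rfl | rfl
    · refine fixed_finite_generic p (TruncatedWittVector p n k) n (p_pow_eq_zero p k n)
        (WittGrp.truncMap p n (frobenius k p)) k
        (rho p k n hn) (rho_surjective p k n hn) (rho_ker_iff p k n hn) (frobenius k p)
        (fun r => (WittGrp.coeff_truncMap p n (frobenius k p) r ⟨0, hn⟩).symm) ?_ M T
      exact fix_frob_finite p k
    · refine fixed_finite_generic p (TruncatedWittVector p n k) n (p_pow_eq_zero p k n)
        (WittGrp.truncMap p n (frobeniusEquiv k p).symm.toRingHom) k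
        (rho p k n hn) (rho_surjective p k n hn) (rho_ker_iff p k n hn)
        ((frobeniusEquiv k p).symm.toRingHom)
        (fun r => (WittGrp.coeff_truncMap p n ((frobeniusEquiv k p).symm.toRingHom) r
          ⟨0, hn⟩).symm) ?_ M T
      apply Set.Finite.subset (fix_frob_finite p k)
      intro x hx
      have hx' : (frobeniusEquiv k p).symm x = x := hx
      show x ^ p = x
      have h1 := frobeniusEquiv_symm_pow_p k p x
      rw [hx'] at h1
      exact h1

end H9SigL
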