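import Mathlib
import Groth.Agent.Lib.helper9.SigmaFix

/-! helper9: fixed points of semilinear maps are finitely generated over the fixed ring. -/

set_option autoImplicit false
set_option linter.unusedSectionVars false
set_option linter.unusedVariables false
set_option linter.style.haveILetI false

namespace H9SigL

universe u v w

theorem repackage {R : Type u} [CommRing R] {M : Type v} [AddCommGroup M] [Module R M]
    (σ : R →+* R) (T : M →ₛₗ[σ] M) (ι : Type v) [Fintype ι] (f : ι → M)
    (hf : ∀ i, T (f i) = f i)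
    (hgen : ∀ m, T m = m → ∃ d : ι → R, (∀ i, σ (d i) = d i) ∧ m = ∑ i, d i • f i) :
    ∃ s : Finset M, (∀ m ∈ s, T m = m) ∧
      ∀ m : M, T m = m → ∃ c : M → R, (∀ x ∈ s, σ (c x) = c x) ∧ m = ∑ x ∈ s, c x • x := by
  classical
  refine ⟨Finset.univ.image f, ?_, ?_⟩
  · intro m hm
    obtain ⟨i, _, rfl⟩ := Finset.mem_image.mp hm
    exact hf i
  · intro m hm
    obtain ⟨d, hd, hmd⟩ := hgen m hm
    refine ⟨fun x => ∑ i ∈ Finset.univ.filter (fun i => f i = x), d i, ?_, ?_⟩
    · intro x _
      rw [map_sum]
      exact Finset.sum_congr rfl (fun i _ => hd i)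
    · rw [hmd]
      symm
      apply Finset.sum_image'
      intro i _
      rw [Finset.sum_smul]
      apply Finset.sum_congr rfl
      intro j hj
      rw [(Finset.mem_filter.mp hj).2]

theorem fixed_fg_local (p : ℕ) [Fact p.Prime] (R : Type u) [CommRing R] [IsLocalRing R]
    (hmax : IsLocalRing.maximalIdeal R = Ideal.span {(p : R)})
    (σ : R →+* R) (σbar : IsLocalRing.ResidueField R →+* IsLocalRing.ResidueField R)
    (hσbar : ∀ r : R, σbar (IsLocalRing.residue R r) = IsLocalRing.residue R (σ r))
    (hlift : ∀ x : IsLocalRing.ResidueField R, σbar x = x →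
      ∃ r : R, σ r = r ∧ IsLocalRing.residue R r = x) :
    ∀ (j : ℕ) (M : Type v) [AddCommGroup M] [Module R M] [Module.Finite R M] (T : M →ₛₗ[σ] M),
      (∀ m : M, (p : R) ^ j • m = 0) →
      ∃ (ι : Type v) (_ : Fintype ι) (f : ι → M), (∀ i, T (f i) = f i) ∧
        ∀ m : M, T m = m → ∃ d : ι → R, (∀ i, σ (d i) = d i) ∧ m = ∑ i, d i • f i := by
  intro j
  induction j with
  | zero =>
    intro M _ _ _ T h0
    refine ⟨PEmpty, inferInstance, fun i => i.elim, fun i => i.elim, ?_⟩
    intro m _
    refine ⟨fun i => i.elim, fun i => i.elim, ?_⟩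
    have := h0 m
    rw [pow_zero, one_smul] at this
    rw [this]
    simp
  | succ j ih =>
    intro M _ _ _ T hj
    classical
    let N : Submodule R M := LinearMap.range (LinearMap.lsmul R M (p : R))
    have hNmem : ∀ x : M, x ∈ N ↔ ∃ y : M, x = (p : R) • y := by
      intro x
      constructor
      · rintro ⟨y, rfl⟩
        exact ⟨y, rfl⟩
      · rintro ⟨y, rfl⟩
        exact ⟨y, rfl⟩
    have hTN : ∀ w : N, T (w : M) ∈ N := by
      intro w
      obtain ⟨y, hy⟩ := (hNmem _).mp w.2
      rw [hNmem, hy, map_smulₛₗ, map_natCast]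
      exact ⟨T y, rfl⟩
    let TN : N →ₛₗ[σ] N := (T.domRestrict N).codRestrict N hTN
    have hTNv : ∀ w : N, ((TN w : N) : M) = T (w : M) := fun w => rfl
    have hNj : ∀ w : N, (p : R) ^ j • w = 0 := by
      intro w
      obtain ⟨y, hy⟩ := (hNmem _).mp w.2
      apply Subtype.ext
      rw [Submodule.coe_smul, Submodule.coe_zero, hy, smul_smul, ← pow_succ]
      exact hj y
    obtain ⟨ιN, instιN, fN, hfN, hgenN⟩ := ih N TN hNj
    obtain ⟨V, iV1, iV2, iV3, Tb, q, hq, hqT, hqker, hqsmul⟩ :=
      exists_residue_model p R hmax σ σbar hσbar M T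
    obtain ⟨b, hbB, hbspan, hbli⟩ :=
      exists_linearIndependent (IsLocalRing.ResidueField R) (q '' {m : M | T m = m})
    haveI : Finite b := hbli.finite_of_isNoetherian
    haveI : Fintype b := Fintype.ofFinite b
    choose mw hmw using fun w : b => hbB w.2
    have hmwT : ∀ w : b, T (mw w) = mw w := fun w => (hmw w).1
    have hmwq : ∀ w : b, q (mw w) = (w : V) := fun w => (hmw w).2
    refine ⟨b ⊕ ιN, inferInstance, Sum.elim mw (fun i => ((fN i : N) : M)), ?_, ?_⟩
    · rintro (w | i)
      · exact hmwT w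
      · show T ((fN i : N) : M) = ((fN i : N) : M)
        rw [← hTNv, hfN]
    · intro m hm
      have hqm : Tb (q m) = q m := by rw [← hqT, hm]
      have hqmspan : q m ∈ Submodule.span (IsLocalRing.ResidueField R)
          (Set.range ((↑) : b → V)) := by
        rw [Subtype.range_coe, hbspan]
        exact Submodule.subset_span ⟨m, hm, rfl⟩
      obtain ⟨cb, hcb⟩ := (Submodule.mem_span_range_iff_exists_fun
        (IsLocalRing.ResidueField R)).mp hqmspan
      have hTbw : ∀ w : b, Tb (w : V) = (w : V) := by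
        intro w
        rw [← hmwq, ← hqT, hmwT]
      have hfixc : ∀ w, σbar (cb w) = cb w := by
        have h2 : Tb (q m) = ∑ w : b, σbar (cb w) • (w : V) := by
          rw [← hcb, map_sum]
          apply Finset.sum_congr rfl
          intro w _
          rw [map_smulₛₗ, hTbw]
        have h1 : ∑ w : b, (σbar (cb w) - cb w) • (w : V) = 0 := by
          have h3 : ∑ w : b, (σbar (cb w) - cb w) • (w : V)
              = ∑ w : b, σbar (cb w) • (w : V) - ∑ w : b, cb w • (w : V) := by
            rw [← Finset.sum_sub_distrib]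
            apply Finset.sum_congr rfl
            intro w _
            rw [sub_smul]
          rw [h3, ← h2, hcb, hqm, sub_self]
        have h4 := Fintype.linearIndependent_iff.mp hbli _ h1
        intro w
        exact sub_eq_zero.mp (h4 w)
      choose c hc using fun w : b => hlift (cb w) (hfixc w)
      have hcσ : ∀ w, σ (c w) = c w := fun w => (hc w).1
      have hcres : ∀ w, IsLocalRing.residue R (c w) = cb w := fun w => (hc w).2
      obtain ⟨m', hm'⟩ : ∃ m' : M, m' = m - ∑ w : b, c w • mw w := ⟨_, rfl⟩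
      have hTsum : T (∑ w : b, c w • mw w) = ∑ w : b, c w • mw w := by
        rw [map_sum]
        apply Finset.sum_congr rfl
        intro w _
        rw [map_smulₛₗ, hcσ, hmwT]
      have hTm' : T m' = m' := by
        rw [hm', map_sub, hm, hTsum]
      have hqm' : q m' = 0 := by
        rw [hm', map_sub, map_sum]
        have : ∑ w : b, q (c w • mw w) = q m := by
          rw [← hcb]
          apply Finset.sum_congr rfl
          intro w _
          rw [hqsmul, hcres, hmwq]
        rw [this, sub_self]
      have hm'N : m' ∈ N := (hNmem m').mpr ((hqker m').mp hqm')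
      have hTNm' : TN ⟨m', hm'N⟩ = ⟨m', hm'N⟩ := Subtype.ext hTm'
      obtain ⟨d', hd'σ, hd'⟩ := hgenN ⟨m', hm'N⟩ hTNm'
      have hd'' : m' = ∑ i, d' i • ((fN i : N) : M) := by
        have := congrArg Subtype.val hd'
        rw [Submodule.coe_sum] at this
        simpa using this
      refine ⟨Sum.elim c d', ?_, ?_⟩
      · rintro (w | i)
        · exact hcσ w
        · exact hd'σ i
      · rw [Fintype.sum_sum_type]
        simp only [Sum.elim_inl, Sum.elim_inr]
        rw [← hd'', hm']
        abel

theorem main36 (p : ℕ) [Fact p.Prime] (R : Type u) [CommRing R] [IsLocalRing R]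
    (hmax : IsLocalRing.maximalIdeal R = Ideal.span {(p : R)}) (n : ℕ) (hn : (p : R) ^ n = 0)
    (σ : R →+* R) (σbar : IsLocalRing.ResidueField R →+* IsLocalRing.ResidueField R)
    (hσbar : ∀ r : R, σbar (IsLocalRing.residue R r) = IsLocalRing.residue R (σ r))
    (M : Type v) [AddCommGroup M] [Module R M] [Module.Finite R M] (T : M →ₛₗ[σ] M)
    (hlift : ∀ x : IsLocalRing.ResidueField R, σbar x = x →
      ∃ r : R, σ r = r ∧ IsLocalRing.residue R r = x) :
    ∃ s : Finset M, (∀ m ∈ s, T m = m) ∧
      ∀ m : M, T m = m → ∃ c : M → R, (∀ x ∈ s, σ (c x) = c x) ∧ m = ∑ x ∈ s, c x • x := by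
  obtain ⟨ι, instι, f, hf, hgen⟩ := fixed_fg_local p R hmax σ σbar hσbar hlift n M T
    (fun m => by rw [hn, zero_smul])
  exact repackage σ T ι f hf hgen

end H9SigL
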