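import Mathlib

set_option autoImplicit false
set_option linter.unusedSectionVars false

/-! Helper library (helper9): coordinates of `x * [γ]` for Witt vectors over an arbitrary
commutative ring. -/

namespace H9TM

open MvPolynomial

variable {p : ℕ} [hp : Fact p.Prime]

noncomputable def g {R : Type*} [CommRing R] (γ : R) (x : WittVector p R) : WittVector p R :=
  WittVector.mk p (fun i => x.coeff i * γ ^ (p ^ i))

theorem g_coeff {R : Type*} [CommRing R] (γ : R) (x : WittVector p R) (i : ℕ) :
    (g γ x).coeff i = x.coeff i * γ ^ (p ^ i) := by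
  rw [g, WittVector.coeff_mk]

theorem map_g {R S : Type*} [CommRing R] [CommRing S] (f : R →+* S) (γ : R)
    (x : WittVector p R) :
    WittVector.map f (g γ x) = g (f γ) (WittVector.map f x) := by
  ext i
  rw [WittVector.map_coeff, g_coeff, g_coeff, WittVector.map_coeff, map_mul, map_pow]

theorem ghost_g {R : Type*} [CommRing R] (γ : R) (x : WittVector p R) (n : ℕ) :
    WittVector.ghostComponent n (g γ x) = WittVector.ghostComponent n x * γ ^ (p ^ n) := by
  rw [WittVector.ghostComponent_apply, WittVector.ghostComponent_apply, aeval_wittPolynomial,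
    aeval_wittPolynomial, Finset.sum_mul]
  apply Finset.sum_congr rfl
  intro i hi
  have hi' : i ≤ n := Nat.lt_succ_iff.mp (Finset.mem_range.mp hi)
  rw [g_coeff, mul_pow, ← pow_mul, ← pow_add, Nat.add_sub_cancel' hi']
  ring

theorem aux1 {σ : Type*} (γ : MvPolynomial σ ℚ) (x : WittVector p (MvPolynomial σ ℚ)) :
    x * WittVector.teichmuller p γ = g γ x := by
  apply (WittVector.ghostMap.bijective_of_invertible p (MvPolynomial σ ℚ)).1
  rw [map_mul]
  ext1 n
  simp only [Pi.mul_apply, WittVector.ghostMap_apply, WittVector.ghostComponent_teichmuller,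
    ghost_g]

theorem aux2 {σ : Type*} (γ : MvPolynomial σ ℤ) (x : WittVector p (MvPolynomial σ ℤ)) :
    x * WittVector.teichmuller p γ = g γ x := by
  apply WittVector.map_injective (MvPolynomial.map (Int.castRingHom ℚ))
    (MvPolynomial.map_injective _ Int.cast_injective)
  rw [map_mul, WittVector.map_teichmuller, map_g, aux1]

theorem mul_teichmuller {R : Type*} [CommRing R] (γ : R) (x : WittVector p R) :
    x * WittVector.teichmuller p γ = g γ x := by
  obtain ⟨γ', rfl⟩ := MvPolynomial.counit_surjective R γ
  obtain ⟨x', rfl⟩ := WittVector.map_surjective _ (MvPolynomial.counit_surjective R) x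
  rw [← WittVector.map_teichmuller, ← map_mul, aux2, map_g]

/-- The coordinates of `x * [γ]`, over any commutative ring. -/
theorem mul_teichmuller_coeff {R : Type*} [CommRing R] (γ : R) (x : WittVector p R) (i : ℕ) :
    (x * WittVector.teichmuller p γ).coeff i = x.coeff i * γ ^ (p ^ i) := by
  rw [mul_teichmuller, g_coeff]

end H9TM
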