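import Mathlib

set_option autoImplicit false

/-! Helper library (helper9): Witt vectors over weakly ℓ-cyclic extensions in characteristic p.
Used for S18587 / S18588. -/

namespace H9Witt

universe u

variable {p : ℕ} [hp : Fact p.Prime]

theorem exists_eq_teich_add_V {R : Type*} [CommRing R] (x : WittVector p R) :
    ∃ y : WittVector p R, x = WittVector.teichmuller p (x.coeff 0) + WittVector.verschiebung y := by
  have h0 : ∀ i < 1, (x - WittVector.teichmuller p (x.coeff 0)).coeff i = 0 := by
    intro i hi
    have hi0 : i = 0 := by omega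
    subst hi0
    have h1 : (x - WittVector.teichmuller p (x.coeff 0)).coeff 0
        = WittVector.constantCoeff (x - WittVector.teichmuller p (x.coeff 0)) := rfl
    rw [h1, map_sub]
    show x.coeff 0 - (WittVector.teichmuller p (x.coeff 0)).coeff 0 = 0
    rw [WittVector.teichmuller_coeff_zero, sub_self]
  have h2 := WittVector.eq_iterate_verschiebung h0
  rw [Function.iterate_one] at h2
  refine ⟨(x - WittVector.teichmuller p (x.coeff 0)).shift 1, ?_⟩
  rw [← h2]
  abel

theorem coeff_teich_add_V_zero {R : Type*} [CommRing R] (t : R) (z : WittVector p R) :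
    (WittVector.teichmuller p t + WittVector.verschiebung z).coeff 0 = t := by
  rw [WittVector.add_coeff_zero, WittVector.teichmuller_coeff_zero,
    WittVector.verschiebung_coeff_zero, add_zero]

theorem coeff_teich_add_V_succ {R : Type*} [CommRing R] (t : R) (z : WittVector p R) (i : ℕ) :
    (WittVector.teichmuller p t + WittVector.verschiebung z).coeff (i + 1) = z.coeff i := by
  rw [WittVector.coeff_add_of_disjoint, WittVector.teichmuller_coeff_pos p t (i + 1) (Nat.succ_pos i),
    zero_add, WittVector.verschiebung_coeff_succ]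
  intro n
  rcases Nat.eq_zero_or_pos n with h | h
  · right
    rw [h, WittVector.verschiebung_coeff_zero]
  · left
    exact WittVector.teichmuller_coeff_pos p t n h

theorem frobenius_teich {R : Type*} [CommRing R] [CharP R p] (t : R) :
    WittVector.frobenius (WittVector.teichmuller p t) = WittVector.teichmuller p (t ^ p) := by
  rw [WittVector.frobenius_eq_map_frobenius, WittVector.map_teichmuller, frobenius_def]

theorem iterate_frobenius_teich {R : Type*} [CommRing R] [CharP R p] (n : ℕ) (t : R) :
    (⇑(WittVector.frobenius : WittVector p R →+* WittVector p R))^[n] (WittVector.teichmuller p t)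
      = WittVector.teichmuller p (t ^ (p ^ n)) := by
  induction n with
  | zero => rw [Function.iterate_zero, id, pow_zero, pow_one]
  | succ n ih =>
    rw [Function.iterate_succ_apply', ih, frobenius_teich, ← pow_mul, ← pow_succ]

theorem mul_teich_coeff {R : Type*} [CommRing R] [CharP R p] :
    ∀ (i : ℕ) (x : WittVector p R) (γ : R),
      (x * WittVector.teichmuller p γ).coeff i = x.coeff i * γ ^ (p ^ i) := by
  intro i
  induction i with
  | zero =>
    intro x γ
    rw [WittVector.mul_coeff_zero, WittVector.teichmuller_coeff_zero, pow_zero, pow_one]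
  | succ i ih =>
    intro x γ
    obtain ⟨y, hy⟩ := exists_eq_teich_add_V x
    have hx1 : x.coeff (i + 1) = y.coeff i := by
      conv_lhs => rw [hy]
      exact coeff_teich_add_V_succ _ _ _
    have hmul : x * WittVector.teichmuller p γ
        = WittVector.teichmuller p (x.coeff 0 * γ)
          + WittVector.verschiebung (y * WittVector.teichmuller p (γ ^ p)) := by
      conv_lhs => rw [hy]
      rw [add_mul, ← (WittVector.teichmuller p).map_mul, ← frobenius_teich,
        WittVector.verschiebung_mul_frobenius]
    rw [hmul, coeff_teich_add_V_succ, ih, hx1, ← pow_mul, pow_succ, mul_comm p (p ^ i)]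

theorem map_iterate_verschiebung {A B : Type*} [CommRing A] [CommRing B] (f : A →+* B) (n : ℕ)
    (x : WittVector p A) :
    WittVector.map f ((⇑(WittVector.verschiebung : WittVector p A →+ WittVector p A))^[n] x)
      = (⇑(WittVector.verschiebung : WittVector p B →+ WittVector p B))^[n] (WittVector.map f x) := by
  induction n with
  | zero => rfl
  | succ n ih =>
    rw [Function.iterate_succ_apply', Function.iterate_succ_apply', WittVector.map_verschiebung, ih]

theorem iterate_verschiebung_sum {R : Type*} [CommRing R] {ι : Type*} (s : Finset ι)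
    (g : ι → WittVector p R) (n : ℕ) :
    (⇑(WittVector.verschiebung : WittVector p R →+ WittVector p R))^[n] (∑ i ∈ s, g i)
      = ∑ i ∈ s, (⇑(WittVector.verschiebung : WittVector p R →+ WittVector p R))^[n] (g i) := by
  classical
  induction s using Finset.induction_on with
  | empty => simp only [Finset.sum_empty]; exact iterate_map_zero _ n
  | insert a s ha ih =>
    rw [Finset.sum_insert ha, Finset.sum_insert ha, iterate_map_add, ih]

/-- One-step algebraic identity behind the successive approximation. -/
theorem step_identity {A B : Type*} [CommRing A] [CommRing B] [CharP A p] [CharP B p] (f : A →+* B)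
    {M : Type*} [Fintype M] (μ : M → B) (u : Equiv.Perm M) (γ : M → A) (a : A)
    (hγ : ∀ m, f a ^ (p - 1) * μ (u m) = f (γ m) * μ m ^ p)
    (η θ : WittVector p B) (α0 : M → A) (X' : M → WittVector p A)
    (hη : η = ∑ m, WittVector.teichmuller p (f (α0 m) * μ m) + WittVector.verschiebung θ) :
    WittVector.teichmuller p (f a) * η
        - ∑ m, WittVector.map f (WittVector.teichmuller p (a * α0 m)
            + WittVector.verschiebung (X' (u m) * WittVector.teichmuller p (γ m)))
            * WittVector.teichmuller p (μ m)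
      = WittVector.verschiebung (WittVector.teichmuller p (f a) ^ (p - 1)
          * (WittVector.teichmuller p (f a) * θ
              - ∑ m, WittVector.map f (X' m) * WittVector.teichmuller p (μ m))) := by
  have e1 : ∀ m, WittVector.map f (WittVector.teichmuller p (a * α0 m)
            + WittVector.verschiebung (X' (u m) * WittVector.teichmuller p (γ m)))
            * WittVector.teichmuller p (μ m)
        = WittVector.teichmuller p (f a) * WittVector.teichmuller p (f (α0 m) * μ m)
          + WittVector.verschiebung (WittVector.map f (X' (u m))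
              * (WittVector.teichmuller p (f a) ^ (p - 1) * WittVector.teichmuller p (μ (u m)))) := by
    intro m
    rw [(WittVector.map f).map_add, WittVector.map_teichmuller, WittVector.map_verschiebung,
      (WittVector.map f).map_mul, WittVector.map_teichmuller, add_mul, f.map_mul]
    congr 1
    · rw [← (WittVector.teichmuller p).map_mul, ← (WittVector.teichmuller p).map_mul, mul_assoc]
    · rw [← WittVector.verschiebung_mul_frobenius, frobenius_teich, mul_assoc]
      congr 2
      rw [← (WittVector.teichmuller p).map_mul, ← (WittVector.teichmuller p).map_pow,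
        ← (WittVector.teichmuller p).map_mul, hγ m]
  have e2 : WittVector.teichmuller p (f a) * WittVector.verschiebung θ
      = WittVector.verschiebung (WittVector.teichmuller p (f a) ^ (p - 1)
          * (WittVector.teichmuller p (f a) * θ)) := by
    rw [mul_comm, ← WittVector.verschiebung_mul_frobenius, frobenius_teich,
      (WittVector.teichmuller p).map_pow]
    congr 1
    have hpw : WittVector.teichmuller p (f a) ^ p
        = WittVector.teichmuller p (f a) ^ (p - 1) * WittVector.teichmuller p (f a) := by
      rw [← pow_succ]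
      congr 1
      have := hp.out.pos
      omega
    rw [hpw]
    ring
  have e3 : ∑ m, WittVector.map f (X' (u m))
              * (WittVector.teichmuller p (f a) ^ (p - 1) * WittVector.teichmuller p (μ (u m)))
      = WittVector.teichmuller p (f a) ^ (p - 1)
          * ∑ m, WittVector.map f (X' m) * WittVector.teichmuller p (μ m) := by
    rw [Finset.mul_sum,
      ← Equiv.sum_comp u (fun m => WittVector.teichmuller p (f a) ^ (p - 1)
          * (WittVector.map f (X' m) * WittVector.teichmuller p (μ m)))]
    apply Finset.sum_congr rfl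
    intro m _
    ring
  rw [Finset.sum_congr rfl (fun m _ => e1 m), Finset.sum_add_distrib, hη, mul_add, Finset.mul_sum,
    add_sub_add_left_eq_sub, e2, ← map_sum, e3, ← map_sub, mul_sub]

/-- Successive approximation: `[a] η` is a `W(A)`-combination of Teichmüller lifts of the `μ m`. -/
theorem approx {A B : Type*} [CommRing A] [CommRing B] [CharP A p] [CharP B p] (f : A →+* B)
    {M : Type*} [Fintype M] (μ : M → B) (u : Equiv.Perm M) (γ : M → A) (a : A)
    (hγ : ∀ m, f a ^ (p - 1) * μ (u m) = f (γ m) * μ m ^ p)
    (hspan : ∀ b : B, ∃ α : M → A, b = ∑ m, f (α m) * μ m)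
    (η : WittVector p B) :
    ∃ X : M → WittVector p A,
      WittVector.teichmuller p (f a) * η
        = ∑ m, WittVector.map f (X m) * WittVector.teichmuller p (μ m) := by
  classical
  choose α hα using hspan
  have hΘ : ∀ η : WittVector p B, ∃ θ : WittVector p B,
      η = ∑ m, WittVector.teichmuller p (f (α (η.coeff 0) m) * μ m)
          + WittVector.verschiebung θ := by
    intro η
    have h0 : ∀ i < 1, (η - ∑ m, WittVector.teichmuller p (f (α (η.coeff 0) m) * μ m)).coeff i
        = 0 := by
      intro i hi
      have hi0 : i = 0 := by omega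
      subst hi0
      have h1 : (η - ∑ m, WittVector.teichmuller p (f (α (η.coeff 0) m) * μ m)).coeff 0
          = WittVector.constantCoeff
              (η - ∑ m, WittVector.teichmuller p (f (α (η.coeff 0) m) * μ m)) := rfl
      rw [h1, map_sub, map_sum]
      have h2 : ∀ m, WittVector.constantCoeff
          (WittVector.teichmuller p (f (α (η.coeff 0) m) * μ m)) = f (α (η.coeff 0) m) * μ m :=
        fun m => WittVector.teichmuller_coeff_zero p _
      rw [Finset.sum_congr rfl (fun m _ => h2 m), ← hα (η.coeff 0)]
      exact sub_self _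
    have h2 := WittVector.eq_iterate_verschiebung h0
    rw [Function.iterate_one] at h2
    refine ⟨(η - ∑ m, WittVector.teichmuller p (f (α (η.coeff 0) m) * μ m)).shift 1, ?_⟩
    rw [← h2]
    abel
  choose Θ hΘ using hΘ
  obtain ⟨c, hc0, hcs⟩ : ∃ c : ℕ → WittVector p B → M → A,
      (∀ η m, c 0 η m = a * α (η.coeff 0) m) ∧
      (∀ i η m, c (i + 1) η m = c i (Θ η) (u m) * γ m ^ (p ^ i)) :=
    ⟨fun i => Nat.rec (fun η m => a * α (η.coeff 0) m)
      (fun i ih η m => ih (Θ η) (u m) * γ m ^ (p ^ i)) i, fun _ _ => rfl, fun _ _ _ => rfl⟩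
  obtain ⟨X, hX⟩ : ∃ X : WittVector p B → M → WittVector p A,
      X = fun η m => WittVector.mk p (fun i => c i η m) := ⟨_, rfl⟩
  have hXc : ∀ η m i, (X η m).coeff i = c i η m := by
    intro η m i
    rw [hX]
    rfl
  have hfix : ∀ η m, X η m = WittVector.teichmuller p (a * α (η.coeff 0) m)
      + WittVector.verschiebung (X (Θ η) (u m) * WittVector.teichmuller p (γ m)) := by
    intro η m
    ext i
    cases i with
    | zero => rw [hXc, hc0, coeff_teich_add_V_zero]
    | succ i => rw [hXc, hcs, coeff_teich_add_V_succ, mul_teich_coeff, hXc]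
  have hD : ∀ η, WittVector.teichmuller p (f a) * η
        - ∑ m, WittVector.map f (X η m) * WittVector.teichmuller p (μ m)
      = WittVector.verschiebung (WittVector.teichmuller p (f a) ^ (p - 1)
          * (WittVector.teichmuller p (f a) * Θ η
              - ∑ m, WittVector.map f (X (Θ η) m) * WittVector.teichmuller p (μ m))) := by
    intro η
    rw [← step_identity f μ u γ a hγ η (Θ η) (α (η.coeff 0)) (X (Θ η)) (hΘ η)]
    congr 1
    apply Finset.sum_congr rfl
    intro m _
    rw [← hfix η m]
  have hker : ∀ k : ℕ, ∀ η, WittVector.teichmuller p (f a) * η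
        - ∑ m, WittVector.map f (X η m) * WittVector.teichmuller p (μ m)
      ∈ RingHom.ker (WittVector.truncate k : WittVector p B →+* TruncatedWittVector p k B) := by
    intro k
    induction k with
    | zero =>
      intro η
      rw [WittVector.mem_ker_truncate]
      intro i hi
      omega
    | succ k ih =>
      intro η
      rw [hD η, WittVector.mem_ker_truncate]
      intro i hi
      cases i with
      | zero => exact WittVector.verschiebung_coeff_zero _
      | succ i =>
        rw [WittVector.verschiebung_coeff_succ]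
        have h3 := Ideal.mul_mem_left _ (WittVector.teichmuller p (f a) ^ (p - 1)) (ih (Θ η))
        rw [WittVector.mem_ker_truncate] at h3
        exact h3 i (by omega)
  refine ⟨X η, ?_⟩
  have h4 : WittVector.teichmuller p (f a) * η
        - ∑ m, WittVector.map f (X η m) * WittVector.teichmuller p (μ m) = 0 := by
    ext i
    rw [WittVector.zero_coeff]
    have h5 := hker (i + 1) η
    rw [WittVector.mem_ker_truncate] at h5
    exact h5 i (Nat.lt_succ_self i)
  exact sub_eq_zero.mp h4

theorem main_abstract {A B : Type*} [CommRing A] [CommRing B] [CharP A p] [CharP B p] (f : A →+* B)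
    (n : ℕ) {M : Type*} [Fintype M] (μ : M → B) (X : M → WittVector p A) (a b : A)
    (η : WittVector p B)
    (hη : WittVector.teichmuller p (f a) * η
      = ∑ m, WittVector.map f (X m) * WittVector.teichmuller p (μ m))
    (δ : M → A) (ν : M → B) (hδ : ∀ m, f b * μ m = f (δ m) * ν m ^ (p ^ n)) :
    WittVector.teichmuller p (f (a * b))
        * (⇑(WittVector.verschiebung : WittVector p B →+ WittVector p B))^[n] η
      ∈ Ideal.span (Set.range (fun x : WittVector p A =>
        WittVector.map f
          ((⇑(WittVector.verschiebung : WittVector p A →+ WittVector p A))^[n] x))) := by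
  have hN : 0 < p ^ n := pow_pos hp.out.pos n
  obtain ⟨c, hc⟩ : ∃ c : A, c = (a * b) ^ (p ^ n - 1) := ⟨_, rfl⟩
  have hpw : f (a * b) ^ (p ^ n) = f a * f b * f c := by
    rw [hc, ← f.map_mul, ← f.map_mul, ← f.map_pow, ← pow_succ']
    congr 2
    omega
  have h1 : η * WittVector.teichmuller p (f (a * b) ^ (p ^ n))
      = ∑ m, WittVector.map f (X m * WittVector.teichmuller p (δ m) * WittVector.teichmuller p c)
          * (⇑(WittVector.frobenius : WittVector p B →+* WittVector p B))^[n]
              (WittVector.teichmuller p (ν m)) := by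
    rw [hpw, (WittVector.teichmuller p).map_mul, (WittVector.teichmuller p).map_mul]
    have h3 : η * (WittVector.teichmuller p (f a) * WittVector.teichmuller p (f b)
          * WittVector.teichmuller p (f c))
        = (WittVector.teichmuller p (f a) * η)
          * (WittVector.teichmuller p (f b) * WittVector.teichmuller p (f c)) := by ring
    rw [h3, hη, Finset.sum_mul]
    apply Finset.sum_congr rfl
    intro m _
    rw [iterate_frobenius_teich, (WittVector.map f).map_mul, (WittVector.map f).map_mul,
      WittVector.map_teichmuller, WittVector.map_teichmuller]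
    have h2 : WittVector.teichmuller p (μ m) * WittVector.teichmuller p (f b)
        = WittVector.teichmuller p (f (δ m)) * WittVector.teichmuller p (ν m ^ (p ^ n)) := by
      rw [← (WittVector.teichmuller p).map_mul, ← (WittVector.teichmuller p).map_mul,
        mul_comm (μ m), hδ m]
    calc WittVector.map f (X m) * WittVector.teichmuller p (μ m)
          * (WittVector.teichmuller p (f b) * WittVector.teichmuller p (f c))
        = WittVector.map f (X m)
          * (WittVector.teichmuller p (μ m) * WittVector.teichmuller p (f b))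
          * WittVector.teichmuller p (f c) := by ring
      _ = _ := by rw [h2]; ring
  have key : WittVector.teichmuller p (f (a * b))
        * (⇑(WittVector.verschiebung : WittVector p B →+ WittVector p B))^[n] η
      = ∑ m, WittVector.map f
          ((⇑(WittVector.verschiebung : WittVector p A →+ WittVector p A))^[n]
            (X m * WittVector.teichmuller p (δ m) * WittVector.teichmuller p c))
          * WittVector.teichmuller p (ν m) := by
    rw [mul_comm, WittVector.iterate_verschiebung_mul_left, iterate_frobenius_teich, h1,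
      iterate_verschiebung_sum]
    apply Finset.sum_congr rfl
    intro m _
    rw [← WittVector.iterate_verschiebung_mul_left, map_iterate_verschiebung]
  rw [key]
  apply Ideal.sum_mem
  intro m _
  apply Ideal.mul_mem_right
  apply Ideal.subset_span
  exact ⟨_, rfl⟩

theorem exists_bdelta {A B : Type*} [CommRing A] [CommRing B] [IsDomain A] (f : A →+* B)
    (n ℓ : ℕ) (hℓ : 1 < ℓ) (hpℓ : Nat.Coprime p ℓ) {M : Type*} [Fintype M] (μ : M → B)
    (d : M → A) (hd0 : ∀ m, d m ≠ 0) (hd : ∀ m, μ m ^ ℓ = f (d m)) :
    ∃ (b : A) (δ : M → A) (ν : M → B), b ≠ 0 ∧ ∀ m, f b * μ m = f (δ m) * ν m ^ (p ^ n) := by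
  classical
  obtain ⟨w, -, hw⟩ := Nat.exists_mul_mod_eq_one_of_coprime (Nat.Coprime.pow_left n hpℓ) hℓ
  obtain ⟨N, hN⟩ : ∃ N, N = p ^ n := ⟨_, rfl⟩
  rw [← hN] at hw
  obtain ⟨v, hv⟩ : ∃ v, v = N * w / ℓ := ⟨_, rfl⟩
  have hdiv : w * N = ℓ * v + 1 := by
    have h1 := Nat.mod_add_div (N * w) ℓ
    rw [hw, ← hv] at h1
    rw [mul_comm w N, ← h1]
    ring
  refine ⟨∏ m, d m ^ v, fun m => ∏ m' ∈ Finset.univ.erase m, d m' ^ v, fun m => μ m ^ w, ?_, ?_⟩
  · exact Finset.prod_ne_zero_iff.mpr (fun m _ => pow_ne_zero v (hd0 m))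
  · intro m
    rw [← Finset.mul_prod_erase Finset.univ (fun m' => d m' ^ v) (Finset.mem_univ m),
      f.map_mul, f.map_pow, ← hd m, ← pow_mul, ← pow_mul, ← hN, hdiv, pow_succ]
    ring

theorem family {A B : Type u} [CommRing A] [CommRing B] [IsDomain A] [IsDomain B] [Algebra A B]
    (ℓ : ℕ) (hℓ : 2 ≤ ℓ) (hpℓ : Nat.Coprime p ℓ)
    (y : Finset B) (hy0 : ∀ b ∈ y, b ≠ 0) (hspan : Submodule.span A (y : Set B) = ⊤)
    (hpow : ∀ b ∈ y, b ^ ℓ ∈ Set.range (algebraMap A B)) :
    ∃ (M : Type u) (_ : Fintype M) (μ : M → B) (u : Equiv.Perm M) (γ : M → A) (a : A)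
      (d : M → A),
      a ≠ 0 ∧ (∀ m, d m ≠ 0) ∧ (∀ m, μ m ^ ℓ = algebraMap A B (d m)) ∧
      (∀ m, algebraMap A B a ^ (p - 1) * μ (u m) = algebraMap A B (γ m) * μ m ^ p) ∧
      (∀ b : B, ∃ α : M → A, b = ∑ m, algebraMap A B (α m) * μ m) := by
  classical
  have : NeZero ℓ := ⟨by omega⟩
  have hex : ∀ b : {x // x ∈ y}, ∃ c : A, algebraMap A B c = (b : B) ^ ℓ := fun b => hpow b.1 b.2
  choose ay hay using hex
  have hay0 : ∀ b, ay b ≠ 0 := by
    intro b h
    have h1 := hay b
    rw [h, map_zero] at h1
    exact hy0 b.1 b.2 ((pow_eq_zero_iff (by omega)).mp h1.symm)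
  have hpu : (p : ZMod ℓ) * (p : ZMod ℓ)⁻¹ = 1 := ZMod.coe_mul_inv_eq_one p hpℓ
  have hk : ∀ z : ZMod ℓ, p * z.val = ((p : ZMod ℓ) * z).val + ℓ * (p * z.val / ℓ) := by
    intro z
    rw [ZMod.val_mul, ZMod.val_natCast, Nat.mod_mul_mod]
    exact (Nat.mod_add_div _ _).symm
  have hkle : ∀ z : ZMod ℓ, p * z.val / ℓ ≤ p - 1 := by
    intro z
    have hv : z.val < ℓ := ZMod.val_lt _
    have h1 : p * z.val / ℓ < p := by
      rw [Nat.div_lt_iff_lt_mul (by omega)]
      exact Nat.mul_lt_mul_of_pos_left hv hp.out.pos
    omega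
  let u : Equiv.Perm ({x // x ∈ y} → ZMod ℓ) :=
    { toFun := fun e b => (p : ZMod ℓ) * e b
      invFun := fun e b => (p : ZMod ℓ)⁻¹ * e b
      left_inv := fun e => by
        funext b
        show (p : ZMod ℓ)⁻¹ * ((p : ZMod ℓ) * e b) = e b
        rw [← mul_assoc, mul_comm _ (p : ZMod ℓ), hpu, one_mul]
      right_inv := fun e => by
        funext b
        show (p : ZMod ℓ) * ((p : ZMod ℓ)⁻¹ * e b) = e b
        rw [← mul_assoc, hpu, one_mul] }
  have hu : ∀ (e : {x // x ∈ y} → ZMod ℓ) (b : {x // x ∈ y}), u e b = (p : ZMod ℓ) * e b :=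
    fun _ _ => rfl
  refine ⟨{x // x ∈ y} → ZMod ℓ, inferInstance,
    fun e : {x // x ∈ y} → ZMod ℓ => ∏ b : {x // x ∈ y}, (b : B) ^ (e b).val, u,
    fun e : {x // x ∈ y} → ZMod ℓ => ∏ b : {x // x ∈ y}, ay b ^ (p - 1 - p * (e b).val / ℓ),
    ∏ b : {x // x ∈ y}, ay b,
    fun e : {x // x ∈ y} → ZMod ℓ => ∏ b : {x // x ∈ y}, ay b ^ (e b).val, ?_, ?_, ?_, ?_, ?_⟩
  · exact Finset.prod_ne_zero_iff.mpr (fun b _ => hay0 b)
  · intro e
    exact Finset.prod_ne_zero_iff.mpr (fun b _ => pow_ne_zero _ (hay0 b))
  · intro e
    show (∏ b : {x // x ∈ y}, (b : B) ^ (e b).val) ^ ℓ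
      = algebraMap A B (∏ b : {x // x ∈ y}, ay b ^ (e b).val)
    rw [← Finset.prod_pow, map_prod]
    apply Finset.prod_congr rfl
    intro b _
    rw [map_pow, hay b, ← pow_mul, ← pow_mul, mul_comm]
  · intro e
    show algebraMap A B (∏ b : {x // x ∈ y}, ay b) ^ (p - 1)
        * ∏ b : {x // x ∈ y}, (b : B) ^ (u e b).val
      = algebraMap A B (∏ b : {x // x ∈ y}, ay b ^ (p - 1 - p * (e b).val / ℓ))
        * (∏ b : {x // x ∈ y}, (b : B) ^ (e b).val) ^ p
    simp only [hu]
    rw [map_prod, map_prod, ← Finset.prod_pow, ← Finset.prod_pow, ← Finset.prod_mul_distrib,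
      ← Finset.prod_mul_distrib]
    apply Finset.prod_congr rfl
    intro b _
    have h1 : ((b : B) ^ (e b).val) ^ p
        = (b : B) ^ ((p : ZMod ℓ) * e b).val * algebraMap A B (ay b) ^ (p * (e b).val / ℓ) := by
      rw [hay b, ← pow_mul, ← pow_mul, ← pow_add, mul_comm (e b).val p]
      congr 1
      exact hk (e b)
    have h2 : algebraMap A B (ay b) ^ (p - 1)
        = algebraMap A B (ay b) ^ (p - 1 - p * (e b).val / ℓ)
          * algebraMap A B (ay b) ^ (p * (e b).val / ℓ) := by
      rw [← pow_add]
      congr 1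
      have hq := hkle (e b)
      generalize p * (e b).val / ℓ = q at hq ⊢
      omega
    rw [h1, h2, map_pow]
    ring
  · intro b
    have hb : b ∈ Submodule.span A (y : Set B) := by rw [hspan]; exact Submodule.mem_top
    induction hb using Submodule.span_induction with
    | mem x hx =>
      obtain ⟨e0, he0⟩ : ∃ e0 : {x // x ∈ y} → ZMod ℓ,
          e0 = fun b' : {x // x ∈ y} => if b' = ⟨x, hx⟩ then (1 : ZMod ℓ) else 0 := ⟨_, rfl⟩
      refine ⟨fun e' => if e' = e0 then 1 else 0, ?_⟩
      rw [Finset.sum_eq_single e0]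
      · show x = algebraMap A B (if e0 = e0 then 1 else 0)
          * ∏ b : {x // x ∈ y}, (b : B) ^ (e0 b).val
        rw [if_pos rfl, map_one, one_mul, Finset.prod_eq_single (⟨x, hx⟩ : {x // x ∈ y})]
        · rw [he0]
          show x = x ^ (if (⟨x, hx⟩ : {x // x ∈ y}) = ⟨x, hx⟩ then (1 : ZMod ℓ) else 0).val
          rw [if_pos rfl, ZMod.val_one'' (by omega), pow_one]
        · intro b' _ hb'
          rw [he0]
          show (b' : B) ^ (if b' = ⟨x, hx⟩ then (1 : ZMod ℓ) else 0).val = 1
          rw [if_neg hb', ZMod.val_zero, pow_zero]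
        · intro h
          exact absurd (Finset.mem_univ _) h
      · intro e _ he
        show algebraMap A B (if e = e0 then 1 else 0) * _ = 0
        rw [if_neg he, map_zero, zero_mul]
      · intro h
        exact absurd (Finset.mem_univ _) h
    | zero =>
      refine ⟨fun _ => 0, ?_⟩
      simp only [map_zero, zero_mul, Finset.sum_const_zero]
    | add x1 x2 _ _ h1 h2 =>
      obtain ⟨α1, h1⟩ := h1
      obtain ⟨α2, h2⟩ := h2
      refine ⟨fun m => α1 m + α2 m, ?_⟩
      rw [h1, h2, ← Finset.sum_add_distrib]
      apply Finset.sum_congr rfl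
      intro m _
      rw [map_add, add_mul]
    | smul c x _ h1 =>
      obtain ⟨α1, h1⟩ := h1
      refine ⟨fun m => c * α1 m, ?_⟩
      rw [h1, Finset.smul_sum]
      apply Finset.sum_congr rfl
      intro m _
      rw [map_mul, Algebra.smul_def, mul_assoc]

theorem main87 (p : ℕ) [Fact p.Prime] (ℓ n : ℕ) (hℓ : 0 < ℓ) (hpℓ : ¬ p ∣ ℓ)
    (A B : Type u) [CommRing A] [CommRing B] [IsDomain A] [IsDomain B] [Algebra A B]
    [CharP A p] [CharP B p]
    (y : Finset B) (hspan : Submodule.span A (y : Set B) = ⊤)
    (hpow : ∀ b ∈ y, b ^ ℓ ∈ Set.range (algebraMap A B))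
    (ζ : WittVector p B)
    (hζ : ∃ η : WittVector p B,
      (⇑(WittVector.verschiebung : WittVector p B →+ WittVector p B))^[n] η = ζ) :
    ∃ a : A, a ≠ 0 ∧ WittVector.teichmuller p (algebraMap A B a) * ζ ∈
      Ideal.span (Set.range (fun x : WittVector p A =>
        WittVector.map (algebraMap A B)
          ((⇑(WittVector.verschiebung : WittVector p A →+ WittVector p A))^[n] x))) := by
  classical
  obtain ⟨η, rfl⟩ := hζ
  have hppos : 0 < p := (Fact.out : p.Prime).pos
  have hcop : Nat.Coprime p (ℓ * (p + 1)) := by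
    apply Nat.Coprime.mul_right
    · exact (Nat.Prime.coprime_iff_not_dvd (Fact.out)).mpr hpℓ
    · simp
  have hℓ2 : 2 ≤ ℓ * (p + 1) := by nlinarith
  have hspan' : Submodule.span A ((y.filter (fun b => b ≠ 0) : Finset B) : Set B) = ⊤ := by
    rw [eq_top_iff, ← hspan]
    apply Submodule.span_le.mpr
    intro b hb
    by_cases hb0 : b = 0
    · rw [hb0]
      exact Submodule.zero_mem _
    · apply Submodule.subset_span
      exact Finset.mem_coe.mpr (Finset.mem_filter.mpr ⟨Finset.mem_coe.mp hb, hb0⟩)
  have hpow' : ∀ b ∈ y.filter (fun b => b ≠ 0),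
      b ^ (ℓ * (p + 1)) ∈ Set.range (algebraMap A B) := by
    intro b hb
    obtain ⟨c, hc⟩ := hpow b (Finset.mem_filter.mp hb).1
    exact ⟨c ^ (p + 1), by rw [map_pow, hc, pow_mul]⟩
  obtain ⟨M, instM, μ, u, γ, a, d, ha0, hd0, hd, hγ, hsp⟩ :=
    family (p := p) (A := A) (B := B) (ℓ * (p + 1)) hℓ2 hcop (y.filter (fun b => b ≠ 0))
      (fun b hb => (Finset.mem_filter.mp hb).2) hspan' hpow'
  obtain ⟨X, hX⟩ := approx (algebraMap A B) μ u γ a hγ hsp η
  obtain ⟨b, δ, ν, hb0, hδ⟩ := exists_bdelta (p := p) (algebraMap A B) n (ℓ * (p + 1))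
    (by omega) hcop μ d hd0 hd
  exact ⟨a * b, mul_ne_zero ha0 hb0, main_abstract (algebraMap A B) n μ X a b η hX δ ν hδ⟩

theorem main88 (p : ℕ) [Fact p.Prime] (ℓ n : ℕ) (hℓ : 0 < ℓ) (hpℓ : ¬ p ∣ ℓ)
    (A B : Type u) [CommRing A] [CommRing B] [IsDomain A] [IsDomain B] [Algebra A B]
    [CharP A p] [CharP B p]
    (y : Finset B) (hspan : Submodule.span A (y : Set B) = ⊤)
    (hpow : ∀ b ∈ y, b ^ ℓ ∈ Set.range (algebraMap A B))
    (M : Type*) [AddCommGroup M] [Module (WittVector p A) M]
    (hMn : ∀ (x : WittVector p A) (m : M),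
      ((⇑(WittVector.verschiebung : WittVector p A →+ WittVector p A))^[n] x) • m = 0)
    (htf : ∀ a : A, a ≠ 0 → ∀ m : M, WittVector.teichmuller p a • m = 0 → m = 0)
    (ψ : WittVector p B →+ M)
    (hψ : ∀ (x : WittVector p A) (w : WittVector p B),
      ψ (WittVector.map (algebraMap A B) x * w) = x • ψ w)
    (η : WittVector p B) :
    ψ ((⇑(WittVector.verschiebung : WittVector p B →+ WittVector p B))^[n] η) = 0 := by
  obtain ⟨a, ha0, hmem⟩ := main87 p ℓ n hℓ hpℓ A B y hspan hpow _ ⟨η, rfl⟩
  have hI : ∀ z ∈ Ideal.span (Set.range (fun x : WittVector p A =>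
        WittVector.map (algebraMap A B)
          ((⇑(WittVector.verschiebung : WittVector p A →+ WittVector p A))^[n] x))),
      ∀ c : WittVector p B, ψ (c * z) = 0 := by
    intro z hz
    induction hz using Submodule.span_induction with
    | mem z hz =>
      obtain ⟨x, rfl⟩ := hz
      intro c
      show ψ (c * WittVector.map (algebraMap A B)
          ((⇑(WittVector.verschiebung : WittVector p A →+ WittVector p A))^[n] x)) = 0
      rw [mul_comm, hψ, hMn]
    | zero =>
      intro c
      rw [mul_zero, map_zero]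
    | add z1 z2 _ _ h1 h2 =>
      intro c
      rw [mul_add, map_add, h1 c, h2 c, add_zero]
    | smul c' z _ h1 =>
      intro c
      rw [smul_eq_mul, ← mul_assoc]
      exact h1 (c * c')
  have h1 := hI _ hmem 1
  rw [one_mul, ← WittVector.map_teichmuller, hψ] at h1
  exact htf a ha0 _ h1

end H9Witt
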