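import Mathlib
import Groth.Prelude.Def_W4c6katofiltaWFil
import Groth.Agent.Lib.helper9.WittSpan

set_option autoImplicit false

/-! Helper library (helper9): filtered pieces of truncated Witt vectors (S19263, S19265). -/

namespace H9WF

universe u

variable {p : ℕ} [hp : Fact p.Prime]

/-- The first `m` coordinates lie in the range of `f`. -/
def InR {A B : Type*} [CommRing A] [CommRing B] (f : A →+* B) (m : ℕ) (z : WittVector p B) :
    Prop :=
  ∀ j < m, z.coeff j ∈ f.range

theorem inR_iff {A B : Type*} [CommRing A] [CommRing B] (f : A →+* B) (m : ℕ)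
    (z : WittVector p B) :
    InR f m z ↔ ∃ z' : WittVector p A,
      WittVector.truncate m z = WittVector.truncate m (WittVector.map f z') := by
  constructor
  · intro h
    have h' : ∀ j : ℕ, ∃ a : A, j < m → f a = z.coeff j := by
      intro j
      by_cases hj : j < m
      · obtain ⟨a, ha⟩ := h j hj
        exact ⟨a, fun _ => ha⟩
      · exact ⟨0, fun h => absurd h hj⟩
    choose g hg using h'
    refine ⟨WittVector.mk p g, ?_⟩
    apply TruncatedWittVector.ext
    intro i
    rw [WittVector.coeff_truncate, WittVector.coeff_truncate, WittVector.map_coeff,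
      WittVector.coeff_mk, hg i.1 i.2]
  · rintro ⟨z', hz'⟩ j hj
    have h1 := congrArg (TruncatedWittVector.coeff (⟨j, hj⟩ : Fin m)) hz'
    rw [WittVector.coeff_truncate, WittVector.coeff_truncate, WittVector.map_coeff] at h1
    exact ⟨z'.coeff j, h1.symm⟩

theorem inR_sub {A B : Type*} [CommRing A] [CommRing B] (f : A →+* B) (m : ℕ)
    (z w : WittVector p B) (hz : InR f m z) (hw : InR f m w) : InR f m (z - w) := by
  rw [inR_iff] at hz hw ⊢
  obtain ⟨z', hz'⟩ := hz
  obtain ⟨w', hw'⟩ := hw
  exact ⟨z' - w', by rw [map_sub, hz', hw', map_sub (WittVector.map f), map_sub]⟩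

theorem inR_mul {A B : Type*} [CommRing A] [CommRing B] (f : A →+* B) (m : ℕ)
    (z w : WittVector p B) (hz : InR f m z) (hw : InR f m w) : InR f m (z * w) := by
  rw [inR_iff] at hz hw ⊢
  obtain ⟨z', hz'⟩ := hz
  obtain ⟨w', hw'⟩ := hw
  exact ⟨z' * w', by rw [map_mul, hz', hw', map_mul (WittVector.map f), map_mul]⟩

theorem coeff_twist {B : Type*} [CommRing B] [CharP B p] (N : ℕ) (c : B) (x : WittVector p B)
    (j : ℕ) :
    (WittVector.map (iterateFrobenius B p N) x * WittVector.teichmuller p c).coeff j
      = x.coeff j ^ (p ^ N) * c ^ (p ^ j) := by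
  rw [H9Witt.mul_teich_coeff, WittVector.map_coeff, iterateFrobenius_def]

theorem mem_fil_iff {A B : Type*} [CommRing A] [CommRing B] [Algebra A B] [CharP B p]
    (hclosed : ∀ (y : B) (k : ℕ), y ^ (p ^ k) ∈ (algebraMap A B).range →
      y ∈ (algebraMap A B).range)
    (m : ℕ) (c : B) (x : WittVector p B) :
    WittVector.truncate m x ∈ WittFil.fil p m (A := A) c ↔
      InR (algebraMap A B) m
        (WittVector.map (iterateFrobenius B p (m - 1)) x * WittVector.teichmuller p c) := by
  have key : ∀ j < m, (x.coeff j ^ (p ^ (m - 1 - j)) * c) ^ (p ^ j)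
      = x.coeff j ^ (p ^ (m - 1)) * c ^ (p ^ j) := by
    intro j hj
    rw [mul_pow, ← pow_mul, ← pow_add]
    congr 3
    omega
  constructor
  · intro h j hj
    rw [coeff_twist, ← key j hj]
    have h1 := h ⟨j, hj⟩
    rw [WittVector.coeff_truncate] at h1
    exact Subring.pow_mem _ h1 _
  · intro h j
    rw [WittVector.coeff_truncate]
    apply hclosed _ j.1
    rw [key j.1 j.2, ← coeff_twist]
    exact h j.1 j.2

theorem closed_of_away {A B : Type*} [CommRing A] [IsDomain A] [IsIntegrallyClosed A]
    [CommRing B] [Algebra A B] (π : A) (hπ : π ≠ 0) [IsLocalization.Away π B] (y : B) (k : ℕ)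
    (hk : 0 < k) (hy : y ^ k ∈ (algebraMap A B).range) : y ∈ (algebraMap A B).range := by
  obtain ⟨a₀, ha₀⟩ := hy
  obtain ⟨⟨a', s⟩, hs⟩ := IsLocalization.surj (Submonoid.powers π) y
  have hinj : Function.Injective (algebraMap A B) :=
    IsLocalization.injective B (powers_le_nonZeroDivisors_of_noZeroDivisors hπ)
  have hs0 : (s : A) ≠ 0 := by
    obtain ⟨e, he⟩ := s.2
    rw [← he]
    exact pow_ne_zero e hπ
  have h1 : a₀ * (s : A) ^ k = a' ^ k := by
    apply hinj
    rw [map_mul, map_pow, map_pow, ha₀, ← hs, mul_pow]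
  have hsK : algebraMap A (FractionRing A) (s : A) ≠ 0 := by
    intro h
    apply hs0
    exact IsFractionRing.injective A (FractionRing A) (by rw [h, map_zero])
  have h2 : (algebraMap A (FractionRing A) a' / algebraMap A (FractionRing A) (s : A)) ^ k
      = algebraMap A (FractionRing A) a₀ := by
    rw [div_pow, ← map_pow, ← map_pow, ← h1, map_mul, map_pow]
    field_simp
  obtain ⟨t, ht⟩ := IsIntegrallyClosed.exists_algebraMap_eq_of_isIntegral_pow
    (R := A) (K := FractionRing A) hk (by rw [h2]; exact isIntegral_algebraMap)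
  have h3 : a' = t * (s : A) := by
    apply IsFractionRing.injective A (FractionRing A)
    rw [map_mul, ht]
    field_simp
  refine ⟨t, ?_⟩
  have hunit : IsUnit (algebraMap A B (s : A)) := IsLocalization.map_units B s
  apply hunit.mul_left_inj.mp
  rw [hs, h3, map_mul]

theorem zmon_add {B : Type*} [CommRing B] {r : ℕ} (u : Fin r → Bˣ) (n n' : Fin r → ℤ) :
    WittFil.zmon u (n + n') = WittFil.zmon u n * WittFil.zmon u n' := by
  unfold WittFil.zmon
  rw [← Units.val_mul, ← Finset.prod_mul_distrib]
  congr 2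
  funext i
  rw [Pi.add_apply, zpow_add]

section concrete

variable {A B : Type u} [CommRing A] [IsDomain A] [UniqueFactorizationMonoid A] [CharP A p]
  [CommRing B] [Algebra A B] {r : ℕ} (x : Fin r → A) (hx : ∀ i, Prime (x i))
  [IsLocalization.Away (∏ i, x i) B]

include hx in
theorem prod_ne_zero : (∏ i, x i) ≠ 0 :=
  Finset.prod_ne_zero_iff.mpr (fun i _ => (hx i).ne_zero)

include hx in
theorem charP_B : CharP B p :=
  charP_of_injective_algebraMap (IsLocalization.injective B
    (powers_le_nonZeroDivisors_of_noZeroDivisors (prod_ne_zero x hx))) p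

include hx in
theorem hclosed (y : B) (k : ℕ) (hy : y ^ (p ^ k) ∈ (algebraMap A B).range) :
    y ∈ (algebraMap A B).range :=
  closed_of_away (∏ i, x i) (prod_ne_zero x hx) y (p ^ k) (pow_pos hp.out.pos k) hy

include hx in
theorem main63 (c : B) (m : ℕ) (a b : TruncatedWittVector p m B)
    (ha : a ∈ WittFil.fil p m (A := A) c) (hb : b ∈ WittFil.fil p m (A := A) c) :
    a - b ∈ WittFil.fil p m (A := A) c := by
  haveI : CharP B p := charP_B (p := p) x hx
  obtain ⟨a', rfl⟩ := WittVector.truncate_surjective p m B a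
  obtain ⟨b', rfl⟩ := WittVector.truncate_surjective p m B b
  rw [← map_sub]
  rw [mem_fil_iff (hclosed (p := p) x hx)] at ha hb ⊢
  rw [map_sub, sub_mul]
  exact inR_sub _ _ _ _ ha hb

include hx in
theorem main65 (c c' : B) (m : ℕ) (a b : TruncatedWittVector p m B)
    (ha : a ∈ WittFil.fil p m (A := A) c) (hb : b ∈ WittFil.fil p m (A := A) c') :
    a * b ∈ WittFil.fil p m (A := A) (c * c') := by
  haveI : CharP B p := charP_B (p := p) x hx
  obtain ⟨a', rfl⟩ := WittVector.truncate_surjective p m B a
  obtain ⟨b', rfl⟩ := WittVector.truncate_surjective p m B b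
  rw [← map_mul]
  rw [mem_fil_iff (hclosed (p := p) x hx)] at ha hb ⊢
  have h1 : WittVector.map (iterateFrobenius B p (m - 1)) (a' * b')
        * WittVector.teichmuller p (c * c')
      = (WittVector.map (iterateFrobenius B p (m - 1)) a' * WittVector.teichmuller p c)
        * (WittVector.map (iterateFrobenius B p (m - 1)) b' * WittVector.teichmuller p c') := by
    rw [map_mul, (WittVector.teichmuller p).map_mul]
    ring
  rw [h1]
  exact inR_mul _ _ _ _ ha hb

end concrete

end H9WF
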