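import Mathlib
import Groth.Prelude.Def_W4c6katofiltaWFil
import Groth.Agent.Lib.helper9.WittFilLib

set_option autoImplicit false
set_option linter.unusedSectionVars false
set_option linter.style.haveILetI false

/-! Helper library (helper9): graded pieces of the filtration on truncated Witt vectors of
`S((X))` (S19268). -/

namespace H9PS

variable {p : ℕ} [hp : Fact p.Prime]

section witt

variable {R : Type*} [CommRing R]

theorem iterV_coeff (s : ℕ) (x : WittVector p R) (j : ℕ) :
    ((⇑(WittVector.verschiebung : WittVector p R →+ WittVector p R))^[s] x).coeff j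
      = if j < s then 0 else x.coeff (j - s) := by
  induction s generalizing j with
  | zero => simp
  | succ s ih =>
    rw [Function.iterate_succ_apply']
    cases j with
    | zero => rw [WittVector.verschiebung_coeff_zero]; simp
    | succ j =>
      rw [WittVector.verschiebung_coeff_succ, ih]
      by_cases h : j < s
      · rw [if_pos h, if_pos (by omega)]
      · rw [if_neg h, if_neg (by omega)]
        congr 1
        omega

theorem iterV_teich_coeff (j : ℕ) (x : R) (k : ℕ) :
    ((⇑(WittVector.verschiebung : WittVector p R →+ WittVector p R))^[j]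
      (WittVector.teichmuller p x)).coeff k = if k = j then x else 0 := by
  rw [iterV_coeff]
  by_cases h : k < j
  · rw [if_pos h, if_neg (by omega)]
  · rw [if_neg h]
    by_cases h2 : k = j
    · rw [if_pos h2, h2, Nat.sub_self, WittVector.teichmuller_coeff_zero]
    · rw [if_neg h2, WittVector.teichmuller_coeff_pos p x (k - j) (by omega)]

theorem sum_iterV_teich_coeff (t : ℕ → R) (m k : ℕ) :
    (∑ j ∈ Finset.range m, (⇑(WittVector.verschiebung : WittVector p R →+ WittVector p R))^[j]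
      (WittVector.teichmuller p (t j))).coeff k = if k < m then t k else 0 := by
  induction m generalizing k with
  | zero => simp
  | succ m ih =>
    rw [Finset.sum_range_succ, WittVector.coeff_add_of_disjoint, ih, iterV_teich_coeff]
    · by_cases h1 : k < m
      · rw [if_pos h1, if_neg (by omega), if_pos (by omega), add_zero]
      · rw [if_neg h1]
        by_cases h2 : k = m
        · rw [if_pos h2, if_pos (by omega), zero_add, h2]
        · rw [if_neg h2, if_neg (by omega), add_zero]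
    · intro n
      rw [ih, iterV_teich_coeff]
      by_cases h1 : n < m
      · right; rw [if_neg (by omega)]
      · left; rw [if_neg h1]

theorem truncate_eq_of_coeff {m : ℕ} (x y : WittVector p R)
    (h : ∀ j < m, x.coeff j = y.coeff j) :
    WittVector.truncate m x = WittVector.truncate m y := by
  apply TruncatedWittVector.ext
  intro j
  rw [WittVector.coeff_truncate, WittVector.coeff_truncate]
  exact h j.1 j.2

theorem truncate_eq_sum (m : ℕ) (x : WittVector p R) :
    WittVector.truncate m x = WittVector.truncate m (∑ j ∈ Finset.range m,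
      (⇑(WittVector.verschiebung : WittVector p R →+ WittVector p R))^[j]
      (WittVector.teichmuller p (x.coeff j))) := by
  apply truncate_eq_of_coeff
  intro j hj
  rw [sum_iterV_teich_coeff, if_pos hj]

end witt

section gen

variable {A B : Type*} [CommRing A] [CommRing B] [Algebra A B]

theorem zero_mem_fil (m : ℕ) (c : B) :
    (0 : TruncatedWittVector p m B) ∈ WittFil.fil p m (A := A) c := by
  intro j
  rw [TruncatedWittVector.coeff_zero, zero_pow (pow_ne_zero _ hp.out.ne_zero), zero_mul]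
  exact ⟨0, map_zero _⟩

theorem sub_mem_fil [CharP B p]
    (hclosed : ∀ (y : B) (k : ℕ), y ^ (p ^ k) ∈ (algebraMap A B).range →
      y ∈ (algebraMap A B).range)
    (c : B) (m : ℕ) (a b : TruncatedWittVector p m B)
    (ha : a ∈ WittFil.fil p m (A := A) c) (hb : b ∈ WittFil.fil p m (A := A) c) :
    a - b ∈ WittFil.fil p m (A := A) c := by
  obtain ⟨a', rfl⟩ := WittVector.truncate_surjective p m B a
  obtain ⟨b', rfl⟩ := WittVector.truncate_surjective p m B b
  rw [← map_sub]
  rw [H9WF.mem_fil_iff hclosed] at ha hb ⊢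
  rw [map_sub, sub_mul]
  exact H9WF.inR_sub _ _ _ _ ha hb

theorem add_mem_fil [CharP B p]
    (hclosed : ∀ (y : B) (k : ℕ), y ^ (p ^ k) ∈ (algebraMap A B).range →
      y ∈ (algebraMap A B).range)
    (c : B) (m : ℕ) (a b : TruncatedWittVector p m B)
    (ha : a ∈ WittFil.fil p m (A := A) c) (hb : b ∈ WittFil.fil p m (A := A) c) :
    a + b ∈ WittFil.fil p m (A := A) c := by
  have h0 := sub_mem_fil hclosed c m 0 b (zero_mem_fil m c) hb
  have h1 := sub_mem_fil hclosed c m a (0 - b) ha h0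
  rwa [zero_sub, sub_neg_eq_add] at h1

theorem sum_mem_fil [CharP B p]
    (hclosed : ∀ (y : B) (k : ℕ), y ^ (p ^ k) ∈ (algebraMap A B).range →
      y ∈ (algebraMap A B).range)
    (c : B) (m : ℕ) {ι : Type*} (s : Finset ι) (f : ι → TruncatedWittVector p m B)
    (h : ∀ i ∈ s, f i ∈ WittFil.fil p m (A := A) c) :
    ∑ i ∈ s, f i ∈ WittFil.fil p m (A := A) c :=
  Finset.sum_induction f (fun x => x ∈ WittFil.fil p m (A := A) c)
    (fun a b ha hb => add_mem_fil hclosed c m a b ha hb) (zero_mem_fil m c) h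

end gen

section concrete

variable {S B : Type*} [CommRing S] [IsDomain S] [CommRing B]
  [Algebra (PowerSeries S) B] [Algebra S B] [IsScalarTower S (PowerSeries S) B]
  [IsLocalization.Away (PowerSeries.X : PowerSeries S) B]

theorem hC (a : S) : algebraMap S (PowerSeries S) a = PowerSeries.C a := by
  rw [PowerSeries.algebraMap_apply]; rfl

theorem inj : Function.Injective (algebraMap (PowerSeries S) B) :=
  IsLocalization.injective B
    (powers_le_nonZeroDivisors_of_noZeroDivisors (PowerSeries.X_ne_zero (R := S)))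

theorem charP_B [CharP S p] : CharP B p := by
  haveI : CharP (PowerSeries S) p :=
    charP_of_injective_algebraMap (R := S) (A := PowerSeries S)
      (fun a b h => by rw [hC, hC] at h; exact PowerSeries.C_injective h) p
  exact charP_of_injective_algebraMap (inj (S := S) (B := B)) p

theorem uz_mul (u : Bˣ) (a b : ℤ) :
    ((u ^ a : Bˣ) : B) * ((u ^ b : Bˣ) : B) = ((u ^ (a + b) : Bˣ) : B) := by
  rw [← Units.val_mul, ← zpow_add]

theorem uz_pow (u : Bˣ) (a : ℤ) (N : ℕ) :
    ((u ^ a : Bˣ) : B) ^ N = ((u ^ (a * (N : ℤ)) : Bˣ) : B) := by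
  rw [← Units.val_pow_eq_pow_val, ← zpow_natCast, ← zpow_mul]

theorem uz_nat (u : Bˣ) (hu : (u : B) = algebraMap (PowerSeries S) B PowerSeries.X) (k : ℕ) :
    ((u ^ (k : ℤ) : Bˣ) : B) = algebraMap (PowerSeries S) B (PowerSeries.X ^ k) := by
  rw [zpow_natCast, Units.val_pow_eq_pow_val, hu, map_pow]

theorem key (u : Bˣ) (a : PowerSeries S) (r N : ℤ) (Q : ℕ) :
    (algebraMap (PowerSeries S) B a * ((u ^ r : Bˣ) : B)) ^ Q * ((u ^ N : Bˣ) : B)
      = algebraMap (PowerSeries S) B (a ^ Q) * ((u ^ (r * (Q : ℤ) + N) : Bˣ) : B) := by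
  rw [mul_pow, uz_pow, mul_assoc, uz_mul, map_pow]

theorem mem_of_nonneg (u : Bˣ) (hu : (u : B) = algebraMap (PowerSeries S) B PowerSeries.X)
    (a : PowerSeries S) (M : ℤ) (hM : 0 ≤ M) :
    algebraMap (PowerSeries S) B a * ((u ^ M : Bˣ) : B)
      ∈ (algebraMap (PowerSeries S) B).range := by
  obtain ⟨k, rfl⟩ := Int.eq_ofNat_of_zero_le hM
  rw [uz_nat u hu, ← map_mul]
  exact ⟨_, rfl⟩

theorem nonneg_of_mem (u : Bˣ) (hu : (u : B) = algebraMap (PowerSeries S) B PowerSeries.X)
    (a : PowerSeries S) (ha : PowerSeries.constantCoeff a ≠ 0) (M : ℤ)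
    (h : algebraMap (PowerSeries S) B a * ((u ^ M : Bˣ) : B)
      ∈ (algebraMap (PowerSeries S) B).range) : 0 ≤ M := by
  by_contra hneg
  push Not at hneg
  obtain ⟨b, hb⟩ := h
  obtain ⟨k, hk⟩ : ∃ k : ℕ, -M = ((k + 1 : ℕ) : ℤ) := ⟨(-M - 1).toNat, by omega⟩
  have h1 : algebraMap (PowerSeries S) B a
      = algebraMap (PowerSeries S) B (b * PowerSeries.X ^ (k + 1)) := by
    rw [map_mul, ← uz_nat u hu, ← hk, hb, mul_assoc, uz_mul, add_neg_cancel, zpow_zero,
      Units.val_one, mul_one]
  have h2 := inj (S := S) (B := B) h1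
  apply ha
  rw [h2, map_mul, map_pow, PowerSeries.constantCoeff_X, zero_pow (Nat.succ_ne_zero k), mul_zero]

theorem exists_repr (u : Bˣ) (hu : (u : B) = algebraMap (PowerSeries S) B PowerSeries.X) (y : B) :
    y = 0 ∨ ∃ (r : ℤ) (a : PowerSeries S),
      PowerSeries.constantCoeff a ≠ 0 ∧
        y = algebraMap (PowerSeries S) B a * ((u ^ r : Bˣ) : B) := by
  obtain ⟨⟨a₀, s⟩, hs⟩ := IsLocalization.surj (Submonoid.powers (PowerSeries.X : PowerSeries S)) y
  obtain ⟨d, hd⟩ := s.2
  have hd' : PowerSeries.X ^ d = (s : PowerSeries S) := hd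
  have hs' : y * ((u ^ (d : ℤ) : Bˣ) : B) = algebraMap (PowerSeries S) B a₀ := by
    rw [uz_nat u hu, hd']; exact hs
  have hy : y = algebraMap (PowerSeries S) B a₀ * ((u ^ (-(d : ℤ)) : Bˣ) : B) := by
    rw [← hs', mul_assoc, uz_mul, add_neg_cancel, zpow_zero, Units.val_one, mul_one]
  by_cases ha0 : a₀ = 0
  · left
    rw [hy, ha0, map_zero, zero_mul]
  · right
    refine ⟨(a₀.order.toNat : ℤ) + -(d : ℤ), PowerSeries.divXPowOrder a₀, ?_, ?_⟩
    · rw [Ne, PowerSeries.constantCoeff_divXPowOrder_eq_zero_iff]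
      exact ha0
    · have h1 : a₀ = PowerSeries.divXPowOrder a₀ * PowerSeries.X ^ a₀.order.toNat := by
        rw [mul_comm]; exact PowerSeries.X_pow_order_mul_divXPowOrder.symm
      rw [hy]
      nth_rewrite 1 [h1]
      rw [map_mul, ← uz_nat u hu, mul_assoc, uz_mul]

theorem hclosed' (u : Bˣ) (hu : (u : B) = algebraMap (PowerSeries S) B PowerSeries.X) (y : B)
    (k : ℕ) (h : y ^ (p ^ k) ∈ (algebraMap (PowerSeries S) B).range) :
    y ∈ (algebraMap (PowerSeries S) B).range := by
  rcases exists_repr u hu y with rfl | ⟨r, a, ha, rfl⟩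
  · exact ⟨0, map_zero _⟩
  · have h' : (algebraMap (PowerSeries S) B a * ((u ^ r : Bˣ) : B)) ^ (p ^ k)
        * ((u ^ (0 : ℤ) : Bˣ) : B) ∈ (algebraMap (PowerSeries S) B).range := by
      rw [zpow_zero, Units.val_one, mul_one]; exact h
    rw [key] at h'
    have h1 := nonneg_of_mem u hu _ (by rw [map_pow]; exact pow_ne_zero _ ha) _ h'
    have hpos : (0 : ℤ) < ((p ^ k : ℕ) : ℤ) := by exact_mod_cast pow_pos hp.out.pos k
    have h2 : 0 ≤ r := by
      by_contra hlt
      push Not at hlt
      have := mul_neg_of_neg_of_pos hlt hpos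
      linarith
    exact mem_of_nonneg u hu a r h2

theorem exists_w (u : Bˣ) (hu : (u : B) = algebraMap (PowerSeries S) B PowerSeries.X) (y : B)
    (e n : ℤ) (Q : ℕ) (hQ : 0 < Q) (hn : e * (Q : ℤ) = n)
    (h : y ^ Q * ((u ^ (-n) : Bˣ) : B) ∈ (algebraMap (PowerSeries S) B).range) :
    ∃ w : PowerSeries S, y = algebraMap (PowerSeries S) B w * ((u ^ e : Bˣ) : B) := by
  rcases exists_repr u hu y with rfl | ⟨r, a, ha, rfl⟩
  · exact ⟨0, by rw [map_zero, zero_mul]⟩
  · rw [key] at h
    have h1 := nonneg_of_mem u hu (a ^ Q) (by rw [map_pow]; exact pow_ne_zero _ ha) _ h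
    have hQ' : (0 : ℤ) < (Q : ℤ) := by exact_mod_cast hQ
    have h2 : 0 ≤ r - e := by
      by_contra hlt
      push Not at hlt
      have h3 : (r - e) * (Q : ℤ) < 0 := mul_neg_of_neg_of_pos hlt hQ'
      rw [sub_mul, hn] at h3
      linarith
    obtain ⟨k, hk⟩ := Int.eq_ofNat_of_zero_le h2
    refine ⟨a * PowerSeries.X ^ k, ?_⟩
    rw [map_mul, ← uz_nat u hu, ← hk, mul_assoc, uz_mul, show r - e + e = r by ring]

theorem mem_succ_of_not_dvd (u : Bˣ) (hu : (u : B) = algebraMap (PowerSeries S) B PowerSeries.X)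
    (y : B) (n : ℤ) (Q : ℕ) (hQ : 0 < Q) (hQn : ¬ ((Q : ℤ) ∣ n))
    (h : y ^ Q * ((u ^ (-n) : Bˣ) : B) ∈ (algebraMap (PowerSeries S) B).range) :
    y ^ Q * ((u ^ (-n - 1) : Bˣ) : B) ∈ (algebraMap (PowerSeries S) B).range := by
  rcases exists_repr u hu y with rfl | ⟨r, a, ha, rfl⟩
  · rw [zero_pow (by omega), zero_mul]
    exact ⟨0, map_zero _⟩
  · rw [key] at h ⊢
    have h1 := nonneg_of_mem u hu (a ^ Q) (by rw [map_pow]; exact pow_ne_zero _ ha) _ h
    have hne : r * (Q : ℤ) ≠ n := fun heq => hQn ⟨r, by rw [← heq]; ring⟩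
    have h2 : 0 ≤ r * (Q : ℤ) + (-n - 1) := by
      generalize r * (Q : ℤ) = z at h1 hne
      omega
    exact mem_of_nonneg u hu _ _ h2

theorem teich_sub_coeff (w : PowerSeries S) (l : ℕ) :
    PowerSeries.X ∣ (WittVector.teichmuller p w
      - WittVector.teichmuller p (PowerSeries.C (PowerSeries.constantCoeff w))).coeff l := by
  rw [PowerSeries.X_dvd_iff]
  have h : WittVector.map (PowerSeries.constantCoeff (R := S)) (WittVector.teichmuller p w
      - WittVector.teichmuller p (PowerSeries.C (PowerSeries.constantCoeff w))) = 0 := by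
    rw [map_sub, WittVector.map_teichmuller, WittVector.map_teichmuller,
      PowerSeries.constantCoeff_C, sub_self]
  have h2 := congrArg (fun z => z.coeff l) h
  simp only [WittVector.map_coeff, WittVector.zero_coeff] at h2
  exact h2

theorem vShiftTeich_coeff [CharP B p] (m s : ℕ) (v : B) (c : WittVector p S) (j : ℕ)
    (hj : j < m) :
    TruncatedWittVector.coeff ⟨j, hj⟩ (WittFil.vShiftTeich p m s v c)
      = if j < s then 0 else algebraMap S B (c.coeff (j - s)) * v ^ (p ^ (j - s)) := by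
  unfold WittFil.vShiftTeich
  rw [WittVector.coeff_truncate, iterV_coeff, H9Witt.mul_teich_coeff, WittVector.map_coeff]

theorem part1 [CharP S p] (u : Bˣ) (hu : (u : B) = algebraMap (PowerSeries S) B PowerSeries.X)
    (m s : ℕ) (hs : s < m) (i : ℤ) (c : WittVector p S) :
    WittFil.vShiftTeich p m s ((u ^ i : Bˣ) : B) c ∈
      WittFil.fil p m (A := PowerSeries S)
        ((u ^ (-((p : ℤ) ^ (m - 1 - s) * i)) : Bˣ) : B) := by
  haveI : CharP B p := charP_B (p := p) (S := S) (B := B)
  intro j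
  obtain ⟨j, hj⟩ := j
  rw [vShiftTeich_coeff]
  dsimp only
  by_cases hjs : j < s
  · rw [if_pos hjs, zero_pow (pow_ne_zero _ hp.out.ne_zero), zero_mul]
    exact ⟨0, map_zero _⟩
  · rw [if_neg hjs, IsScalarTower.algebraMap_apply S (PowerSeries S) B, uz_pow, key]
    have hexp : i * ((p ^ (j - s) : ℕ) : ℤ) * ((p ^ (m - 1 - j) : ℕ) : ℤ)
        + -((p : ℤ) ^ (m - 1 - s) * i) = 0 := by
      have hpow : (p : ℤ) ^ (m - 1 - s) = (p : ℤ) ^ (j - s) * (p : ℤ) ^ (m - 1 - j) := by
        rw [← pow_add]; congr 1; omega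
      push_cast
      linear_combination (-i) * hpow
    rw [hexp, zpow_zero, Units.val_one, mul_one]
    exact ⟨_, rfl⟩

theorem part2 [CharP S p] (u : Bˣ) (hu : (u : B) = algebraMap (PowerSeries S) B PowerSeries.X)
    (m s : ℕ) (hs : s < m) (i : ℤ) (c : WittVector p S) :
    WittFil.vShiftTeich p m s ((u ^ i : Bˣ) : B) c ∈
        WittFil.fil p m (A := PowerSeries S)
          ((u ^ (-((p : ℤ) ^ (m - 1 - s) * i) - 1) : Bˣ) : B) ↔
      WittVector.truncate (m - s) c = 0 := by
  haveI : CharP B p := charP_B (p := p) (S := S) (B := B)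
  constructor
  · intro h
    apply TruncatedWittVector.ext
    intro k
    obtain ⟨k, hk⟩ := k
    rw [WittVector.coeff_truncate, TruncatedWittVector.coeff_zero]
    dsimp only
    have hks : k + s < m := by omega
    have h1 := h ⟨k + s, hks⟩
    rw [vShiftTeich_coeff] at h1
    dsimp only at h1
    rw [if_neg (by omega : ¬ (k + s < s)), Nat.add_sub_cancel,
      IsScalarTower.algebraMap_apply S (PowerSeries S) B, uz_pow, key] at h1
    have hexp : i * ((p ^ k : ℕ) : ℤ) * ((p ^ (m - 1 - (k + s)) : ℕ) : ℤ)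
        + (-((p : ℤ) ^ (m - 1 - s) * i) - 1) = -1 := by
      have hpow : (p : ℤ) ^ (m - 1 - s) = (p : ℤ) ^ k * (p : ℤ) ^ (m - 1 - (k + s)) := by
        rw [← pow_add]; congr 1; omega
      push_cast
      linear_combination (-i) * hpow
    rw [hexp] at h1
    by_contra hne
    have hcc : PowerSeries.constantCoeff
        ((algebraMap S (PowerSeries S) (c.coeff k)) ^ (p ^ (m - 1 - (k + s)))) ≠ 0 := by
      rw [map_pow, hC, PowerSeries.constantCoeff_C]
      exact pow_ne_zero _ hne
    have := nonneg_of_mem u hu _ hcc _ h1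
    omega
  · intro h j
    obtain ⟨j, hj⟩ := j
    rw [vShiftTeich_coeff]
    dsimp only
    by_cases hjs : j < s
    · rw [if_pos hjs, zero_pow (pow_ne_zero _ hp.out.ne_zero), zero_mul]
      exact ⟨0, map_zero _⟩
    · have hc : c.coeff (j - s) = 0 := by
        have hk : j - s < m - s := by omega
        have h3 := congrArg (TruncatedWittVector.coeff ⟨j - s, hk⟩) h
        rwa [WittVector.coeff_truncate, TruncatedWittVector.coeff_zero] at h3
      rw [if_neg hjs, hc, map_zero, zero_mul, zero_pow (pow_ne_zero _ hp.out.ne_zero), zero_mul]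
      exact ⟨0, map_zero _⟩

theorem part3 [CharP S p] (u : Bˣ) (hu : (u : B) = algebraMap (PowerSeries S) B PowerSeries.X)
    (m s : ℕ) (hs : s < m) (i : ℤ) (hsi : s = 0 ∨ ¬ ((p : ℤ) ∣ i)) (n : ℤ)
    (hn : n = (p : ℤ) ^ (m - 1 - s) * i)
    (y : TruncatedWittVector p m B)
    (hy : y ∈ WittFil.fil p m (A := PowerSeries S) ((u ^ (-n) : Bˣ) : B)) :
    ∃ c : WittVector p S,
      y - WittFil.vShiftTeich p m s ((u ^ i : Bˣ) : B) c ∈
        WittFil.fil p m (A := PowerSeries S) ((u ^ (-n - 1) : Bˣ) : B) := by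
  haveI : CharP B p := charP_B (p := p) (S := S) (B := B)
  obtain ⟨yy, rfl⟩ := WittVector.truncate_surjective p m B y
  have hy' : ∀ j (hj : j < m), (yy.coeff j) ^ (p ^ (m - 1 - j)) * ((u ^ (-n) : Bˣ) : B)
      ∈ (algebraMap (PowerSeries S) B).range := by
    intro j hj
    have h1 := hy ⟨j, hj⟩
    rwa [WittVector.coeff_truncate] at h1
  have hnd : ∀ j, j < s → ¬ (((p ^ (m - 1 - j) : ℕ) : ℤ) ∣ n) := by
    intro j hj hdvd
    have hs0 : s ≠ 0 := by omega
    have hpi : ¬ ((p : ℤ) ∣ i) := hsi.resolve_left hs0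
    apply hpi
    have hpow : (p : ℤ) ^ (m - 1 - j) = (p : ℤ) ^ (m - 1 - s) * (p : ℤ) ^ (s - j) := by
      rw [← pow_add]; congr 1; omega
    rw [hn] at hdvd
    push_cast at hdvd
    rw [hpow] at hdvd
    have hp0 : (p : ℤ) ^ (m - 1 - s) ≠ 0 :=
      pow_ne_zero _ (by exact_mod_cast hp.out.ne_zero)
    have h1 : (p : ℤ) ^ (s - j) ∣ i := (mul_dvd_mul_iff_left hp0).mp hdvd
    exact dvd_trans (dvd_pow_self _ (by omega)) h1
  have hw : ∀ j : ℕ, ∃ w : PowerSeries S, s ≤ j → j < m →
      yy.coeff j = algebraMap (PowerSeries S) B w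
        * ((u ^ (i * ((p ^ (j - s) : ℕ) : ℤ)) : Bˣ) : B) := by
    intro j
    by_cases hj : s ≤ j ∧ j < m
    · have hnQ : i * ((p ^ (j - s) : ℕ) : ℤ) * ((p ^ (m - 1 - j) : ℕ) : ℤ) = n := by
        have hpow : (p : ℤ) ^ (m - 1 - s) = (p : ℤ) ^ (j - s) * (p : ℤ) ^ (m - 1 - j) := by
          rw [← pow_add]; congr 1; omega
        rw [hn]
        push_cast
        linear_combination (-i) * hpow
      obtain ⟨w, hw⟩ := exists_w u hu (yy.coeff j) (i * ((p ^ (j - s) : ℕ) : ℤ)) n
        (p ^ (m - 1 - j)) (pow_pos hp.out.pos _) hnQ (hy' j hj.2)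
      exact ⟨w, fun _ _ => hw⟩
    · exact ⟨0, fun h1 h2 => absurd ⟨h1, h2⟩ hj⟩
  choose w hw using hw
  obtain ⟨c, hc⟩ : ∃ c : WittVector p S,
      c = WittVector.mk p (fun k => PowerSeries.constantCoeff (w (k + s))) := ⟨_, rfl⟩
  obtain ⟨t, ht⟩ : ∃ t : ℕ → B, ∀ j, t j = if j < s then 0 else
      algebraMap S B (c.coeff (j - s)) * ((u ^ i : Bˣ) : B) ^ (p ^ (j - s)) :=
    ⟨_, fun _ => rfl⟩
  have hα := truncate_eq_sum (p := p) m yy
  have hβ : WittFil.vShiftTeich p m s ((u ^ i : Bˣ) : B) c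
      = WittVector.truncate m (∑ j ∈ Finset.range m,
          (⇑(WittVector.verschiebung : WittVector p B →+ WittVector p B))^[j]
          (WittVector.teichmuller p (t j))) := by
    unfold WittFil.vShiftTeich
    apply truncate_eq_of_coeff
    intro j hj
    rw [sum_iterV_teich_coeff, if_pos hj, iterV_coeff, H9Witt.mul_teich_coeff,
      WittVector.map_coeff, ht]
  have hsum : (∑ j ∈ Finset.range m,
        (⇑(WittVector.verschiebung : WittVector p B →+ WittVector p B))^[j]
          (WittVector.teichmuller p (yy.coeff j)))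
      - (∑ j ∈ Finset.range m,
        (⇑(WittVector.verschiebung : WittVector p B →+ WittVector p B))^[j]
          (WittVector.teichmuller p (t j)))
      = ∑ j ∈ Finset.range m,
        (⇑(WittVector.verschiebung : WittVector p B →+ WittVector p B))^[j]
          (WittVector.teichmuller p (yy.coeff j) - WittVector.teichmuller p (t j)) := by
    rw [← Finset.sum_sub_distrib]
    apply Finset.sum_congr rfl
    intro j _
    rw [iterate_map_sub]
  refine ⟨c, ?_⟩
  rw [hα, hβ, ← map_sub, hsum, map_sum]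
  apply sum_mem_fil (hclosed' (p := p) u hu)
  intro j hj
  have hjm : j < m := Finset.mem_range.mp hj
  intro k
  obtain ⟨k, hk⟩ := k
  rw [WittVector.coeff_truncate, iterV_coeff]
  dsimp only
  by_cases hkj : k < j
  · rw [if_pos hkj, zero_pow (pow_ne_zero _ hp.out.ne_zero), zero_mul]
    exact ⟨0, map_zero _⟩
  rw [if_neg hkj]
  by_cases hjs : j < s
  · have ht0 : t j = 0 := by rw [ht, if_pos hjs]
    rw [ht0, WittVector.teichmuller_zero, sub_zero]
    by_cases hkj' : k = j
    · rw [hkj', Nat.sub_self, WittVector.teichmuller_coeff_zero]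
      exact mem_succ_of_not_dvd u hu (yy.coeff j) n (p ^ (m - 1 - j)) (pow_pos hp.out.pos _)
        (hnd j hjs) (hy' j hjm)
    · rw [WittVector.teichmuller_coeff_pos p _ (k - j) (by omega),
        zero_pow (pow_ne_zero _ hp.out.ne_zero), zero_mul]
      exact ⟨0, map_zero _⟩
  · push Not at hjs
    have hwj := hw j hjs hjm
    have hcj : c.coeff (j - s) = PowerSeries.constantCoeff (w j) := by
      rw [hc, WittVector.coeff_mk, Nat.sub_add_cancel hjs]
    have htj : t j = algebraMap (PowerSeries S) B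
          (PowerSeries.C (PowerSeries.constantCoeff (w j)))
        * ((u ^ (i * ((p ^ (j - s) : ℕ) : ℤ)) : Bˣ) : B) := by
      rw [ht, if_neg (by omega), hcj, IsScalarTower.algebraMap_apply S (PowerSeries S) B, hC,
        uz_pow]
    have hD : WittVector.teichmuller p (yy.coeff j) - WittVector.teichmuller p (t j)
        = WittVector.map (algebraMap (PowerSeries S) B)
            (WittVector.teichmuller p (w j)
              - WittVector.teichmuller p (PowerSeries.C (PowerSeries.constantCoeff (w j))))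
          * WittVector.teichmuller p (((u ^ (i * ((p ^ (j - s) : ℕ) : ℤ)) : Bˣ) : B)) := by
      rw [hwj, htj, map_mul (WittVector.teichmuller p), map_mul (WittVector.teichmuller p),
        map_sub, WittVector.map_teichmuller, WittVector.map_teichmuller, sub_mul]
    rw [hD, H9Witt.mul_teich_coeff, WittVector.map_coeff]
    obtain ⟨d', hd'⟩ := teich_sub_coeff (p := p) (w j) (k - j)
    rw [hd', uz_pow, key]
    have hexp : i * ((p ^ (j - s) : ℕ) : ℤ) * ((p ^ (k - j) : ℕ) : ℤ)
        * ((p ^ (m - 1 - k) : ℕ) : ℤ) + (-n - 1) = -1 := by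
      have hpow : (p : ℤ) ^ (m - 1 - s)
          = (p : ℤ) ^ (j - s) * (p : ℤ) ^ (k - j) * (p : ℤ) ^ (m - 1 - k) := by
        rw [← pow_add, ← pow_add]; congr 1; omega
      rw [hn]
      push_cast
      linear_combination (-i) * hpow
    rw [hexp]
    have hP1 : 1 ≤ p ^ (m - 1 - k) := Nat.one_le_pow _ _ hp.out.pos
    obtain ⟨P, hP⟩ : ∃ P : ℕ, P = p ^ (m - 1 - k) := ⟨_, rfl⟩
    rw [← hP] at hP1 ⊢
    rw [mul_pow, mul_comm (PowerSeries.X ^ P) (d' ^ P), map_mul, ← uz_nat u hu, mul_assoc,
      uz_mul]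
    exact mem_of_nonneg u hu _ _ (by omega)

theorem main [CharP S p] (u : Bˣ) (hu : (u : B) = algebraMap (PowerSeries S) B PowerSeries.X)
    (m s : ℕ) (hs : s < m) (i : ℤ) (hsi : s = 0 ∨ ¬ ((p : ℤ) ∣ i)) :
    (∀ c : WittVector p S,
        WittFil.vShiftTeich p m s ((u ^ i : Bˣ) : B) c ∈
          WittFil.fil p m (A := PowerSeries S)
            ((u ^ (-((p : ℤ) ^ (m - 1 - s) * i)) : Bˣ) : B)) ∧
      (∀ c : WittVector p S,
        WittFil.vShiftTeich p m s ((u ^ i : Bˣ) : B) c ∈
            WittFil.fil p m (A := PowerSeries S)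
              ((u ^ (-((p : ℤ) ^ (m - 1 - s) * i) - 1) : Bˣ) : B) ↔
          WittVector.truncate (m - s) c = 0) ∧
      (∀ y ∈ WittFil.fil p m (A := PowerSeries S)
          ((u ^ (-((p : ℤ) ^ (m - 1 - s) * i)) : Bˣ) : B),
        ∃ c : WittVector p S,
          y - WittFil.vShiftTeich p m s ((u ^ i : Bˣ) : B) c ∈
            WittFil.fil p m (A := PowerSeries S)
              ((u ^ (-((p : ℤ) ^ (m - 1 - s) * i) - 1) : Bˣ) : B)) :=
  ⟨fun c => part1 u hu m s hs i c, fun c => part2 u hu m s hs i c,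
    fun y hy => part3 u hu m s hs i hsi _ rfl y hy⟩

end concrete

end H9PS
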