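import Mathlib
import Groth.Prelude.Def_W4c6katofiltaWFil

set_option autoImplicit false
set_option linter.unusedSectionVars false
set_option linter.unusedVariables false

/-! Helper library (helper9): `x`-adic valuation arguments in `A[1/x]` for a prime `x`
of a domain with well-founded divisibility. -/

namespace H9Val

section

variable {A B : Type*} [CommRing A] [IsDomain A] [CommRing B] [Algebra A B]

theorem uz_mul (u : Bˣ) (a b : ℤ) :
    ((u ^ a : Bˣ) : B) * ((u ^ b : Bˣ) : B) = ((u ^ (a + b) : Bˣ) : B) := by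
  rw [← Units.val_mul, ← zpow_add]

theorem uz_pow (u : Bˣ) (a : ℤ) (N : ℕ) :
    ((u ^ a : Bˣ) : B) ^ N = ((u ^ (a * (N : ℤ)) : Bˣ) : B) := by
  rw [← Units.val_pow_eq_pow_val, ← zpow_natCast, ← zpow_mul]

theorem uz_nat (x : A) (u : Bˣ) (hu : (u : B) = algebraMap A B x) (k : ℕ) :
    ((u ^ (k : ℤ) : Bˣ) : B) = algebraMap A B (x ^ k) := by
  rw [zpow_natCast, Units.val_pow_eq_pow_val, hu, map_pow]

theorem key (u : Bˣ) (a : A) (r N : ℤ) (Q : ℕ) :
    (algebraMap A B a * ((u ^ r : Bˣ) : B)) ^ Q * ((u ^ N : Bˣ) : B)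
      = algebraMap A B (a ^ Q) * ((u ^ (r * (Q : ℤ) + N) : Bˣ) : B) := by
  rw [mul_pow, uz_pow, mul_assoc, uz_mul, map_pow]

theorem mem_of_nonneg (x : A) (u : Bˣ) (hu : (u : B) = algebraMap A B x)
    (a : A) (M : ℤ) (hM : 0 ≤ M) :
    algebraMap A B a * ((u ^ M : Bˣ) : B) ∈ (algebraMap A B).range := by
  obtain ⟨k, rfl⟩ := Int.eq_ofNat_of_zero_le hM
  rw [uz_nat x u hu, ← map_mul]
  exact ⟨_, rfl⟩

variable (x : A) (hx : Prime x) [IsLocalization.Away x B]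

include hx in
theorem inj : Function.Injective (algebraMap A B) :=
  IsLocalization.injective B
    (powers_le_nonZeroDivisors_of_noZeroDivisors hx.ne_zero)

include hx in
theorem nonneg_of_mem (u : Bˣ) (hu : (u : B) = algebraMap A B x)
    (a : A) (ha : ¬ x ∣ a) (M : ℤ)
    (h : algebraMap A B a * ((u ^ M : Bˣ) : B) ∈ (algebraMap A B).range) : 0 ≤ M := by
  by_contra hneg
  push Not at hneg
  obtain ⟨b, hb⟩ := h
  obtain ⟨k, hk⟩ : ∃ k : ℕ, -M = ((k + 1 : ℕ) : ℤ) := ⟨(-M - 1).toNat, by omega⟩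
  have h1 : algebraMap A B a = algebraMap A B (b * x ^ (k + 1)) := by
    rw [map_mul, ← uz_nat x u hu, ← hk, hb, mul_assoc, uz_mul, add_neg_cancel, zpow_zero,
      Units.val_one, mul_one]
  have h2 := inj (B := B) x hx h1
  apply ha
  exact ⟨b * x ^ k, by rw [h2]; ring⟩

include hx in
theorem exists_repr [WfDvdMonoid A] (u : Bˣ) (hu : (u : B) = algebraMap A B x) (y : B) :
    y = 0 ∨ ∃ (r : ℤ) (a : A), ¬ x ∣ a ∧ y = algebraMap A B a * ((u ^ r : Bˣ) : B) := by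
  obtain ⟨⟨a₀, s⟩, hs⟩ := IsLocalization.surj (Submonoid.powers x) y
  obtain ⟨d, hd⟩ := s.2
  have hd' : x ^ d = (s : A) := hd
  have hs' : y * ((u ^ (d : ℤ) : Bˣ) : B) = algebraMap A B a₀ := by
    rw [uz_nat x u hu, hd']; exact hs
  have hy : y = algebraMap A B a₀ * ((u ^ (-(d : ℤ)) : Bˣ) : B) := by
    rw [← hs', mul_assoc, uz_mul, add_neg_cancel, zpow_zero, Units.val_one, mul_one]
  by_cases ha0 : a₀ = 0
  · left
    rw [hy, ha0, map_zero, zero_mul]
  · right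
    obtain ⟨k, a', ha', h1⟩ := WfDvdMonoid.max_power_factor ha0 hx.irreducible
    refine ⟨(k : ℤ) + -(d : ℤ), a', ha', ?_⟩
    rw [hy, h1, mul_comm (x ^ k) a', map_mul, ← uz_nat x u hu, mul_assoc, uz_mul]

include hx in
theorem mem_succ_of_not_dvd [WfDvdMonoid A] (u : Bˣ) (hu : (u : B) = algebraMap A B x)
    (y : B) (n : ℤ) (Q : ℕ) (hQ : 0 < Q) (hQn : ¬ ((Q : ℤ) ∣ n))
    (h : y ^ Q * ((u ^ n : Bˣ) : B) ∈ (algebraMap A B).range) :
    y ^ Q * ((u ^ (n - 1) : Bˣ) : B) ∈ (algebraMap A B).range := by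
  rcases exists_repr x hx u hu y with rfl | ⟨r, a, ha, rfl⟩
  · rw [zero_pow (by omega), zero_mul]
    exact ⟨0, map_zero _⟩
  · rw [key] at h ⊢
    have h1 := nonneg_of_mem x hx u hu (a ^ Q) (fun hd => ha (hx.dvd_of_dvd_pow hd)) _ h
    have hne : r * (Q : ℤ) ≠ -n := fun heq => hQn ⟨-r, by linarith⟩
    have h2 : 0 ≤ r * (Q : ℤ) + (n - 1) := by
      generalize r * (Q : ℤ) = z at h1 hne
      omega
    exact mem_of_nonneg x u hu _ _ h2

end

end H9Val
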